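import Groth.Agent.CycCov.K926.Alg
import Mathlib.RingTheory.IntegralClosure.IsIntegralClosure.Basic

/-!
# Normalised cyclic covers: the eigenspace decomposition (ring level)
-/

set_option autoImplicit false

open Polynomial Finset

namespace K926.Cov

open K926.Alg

section

variable {B C : Type*} [CommRing B] [CommRing C] [Algebra B C]

/-- `(C, t)` is generically the algebra `B[T]/(T ^ N - f)` and is normal. -/
structure IsCov (N : ℕ) (f : B) (t : C) : Prop where
  pow : t ^ N = algebraMap B C f
  indep : ∀ p : B[X], p.degree < N → aeval t p = 0 → p = 0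
  gen : ∀ c : C, ∃ b : B, b ≠ 0 ∧ ∃ p : B[X], algebraMap B C b * c = aeval t p
  tors : ∀ (b : B) (c : C), b ≠ 0 → algebraMap B C b * c = 0 → c = 0
  int : Algebra.IsIntegral B C
  root : ∀ g c : C, g ^ N ∣ c ^ N → g ∣ c

variable {N : ℕ} {f : B} {t : C}

/-- Reduce a polynomial modulo `X ^ N - f`. -/
theorem IsCov.exists_degree_lt [Nontrivial B] (h : IsCov N f t) (hN : 0 < N) (q : B[X]) :
    ∃ p : B[X], p.degree < N ∧ aeval t p = aeval t q ∧ p = q %ₘ (X ^ N - Polynomial.C f) := by
  have hm : (X ^ N - Polynomial.C f).Monic := monic_X_pow_sub_C f hN.ne'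
  refine ⟨q %ₘ (X ^ N - Polynomial.C f), ?_, ?_, rfl⟩
  · have h1 := degree_modByMonic_lt q hm
    rwa [degree_X_pow_sub_C hN] at h1
  · rw [modByMonic_eq_sub_mul_div, map_sub, map_mul]
    simp [h.pow]

theorem IsCov.chart_injective [Nontrivial B] (h : IsCov N f t) (hN : 0 < N)
    (q : B[X]) (hq : aeval t q = 0) : (X ^ N - Polynomial.C f) ∣ q := by
  obtain ⟨p, hp, hpq, rfl⟩ := h.exists_degree_lt hN q
  rw [hq] at hpq
  have h1 := h.indep _ hp hpq
  exact (modByMonic_eq_zero_iff_dvd (monic_X_pow_sub_C f hN.ne')).mp h1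

/-- Coefficients of an element of the cover are integral in the eigenspace sense. -/
theorem IsCov.pow_dvd_coeff [IsDomain B] [IsIntegrallyClosed B] (h : IsCov N f t) (hN : 0 < N)
    (hNu : IsUnit (N : B)) {ζ : B} (hζN : ζ ^ N = 1)
    (hζ : ∀ l, ¬ N ∣ l → ∑ m ∈ range N, ζ ^ (m * l) = 0) {c : C} {b : B} (hb : b ≠ 0) {p : B[X]}
    (hp : p.degree < N) (hc : algebraMap B C b * c = aeval t p) {i : ℕ} (hi : i < N) :
    b ^ N ∣ p.coeff i ^ N * f ^ i := by
  classical
  let K := FractionRing B
  let F : B[X] := X ^ N - Polynomial.C f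
  let FK : K[X] := X ^ N - Polynomial.C (algebraMap B K f)
  have hFK : F.map (algebraMap B K) = FK := by simp [F, FK]
  have hFKm : FK.Monic := monic_X_pow_sub_C _ hN.ne'
  have hinj : Function.Injective (algebraMap B K) := IsFractionRing.injective B K
  let E := AdjoinRoot FK
  have hEnt : Nontrivial E := AdjoinRoot.nontrivial _ (by
    simp only [FK]
    rw [degree_X_pow_sub_C hN]
    exact_mod_cast hN.ne')
  let τ : E := AdjoinRoot.root FK
  have hτ : τ ^ N = algebraMap K E (algebraMap B K f) := by
    have h1 := AdjoinRoot.eval₂_root FK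
    simp only [FK, eval₂_sub, eval₂_X_pow, eval₂_C] at h1
    exact sub_eq_zero.mp h1
  have hKE : Function.Injective (algebraMap K E) := (algebraMap K E).injective
  haveI : IsScalarTower B K E := inferInstance
  -- the element x
  have hbK : algebraMap B K b ≠ 0 := (map_ne_zero_iff _ hinj).mpr hb
  obtain ⟨x, hbx⟩ : ∃ x : E, algebraMap B E b * x = aeval τ p := by
    refine ⟨algebraMap K E (algebraMap B K b)⁻¹ * aeval τ p, ?_⟩
    rw [← mul_assoc, IsScalarTower.algebraMap_apply B K E, ← map_mul, mul_inv_cancel₀ hbK, map_one,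
      one_mul]
  have hx : IsIntegral B x := by
    obtain ⟨P, hPm, hP⟩ := h.int.isIntegral c
    refine ⟨P, hPm, ?_⟩
    have h1 : aeval (algebraMap B C b * c) (P.scaleRoots b) = 0 :=
      scaleRoots_aeval_eq_zero (by simpa [aeval_def] using hP)
    rw [hc] at h1
    have h2 : aeval t ((P.scaleRoots b).comp p) = 0 := by
      rw [aeval_comp]; exact h1
    have h3 := h.chart_injective hN _ h2
    have h4 : aeval τ ((P.scaleRoots b).comp p) = 0 := by
      obtain ⟨Q, hQ⟩ := h3
      rw [hQ, map_mul]
      simp only [map_sub, map_pow, aeval_X, aeval_C]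
      rw [hτ, IsScalarTower.algebraMap_apply B K E, sub_self, zero_mul]
    rw [aeval_comp, ← hbx] at h4
    rw [aeval_def, scaleRoots_eval₂_mul] at h4
    have hbE : IsUnit (algebraMap B E b) := by
      rw [IsScalarTower.algebraMap_apply B K E]
      exact (IsUnit.mk0 _ hbK).map _
    exact (hbE.pow _).mul_right_eq_zero.mp h4
  -- the automorphisms
  have hσex : ∀ m : ℕ, ∃ σ : E →ₐ[K] E, σ τ = algebraMap B E ζ ^ m * τ := by
    intro m
    refine ⟨AdjoinRoot.liftAlgHom FK (Algebra.ofId K E) (algebraMap B E ζ ^ m * τ) ?_, ?_⟩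
    · simp only [FK, eval₂_sub, eval₂_X_pow, eval₂_C]
      rw [mul_pow, ← pow_mul, mul_comm m N, pow_mul, ← map_pow, hζN, map_one, one_pow, one_mul, hτ]
      exact sub_self _
    · exact AdjoinRoot.liftAlgHom_root _ _ _ _
  choose σ hσ using hσex
  have hxsum : aeval τ p = ∑ l ∈ range N, algebraMap B E (p.coeff l) * τ ^ l := by
    rw [aeval_eq_sum_range' (n := N)]
    · simp [Algebra.smul_def]
    · by_cases hp0 : p = 0
      · simp [hp0, hN]
      · exact (natDegree_lt_iff_degree_lt hp0).mpr hp
  have hσx : ∀ m, σ m (aeval τ p) = ∑ l ∈ range N, algebraMap B E (p.coeff l) *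
      (algebraMap B E ζ ^ (m * l) * τ ^ l) := by
    intro m
    rw [hxsum, map_sum]
    refine Finset.sum_congr rfl fun l _ => ?_
    rw [map_mul, map_pow, hσ, mul_pow, ← pow_mul]
    congr 1
    rw [IsScalarTower.algebraMap_apply B K E]
    exact (σ m).commutes _
  have hσx' : ∀ m, IsIntegral B (σ m x) := fun m => hx.map ((σ m).restrictScalars B)
  obtain ⟨z, hzdef⟩ : ∃ z : E, z = ∑ m ∈ range N, algebraMap B E ζ ^ (m * (N - i)) * σ m x := ⟨_, rfl⟩
  have hz : IsIntegral B z := hzdef ▸ IsIntegral.sum _ fun m _ =>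
    ((isIntegral_algebraMap.pow _).mul (hσx' m))
  have hbz : algebraMap B E b * z = algebraMap B E (N * p.coeff i) * τ ^ i := by
    have h1 : ∀ m, algebraMap B E b * σ m x = σ m (aeval τ p) := by
      intro m
      rw [← hbx, map_mul]
      congr 1
      rw [IsScalarTower.algebraMap_apply B K E]
      exact ((σ m).commutes _).symm
    calc algebraMap B E b * z
        = ∑ m ∈ range N, algebraMap B E ζ ^ (m * (N - i)) * (algebraMap B E b * σ m x) := by
          rw [hzdef, Finset.mul_sum]
          exact Finset.sum_congr rfl fun m _ => by ring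
      _ = ∑ m ∈ range N, ∑ l ∈ range N, algebraMap B E (p.coeff l) * τ ^ l *
            algebraMap B E (ζ ^ (m * (N - i + l))) := by
          refine Finset.sum_congr rfl fun m _ => ?_
          rw [h1, hσx, Finset.mul_sum]
          refine Finset.sum_congr rfl fun l _ => ?_
          rw [map_pow, mul_add, pow_add]
          ring
      _ = ∑ l ∈ range N, algebraMap B E (p.coeff l) * τ ^ l *
            algebraMap B E (∑ m ∈ range N, ζ ^ (m * (N - i + l))) := by
          rw [Finset.sum_comm]
          refine Finset.sum_congr rfl fun l _ => ?_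
          rw [map_sum, Finset.mul_sum]
      _ = algebraMap B E (p.coeff i) * τ ^ i * algebraMap B E (N : B) := by
          rw [Finset.sum_eq_single i]
          · congr 2
            have : N - i + i = N := by omega
            simp only [this]
            rw [Finset.sum_congr rfl (fun m _ => by rw [mul_comm m N, pow_mul, hζN, one_pow])]
            simp
          · intro l hl hli
            rw [hζ, map_zero, mul_zero]
            rintro ⟨e, he⟩
            have hl' := Finset.mem_range.mp hl
            have h5 : e = 1 := by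
              rcases Nat.lt_trichotomy e 1 with h6 | h6 | h6
              · interval_cases e; omega
              · exact h6
              · have : N * 2 ≤ N * e := Nat.mul_le_mul_left N h6
                omega
            subst h5
            omega
          · intro hni
            exact absurd (Finset.mem_range.mpr hi) hni
      _ = _ := by rw [map_mul]; ring
  -- the N-th power
  have hzN : algebraMap K E ((algebraMap B K b)⁻¹ ^ N * algebraMap B K ((N * p.coeff i) ^ N * f ^ i))
      = z ^ N := by
    have h1 : z = algebraMap K E (algebraMap B K b)⁻¹ * (algebraMap B E (N * p.coeff i) * τ ^ i) := by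
      rw [← hbz, ← mul_assoc, IsScalarTower.algebraMap_apply B K E b, ← map_mul,
        inv_mul_cancel₀ hbK, map_one, one_mul]
    have h2 : (τ ^ i) ^ N = algebraMap K E (algebraMap B K f) ^ i := by
      rw [← hτ, ← pow_mul, ← pow_mul, mul_comm]
    have h3 : z ^ N = algebraMap K E (algebraMap B K b)⁻¹ ^ N *
        (algebraMap B E (N * p.coeff i) ^ N * (τ ^ i) ^ N) := by
      rw [h1]; ring
    rw [h3, h2]
    simp only [map_mul, map_pow, IsScalarTower.algebraMap_apply B K E]
  have h6 : IsIntegral B ((algebraMap B K b)⁻¹ ^ N * algebraMap B K ((N * p.coeff i) ^ N * f ^ i)) := by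
    rw [← isIntegral_algebraMap_iff hKE, hzN]
    exact hz.pow N
  obtain ⟨y, hy⟩ := IsIntegrallyClosed.isIntegral_iff.mp h6
  have h7 : b ^ N * y = (N * p.coeff i) ^ N * f ^ i := by
    apply hinj
    rw [map_mul, hy, ← mul_assoc, map_pow, ← mul_pow, mul_inv_cancel₀ hbK, one_pow, one_mul]
  have h8 : b ^ N ∣ (N : B) ^ N * (p.coeff i ^ N * f ^ i) := ⟨y, by rw [h7]; ring⟩
  exact ((hNu.pow N).dvd_mul_left).mp h8

/-- Hypotheses on the base ring and a "boundary" element `H`. -/
structure IsBase (B : Type*) [CommRing B] [IsDomain B] (H : B) : Prop where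
  ufd : ∀ p : Ideal B, ∀ _ : p.IsMaximal, UniqueFactorizationMonoid (Localization.AtPrime p)
  sq : ∀ p : Ideal B, ∀ _ : p.IsMaximal, Squarefree (algebraMap B (Localization.AtPrime p) H)

/-- The structure theorem: a normal generically cyclic cover has the basis
`w_i = t ^ i / G_i`. -/
theorem IsCov.exists_basis [IsDomain B] [IsIntegrallyClosed B] (h : IsCov N f t) (hN : 0 < N)
    (hNu : IsUnit (N : B)) {ζ : B} (hζN : ζ ^ N = 1)
    (hζ : ∀ l, ¬ N ∣ l → ∑ m ∈ range N, ζ ^ (m * l) = 0) {H : B} (hB : IsBase B H)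
    (G : ℕ → B) (hG0 : ∀ i < N, G i ≠ 0) (Q : ℕ → B) (hQ : ∀ i < N, Q i ∣ H ^ (N - 1))
    (hGQ : ∀ i < N, f ^ i = G i ^ N * Q i) :
    ∃ w : ℕ → C, (∀ i < N, algebraMap B C (G i) * w i = t ^ i) ∧
      (∀ a : ℕ → B, ∑ i ∈ range N, algebraMap B C (a i) * w i = 0 → ∀ i < N, a i = 0) ∧
      ∀ c : C, ∃ a : ℕ → B, c = ∑ i ∈ range N, algebraMap B C (a i) * w i := by
  classical
  have hw : ∀ i, ∃ w : C, i < N → algebraMap B C (G i) * w = t ^ i := by
    intro i
    by_cases hi : i < N
    · have h1 : algebraMap B C (G i) ∣ t ^ i := by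
        apply h.root
        rw [← pow_mul, mul_comm i N, pow_mul, h.pow, ← map_pow, ← map_pow, hGQ i hi, map_mul]
        exact dvd_mul_right _ _
      obtain ⟨w, hw⟩ := h1
      exact ⟨w, fun _ => hw.symm⟩
    · exact ⟨0, fun h => absurd h hi⟩
  choose w hw using hw
  refine ⟨w, hw, ?_, ?_⟩
  · -- independence
    intro a ha i hi
    let PG : B := ∏ l ∈ range N, G l
    have hPG : ∀ l < N, PG = G l * ∏ j ∈ (range N).erase l, G j := fun l hl =>
      (Finset.mul_prod_erase _ _ (Finset.mem_range.mpr hl)).symm
    let p : B[X] := ∑ l ∈ range N, Polynomial.monomial l (a l * ∏ j ∈ (range N).erase l, G j)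
    have hpdeg : p.degree < N := by
      refine (Polynomial.degree_sum_le _ _).trans_lt ?_
      rw [Finset.sup_lt_iff (by exact_mod_cast WithBot.bot_lt_coe N)]
      intro l hl
      exact (Polynomial.degree_monomial_le _ _).trans_lt (by exact_mod_cast Finset.mem_range.mp hl)
    have hp0 : aeval t p = 0 := by
      simp only [p, map_sum, aeval_monomial]
      have h1 : algebraMap B C PG * ∑ i ∈ range N, algebraMap B C (a i) * w i = 0 := by
        rw [ha, mul_zero]
      rw [← h1, Finset.mul_sum]
      refine Finset.sum_congr rfl fun l hl => ?_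
      rw [← hw l (Finset.mem_range.mp hl), hPG l (Finset.mem_range.mp hl)]
      simp only [map_mul]
      ring
    have h2 := h.indep p hpdeg hp0
    have h3 : p.coeff i = a i * ∏ j ∈ (range N).erase i, G j := by
      simp only [p, finset_sum_coeff, coeff_monomial]
      rw [Finset.sum_eq_single i]
      · simp
      · intro l _ hl
        simp [hl]
      · intro h; exact absurd (Finset.mem_range.mpr hi) h
    rw [h2, coeff_zero] at h3
    rcases mul_eq_zero.mp h3.symm with h4 | h4
    · exact h4
    · exact absurd h4 (Finset.prod_ne_zero_iff.mpr fun j hj =>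
        hG0 j (Finset.mem_range.mp (Finset.mem_of_mem_erase hj)))
  · intro c
    obtain ⟨b, hb, q, hq⟩ := h.gen c
    obtain ⟨p, hp, hpq, -⟩ := h.exists_degree_lt hN q
    rw [← hpq] at hq
    have key : ∀ i, ∃ y : B, i < N → b * y = p.coeff i * G i := by
      intro i
      by_cases hi : i < N
      · obtain ⟨e, he⟩ := h.pow_dvd_coeff hN hNu hζN hζ hb hp hq hi
        let K := FractionRing B
        have hinj : Function.Injective (algebraMap B K) := IsFractionRing.injective B K
        have hbK : algebraMap B K b ≠ 0 := (map_ne_zero_iff _ hinj).mpr hb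
        obtain ⟨y, hy⟩ := mem_of_pow_mul_mem (K := K) hB.ufd hB.sq hN (hQ i hi)
          (a := algebraMap B K (p.coeff i * G i) / algebraMap B K b) ⟨e, by
            rw [div_pow, div_mul_eq_mul_div, eq_div_iff (pow_ne_zero _ hbK), ← map_pow, ← map_pow,
              ← map_mul, ← map_mul, mul_comm e, ← he, hGQ i hi]
            ring_nf⟩
        refine ⟨y, fun _ => ?_⟩
        apply hinj
        rw [map_mul, hy, mul_div_cancel₀ _ hbK]
      · exact ⟨0, fun h => absurd h hi⟩
    choose y hy using key
    refine ⟨y, ?_⟩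
    rw [← sub_eq_zero]
    apply h.tors b _ hb
    rw [mul_sub, hq, aeval_eq_sum_range' (n := N), Finset.mul_sum, ← Finset.sum_sub_distrib]
    · refine Finset.sum_eq_zero fun i hi => ?_
      rw [Finset.mem_range] at hi
      rw [Algebra.smul_def, ← hw i hi, ← mul_assoc, ← mul_assoc, ← map_mul, ← map_mul, hy i hi,
        sub_self]
    · by_cases hp0 : p = 0
      · simp [hp0, hN]
      · exact (natDegree_lt_iff_degree_lt hp0).mpr hp

end

end K926.Cov
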