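import Groth.Agent.CycCov.K926.Str
import Groth.Agent.CycCov.K926.Cov
import Groth.Agent.VarietyA.RegSmoothSch
import Groth.Agent.S2821
import Groth.Agent.Ega43.EtaleReduced
import Mathlib.RingTheory.LocalProperties.IntegrallyClosed

/-!
# The base of a cyclic cover: smooth schemes over a field and charts of normal crossing divisors
-/

set_option autoImplicit false
universe u

open CategoryTheory CategoryTheory.Limits AlgebraicGeometry Opposite TopologicalSpace

namespace K926.Base

open K926.Str

variable {k : Type u} [Field k] {X : Scheme.{u}}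

theorem exists_stalk_equiv {V : X.Opens} (hV : IsAffineOpen V) (q : Ideal Γ(X, V)) [hq : q.IsPrime] :
    ∃ x : X, ∃ _ : x ∈ V, Nonempty (X.presheaf.stalk x ≃+* Localization.AtPrime q) := by
  let z : PrimeSpectrum Γ(X, V) := ⟨q, hq⟩
  have hz : hV.fromSpec z ∈ V := by
    have := hV.range_fromSpec
    rw [← SetLike.mem_coe, ← this]
    exact ⟨z, rfl⟩
  letI := TopCat.Presheaf.algebra_section_stalk X.presheaf ⟨hV.fromSpec z, hz⟩
  have hloc : IsLocalization.AtPrime (X.presheaf.stalk (hV.fromSpec z)) q :=
    hV.isLocalization_stalk' z hz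
  exact ⟨_, hz, ⟨(IsLocalization.algEquiv q.primeCompl (X.presheaf.stalk (hV.fromSpec z))
    (Localization.AtPrime q)).toRingEquiv⟩⟩

theorem regular_stalk (f : X ⟶ Spec (CommRingCat.of k)) [Smooth f] (x : X) :
    IsRegularLocalRing (X.presheaf.stalk x) := by
  apply Groth.Agent.VarietyA.RegSmoothSch.isRegularLocalRing_stalk_of_mem_smoothLocus f
  rw [Scheme.Hom.smoothLocus_eq_top]
  trivial

theorem regular_localization (f : X ⟶ Spec (CommRingCat.of k)) [Smooth f] {V : X.Opens}
    (hV : IsAffineOpen V) (q : Ideal Γ(X, V)) [hq : q.IsPrime] :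
    IsRegularLocalRing (Localization.AtPrime q) := by
  obtain ⟨x, hx, ⟨e⟩⟩ := exists_stalk_equiv hV q
  have := regular_stalk f x
  exact IsRegularLocalRing.of_ringEquiv e

theorem ufd_localization (f : X ⟶ Spec (CommRingCat.of k)) [Smooth f] {V : X.Opens}
    (hV : IsAffineOpen V) (q : Ideal Γ(X, V)) [hq : q.IsPrime] :
    IsDomain (Localization.AtPrime q) ∧ UniqueFactorizationMonoid (Localization.AtPrime q) := by
  have := regular_localization f hV q
  exact Groth.Agent.S2821.result _

theorem isIntegrallyClosed (f : X ⟶ Spec (CommRingCat.of k)) [Smooth f] [IsIntegral X]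
    {V : X.Opens} (hV : IsAffineOpen V) (hne : (V : Set X).Nonempty) :
    IsIntegrallyClosed Γ(X, V) := by
  have : Nonempty V := hne.to_subtype
  apply IsIntegrallyClosed.of_localization_maximal
  intro P hP hPm
  obtain ⟨h1, h2⟩ := ufd_localization f hV P
  infer_instance

/-- Squarefreeness in the localizations from reducedness of the quotient. -/
theorem squarefree_of_isReduced {B : Type*} [CommRing B] [IsDomain B] {H : B} (hH : H ≠ 0)
    (h : (Ideal.span {H}).IsRadical) (p : Ideal B) [p.IsPrime] :
    Squarefree (algebraMap B (Localization.AtPrime p) H) := by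
  have hle : p.primeCompl ≤ nonZeroDivisors B := p.primeCompl_le_nonZeroDivisors
  have hinj : Function.Injective (algebraMap B (Localization.AtPrime p)) :=
    IsLocalization.injective _ hle
  have hdom : IsDomain (Localization.AtPrime p) := IsLocalization.isDomain_localization hle
  have h0 : algebraMap B (Localization.AtPrime p) H ≠ 0 := (map_ne_zero_iff _ hinj).mpr hH
  have hrad : (Ideal.span {algebraMap B (Localization.AtPrime p) H}).IsRadical := by
    have h1 := IsLocalization.map_radical p.primeCompl (S := Localization.AtPrime p) (Ideal.span {H})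
    rw [h.radical, Ideal.map_span, Set.image_singleton] at h1
    rw [h1]
    exact Ideal.radical_isRadical _
  intro x hx
  obtain ⟨y, hy⟩ := hx
  have h2 : (x * y) ^ 2 ∈ Ideal.span {algebraMap B (Localization.AtPrime p) H} :=
    Ideal.mem_span_singleton.mpr ⟨y, by rw [hy]; ring⟩
  obtain ⟨z, hz⟩ := Ideal.mem_span_singleton.mp (hrad ⟨2, h2⟩)
  have hxy : x * y ≠ 0 := by
    intro h3
    apply h0
    rw [hy, mul_assoc, h3, mul_zero]
  refine IsUnit.of_mul_eq_one z ?_
  have h4 : (x * y) * (x * z) = (x * y) * 1 := by
    rw [mul_one]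
    conv_rhs => rw [hz, hy]
    ring
  exact mul_left_cancel₀ hxy h4

/-- A product of distinct variables generates a radical ideal. -/
theorem isRadical_prod_X {k : Type*} [Field k] {σ ι : Type*} (s : Finset ι) (e : ι → σ)
    (he : Set.InjOn e s) :
    (Ideal.span {∏ i ∈ s, (MvPolynomial.X (e i) : MvPolynomial σ k)}).IsRadical := by
  have hsq : Squarefree (∏ i ∈ s, (MvPolynomial.X (e i) : MvPolynomial σ k)) := by
    apply Finset.squarefree_prod_of_pairwise_isCoprime
    · intro i hi j hj hij
      refine ((MvPolynomial.X_prime (R := k)).irreducible.isRelPrime_iff_not_dvd).mpr ?_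
      rw [MvPolynomial.X_dvd_X]
      exact fun h => hij (he hi hj h)
    · intro i _
      exact (MvPolynomial.X_prime (R := k)).squarefree
  rw [← isRadical_iff_span_singleton]
  exact hsq.isRadical

/-- The image of a radical ideal under an étale map of Noetherian rings generates a radical ideal. -/
theorem isRadical_map_etale {A B : Type*} [CommRing A] [CommRing B] [Algebra A B] [Algebra.Etale A B]
    [IsNoetherianRing A] {I : Ideal A} (hI : I.IsRadical) : (I.map (algebraMap A B)).IsRadical := by
  have h1 : IsReduced (A ⧸ I) := (Ideal.isRadical_iff_quotient_reduced I).mp hI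
  let e : TensorProduct A (A ⧸ I) B ≃+* B ⧸ I.map (algebraMap A B) :=
    (Algebra.TensorProduct.quotIdealMapEquivQuotTensor B I).symm.toRingEquiv |> fun e => e
  have h2 : IsReduced (TensorProduct A (A ⧸ I) B) :=
    Groth.Agent.Ega43.EtaleReduced.isReduced_of_etale (A ⧸ I) _
  rw [Ideal.isRadical_iff_quotient_reduced]
  exact isReduced_of_injective e.symm.toRingHom e.symm.injective

end K926.Base
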