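import Groth.Agent.CycCov.K926.Loc
import Mathlib.RingTheory.RootsOfUnity.AlgebraicallyClosed

/-!
# Algebra of the base chart of a cyclic cover
-/

set_option autoImplicit false
universe u

open CategoryTheory CategoryTheory.Limits AlgebraicGeometry Opposite TopologicalSpace
open Groth.Agent.Fdesc.LocGen

namespace K926.Loc

open K926.Str K926.Base K926.Frame K926.Cov
open Groth.Agent.CurvesC.NodeEt

variable {k : Type u} [Field k] {X : Scheme.{u}}

/-- Primitive roots of unity in an algebraically closed field. -/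
theorem exists_zeta [IsAlgClosed k] {N : ℕ} (hN : 0 < N) (hNk : (N : k) ≠ 0) :
    ∃ ζ : k, IsPrimitiveRoot ζ N ∧ ζ ^ N = 1 ∧ ∀ l, ¬ N ∣ l → ∑ m ∈ Finset.range N, ζ ^ (m * l) = 0 := by
  have : NeZero (N : k) := ⟨hNk⟩
  have : NeZero N := ⟨hN.ne'⟩
  obtain ⟨ζ, hζ⟩ := HasEnoughRootsOfUnity.exists_primitiveRoot k N
  refine ⟨ζ, hζ, hζ.pow_eq_one, ?_⟩
  intro l hl
  have h1 : ζ ^ l ≠ 1 := fun h => hl ((hζ.pow_eq_one_iff_dvd l).mp h)
  have h2 : (∑ m ∈ Finset.range N, (ζ ^ l) ^ m) * (ζ ^ l - 1) = 0 := by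
    rw [geom_sum_mul, ← pow_mul, mul_comm l N, pow_mul, hζ.pow_eq_one, one_pow, sub_self]
  rcases mul_eq_zero.mp h2 with h3 | h3
  · rw [← h3]
    refine Finset.sum_congr rfl fun m _ => ?_
    rw [← pow_mul, mul_comm]
  · exact absurd (sub_eq_zero.mp h3) h1

theorem map_zeta {A B : Type*} [CommRing A] [CommRing B] (φ : A →+* B) {N : ℕ} {ζ : A}
    (h1 : ζ ^ N = 1) (h2 : ∀ l, ¬ N ∣ l → ∑ m ∈ Finset.range N, ζ ^ (m * l) = 0) :
    (φ ζ) ^ N = 1 ∧ ∀ l, ¬ N ∣ l → ∑ m ∈ Finset.range N, (φ ζ) ^ (m * l) = 0 := by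
  refine ⟨by rw [← map_pow, h1, map_one], fun l hl => ?_⟩
  have := congrArg φ (h2 l hl)
  rw [map_sum, map_zero] at this
  simpa only [map_pow] using this

theorem isRadical_coord {f : X ⟶ Spec (CommRingCat.of k)} {U : X.Opens} {n : ℕ} {v : Fin n → Γ(X, U)}
    (hv : IsCoord f U v) (T : Finset (Fin n)) : (Ideal.span {∏ j ∈ T, v j}).IsRadical := by
  have hv' : (MvPolynomial.eval₂Hom (str f U) v).Etale := hv
  algebraize [MvPolynomial.eval₂Hom (str f U) v]
  have h1 := isRadical_map_etale (B := Γ(X, U)) (isRadical_prod_X (k := k) T (fun j : Fin n => j)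
    Function.injective_id.injOn)
  rw [Ideal.map_span, Set.image_singleton, map_prod] at h1
  have h2 : ∀ j, algebraMap (MvPolynomial (Fin n) k) Γ(X, U) (MvPolynomial.X j) = v j := fun j =>
    MvPolynomial.eval₂Hom_X' _ _ _
  simpa only [h2] using h1

theorem isRadical_coord_one {f : X ⟶ Spec (CommRingCat.of k)} {U : X.Opens} {n : ℕ} {v : Fin n → Γ(X, U)}
    (hv : IsCoord f U v) (c : Fin n) : (Ideal.span {v c}).IsRadical := by
  have := isRadical_coord hv {c}
  rwa [Finset.prod_singleton] at this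

theorem coord_mem_nonZeroDivisors {f : X ⟶ Spec (CommRingCat.of k)} {U : X.Opens} {n : ℕ}
    {v : Fin n → Γ(X, U)} (hv : IsCoord f U v) (j : Fin n) : v j ∈ nonZeroDivisors Γ(X, U) :=
  K922.EtBasis.mem_nonZeroDivisors (str f U) v hv j

theorem coord_ne_zero [IsIntegral X] {f : X ⟶ Spec (CommRingCat.of k)} {U : X.Opens} (hne : (U : Set X).Nonempty)
    {n : ℕ} {v : Fin n → Γ(X, U)} (hv : IsCoord f U v) (j : Fin n) : v j ≠ 0 := by
  have : Nonempty U := hne.to_subtype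
  exact nonZeroDivisors.ne_zero (coord_mem_nonZeroDivisors hv j)

theorem isBase [IsIntegral X] {f : X ⟶ Spec (CommRingCat.of k)} [Smooth f] {U : X.affineOpens}
    [hne : Nonempty U.1] {n : ℕ} {v : Fin n → Γ(X, U.1)} (hv : IsCoord f U.1 v)
    (T : Finset (Fin n)) : IsBase Γ(X, U.1) (∏ j ∈ T, v j) := by
  have hH : ∏ j ∈ T, v j ≠ 0 := Finset.prod_ne_zero_iff.mpr fun j _ =>
    coord_ne_zero (Set.nonempty_coe_sort.mp hne) hv j
  refine ⟨?_, ?_⟩
  · intro p hp
    exact (ufd_localization f U.2 p).2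
  · intro p hp
    exact squarefree_of_isReduced hH (isRadical_coord hv T) p

end K926.Loc
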