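import Groth.Agent.CycCov.K926.LocZ
import Groth.Agent.Picfga.ZeroDiv

/-!
# Consequences of the charts of the cover
-/

set_option autoImplicit false
universe u

open CategoryTheory CategoryTheory.Limits AlgebraicGeometry Opposite TopologicalSpace
open Groth.Agent.Fdesc.LocGen

namespace K926.Loc

open K926.Str K926.Base K926.Frame

variable {X Y : Scheme.{u}}

/-- Equality of ideals is local. -/
theorem ideal_eq_of_nhds {I J : Y.IdealSheafData} (V : Y.affineOpens)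
    (h : ∀ y ∈ V.1, ∃ V' : Y.affineOpens, y ∈ V'.1 ∧ I.ideal V' = J.ideal V') : I.ideal V = J.ideal V := by
  apply Groth.Agent.Picfga.ZeroDiv.ideal_eq_of_local
  intro y hy
  obtain ⟨V', hyV', hV'⟩ := h y hy
  obtain ⟨g, hg, hyg⟩ := V.2.exists_basicOpen_le (V := V.1 ⊓ V'.1) ⟨y, ⟨hy, hyV'⟩⟩ hy
  obtain ⟨V'', hV''⟩ : ∃ V'' : Y.affineOpens, V''.1 = Y.basicOpen g :=
    ⟨⟨Y.basicOpen g, IsAffineOpen.basicOpen V.2 g⟩, rfl⟩
  have h0 : V''.1 ≤ V.1 := hV''.trans_le (Y.basicOpen_le g)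
  have h1 : V''.1 ≤ V'.1 := hV''.trans_le (hg.trans inf_le_right)
  have h2 := Groth.Agent.Picfga.ZeroDiv.map_ores (I := I) (U := V') (V := V'') h1
  have h3 := Groth.Agent.Picfga.ZeroDiv.map_ores (I := J) (U := V') (V := V'') h1
  have h4 := Groth.Agent.Picfga.ZeroDiv.map_ores (I := J) (U := V) (V := V'') h0
  refine ⟨V'', h0, hV''.symm ▸ hyg, ?_⟩
  rw [h4, ← h3, ← h2, hV']

theorem ideal_prod {W : Scheme.{u}} {ι : Type*} (s : Finset ι) (I : ι → W.IdealSheafData)
    (U : W.affineOpens) : (∏ i ∈ s, I i).ideal U = ∏ i ∈ s, (I i).ideal U := by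
  classical
  induction s using Finset.induction_on with
  | empty => simp
  | insert a s ha ih =>
    rw [Finset.prod_insert ha, Finset.prod_insert ha, Scheme.IdealSheafData.ideal_mul, Pi.mul_apply, ih]

theorem map_ideal_prod {A B : Type*} [CommRing A] [CommRing B] (φ : A →+* B) {ι : Type*} (s : Finset ι)
    (I : ι → Ideal A) : (∏ i ∈ s, I i).map φ = ∏ i ∈ s, (I i).map φ := by
  classical
  induction s using Finset.induction_on with
  | empty => simp [Ideal.one_eq_top, Ideal.map_top]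
  | insert a s ha ih =>
    rw [Finset.prod_insert ha, Finset.prod_insert ha, Ideal.map_mul, ih]

/-- Smoothness over an open is local. -/
theorem smooth_ι_of_nhds {S : Scheme.{u}} (p : Y ⟶ S) (U : Y.Opens)
    (h : ∀ y ∈ U, ∃ V : Y.Opens, y ∈ V ∧ V ≤ U ∧ Smooth (V.ι ≫ p)) : Smooth (U.ι ≫ p) := by
  choose! V h1 h2 h3 using h
  have hcov : ⨆ y : U, U.ι ⁻¹ᵁ V y.1 = ⊤ := by
    refine top_le_iff.mp ?_
    rintro y -
    exact Opens.mem_iSup.mpr ⟨y, h1 y.1 y.2⟩
  rw [IsZariskiLocalAtSource.iff_of_iSup_eq_top (P := @Smooth) _ hcov]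
  intro y
  have := h3 y.1 y.2
  let j : (U.ι ⁻¹ᵁ V y.1 : Scheme.{u}) ⟶ V y.1 :=
    IsOpenImmersion.lift (V y.1).ι ((U.ι ⁻¹ᵁ V y.1).ι ≫ U.ι) (by
      rintro _ ⟨z, rfl⟩
      simp only [Scheme.Opens.range_ι]
      exact z.2)
  have hj : j ≫ (V y.1).ι = (U.ι ⁻¹ᵁ V y.1).ι ≫ U.ι := IsOpenImmersion.lift_fac _ _ _
  have hjo : IsOpenImmersion j := by
    have : IsOpenImmersion (j ≫ (V y.1).ι) := by rw [hj]; infer_instance
    exact IsOpenImmersion.of_comp j (V y.1).ι
  rw [← Category.assoc, ← hj, Category.assoc]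
  infer_instance

variable {k : Type u} [Field k]

/-- Étale coordinates give smoothness. -/
theorem IsCoord.smooth {p : Y ⟶ Spec (CommRingCat.of k)} {V : Y.Opens} (hV : IsAffineOpen V) {n : ℕ}
    {v : Fin n → Γ(Y, V)} (hv : IsCoord p V v) : Smooth (V.ι ≫ p) := by
  have h1 : IsCoord p V (fun j : ULift.{u} (Fin n) => v j.down) := hv.reindex Equiv.ulift
  have h2 := h1.homOfVector p hV
  have h3 := Groth.Agent.Pi1.H413.SecChart.smooth_affineSpace (ULift.{u} (Fin n)) (Spec (CommRingCat.of k))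
  rw [← AffineSpace.homOfVector_over (V.ι ≫ p) (fun j => V.topIso.inv (v (ULift.down j)))]
  infer_instance

end K926.Loc
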