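import Groth.Prelude.Def_CycCov
import Groth.Agent.Ega2.TensGen

/-!
# Frames of an invertible module and the local equation of a section of a tensor power
-/

set_option autoImplicit false
universe u

open CategoryTheory AlgebraicGeometry Opposite TopologicalSpace
open Groth.Agent.Fdesc.LocGen

namespace K926.Frame

variable {X : Scheme.{u}} {L M : X.Modules} {U V : X.Opens}

theorem isGen_of_isGen {e : Γ(L, U)} (he : IsGen e) : CycCov.IsGen L U e := he.bijective

/-- `CycCov.lpow` retyped. -/
noncomputable def lp (e : Γ(L, U)) (n : ℕ) : Γ(CohB1.tensorPow L n, U) := CycCov.lpow L U e n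

theorem isGen_lp {e : Γ(L, U)} (he : IsGen e) (n : ℕ) : IsGen (lp e n) := by
  induction n with
  | zero => exact isGen_one U
  | succ n ih => exact IsGen.tmul ih he

theorem res_lp (h : V ≤ U) (e : Γ(L, U)) (n : ℕ) :
    res (CohB1.tensorPow L n) h (lp e n) = lp (res L h e) n := by
  induction n with
  | zero => exact res_one h
  | succ n ih =>
    refine (SecTwist.map_tmul (CohB1.tensorPow L n) L (homOfLE h) _ _).trans ?_
    exact congrArg (fun q => SecTwist.tmul (CohB1.tensorPow L n) L V q (res L h e)) ih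

theorem coord_iff {e : Γ(L, U)} {n : ℕ} {s : Coh.structureModule X ⟶ CohB1.tensorPow L n}
    {f : Γ(X, U)} : SecTwist.val s U = f • CycCov.lpow L U e n ↔ sec s U = f • lp e n := Iff.rfl

theorem exists_coord {e : Γ(L, U)} (he : IsGen e) {n : ℕ}
    (s : Coh.structureModule X ⟶ CohB1.tensorPow L n) : ∃ f : Γ(X, U), sec s U = f • lp e n :=
  (isGen_lp he n).exists_eq (sec s U)

theorem coord_res (h : V ≤ U) {e : Γ(L, U)} {n : ℕ}
    {s : Coh.structureModule X ⟶ CohB1.tensorPow L n} {f : Γ(X, U)}
    (hf : sec s U = f • lp e n) : sec s V = (ores h f) • lp (res L h e) n := by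
  have h1 : res (CohB1.tensorPow L n) h (sec s U) = ores h f • res _ h (lp e n) := by
    rw [← res_smul, hf]
  rwa [res_sec, res_lp] at h1

theorem span_coord {n : ℕ} {s : Coh.structureModule X ⟶ CohB1.tensorPow L n}
    {I : X.IdealSheafData} (hs : CycCov.IsZeroDiv (CohB1.tensorPow L n) s I) (U : X.affineOpens)
    {e : Γ(L, U.1)} (he : IsGen e) {f : Γ(X, U.1)} (hf : sec s U.1 = f • lp e n) :
    Ideal.span {f} = I.ideal U := by
  have h : Submodule.span Γ(X, U.1) {sec s U.1} =
      I.ideal U • (⊤ : Submodule Γ(X, U.1) Γ(CohB1.tensorPow L n, U.1)) := hs U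
  have hg := isGen_lp he n
  have h1 : ∀ m : Γ(CohB1.tensorPow L n, U.1),
      m ∈ I.ideal U • (⊤ : Submodule Γ(X, U.1) Γ(CohB1.tensorPow L n, U.1)) ↔
      ∃ c ∈ I.ideal U, m = c • lp e n := by
    intro m
    constructor
    · intro hm
      refine Submodule.smul_induction_on hm ?_ ?_
      · intro r hr m _
        obtain ⟨b, rfl⟩ := hg.exists_eq m
        exact ⟨r * b, Ideal.mul_mem_right _ _ hr, (mul_smul _ _ _).symm⟩
      · rintro x y ⟨c, hc, rfl⟩ ⟨c', hc', rfl⟩
        exact ⟨c + c', add_mem hc hc', (add_smul _ _ _).symm⟩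
    · rintro ⟨c, hc, rfl⟩
      exact Submodule.smul_mem_smul hc Submodule.mem_top
  ext a
  constructor
  · intro ha
    obtain ⟨b, rfl⟩ := Ideal.mem_span_singleton'.mp ha
    have h2 : (b * f) • lp e n ∈ Submodule.span Γ(X, U.1) {sec s U.1} := by
      rw [mul_smul, ← hf]
      exact Submodule.smul_mem _ _ (Submodule.subset_span rfl)
    rw [h, h1] at h2
    obtain ⟨c, hc, hce⟩ := h2
    have h3 : b * f = c := hg.ext hce
    rw [h3]; exact hc
  · intro ha
    have h2 : a • lp e n ∈ Submodule.span Γ(X, U.1) {sec s U.1} := by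
      rw [h, h1]
      exact ⟨a, ha, rfl⟩
    obtain ⟨b, hb⟩ := Submodule.mem_span_singleton.mp h2
    rw [hf, ← mul_smul] at hb
    have h3 : b * f = a := hg.ext hb
    rw [← h3]
    exact Ideal.mul_mem_left _ _ (Ideal.mem_span_singleton_self f)

end K926.Frame
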