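import Groth.Agent.CycCov.K926.Cov
import Groth.Agent.CycCov.K926.Frame

/-!
# From `CycCov.IsCover` to the ring level
-/

set_option autoImplicit false
universe u

open CategoryTheory AlgebraicGeometry Opposite TopologicalSpace Polynomial
open Groth.Agent.Fdesc.LocGen

namespace K926.CovSch

open K926.Cov K926.Frame

/-- On an affine open of a normal scheme all localizations at maximal ideals are normal domains. -/
theorem normal_localization {Y : Scheme.{u}} (hY : Pi1.IsNormalScheme Y) {V : Y.Opens}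
    (hV : IsAffineOpen V) (q : Ideal Γ(Y, V)) [hq : q.IsPrime] :
    IsDomain (Localization.AtPrime q) ∧ IsIntegrallyClosed (Localization.AtPrime q) := by
  let z : PrimeSpectrum Γ(Y, V) := ⟨q, hq⟩
  have hz : hV.fromSpec z ∈ V := by
    have := hV.range_fromSpec
    rw [← SetLike.mem_coe, ← this]
    exact ⟨z, rfl⟩
  letI := TopCat.Presheaf.algebra_section_stalk Y.presheaf ⟨hV.fromSpec z, hz⟩
  have hloc : IsLocalization.AtPrime (Y.presheaf.stalk (hV.fromSpec z)) q :=
    hV.isLocalization_stalk' z hz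
  obtain ⟨h1, h2⟩ := hY (hV.fromSpec z)
  let e := (IsLocalization.algEquiv q.primeCompl (Y.presheaf.stalk (hV.fromSpec z))
    (Localization.AtPrime q)).toRingEquiv
  exact ⟨e.symm.toMulEquiv.isDomain (Y.presheaf.stalk (hV.fromSpec z)), IsIntegrallyClosed.of_equiv e⟩

theorem isReduced_of_normal {Y : Scheme.{u}} (hY : Pi1.IsNormalScheme Y) :
    AlgebraicGeometry.IsReduced Y := by
  have : ∀ y : Y, _root_.IsReduced (Y.presheaf.stalk y) := fun y => by
    have := (hY y).1
    infer_instance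
  exact isReduced_of_isReduced_stalk Y

section

variable {X Y : Scheme.{u}} {L : X.Modules} {N : ℕ}
  {s : Coh.structureModule X ⟶ CohB1.tensorPow L N} {π : Y ⟶ X}

/-- The ring map `Γ(X, U) → Γ(Y, π⁻¹U)` is an algebra structure. -/
noncomputable abbrev alg (π : Y ⟶ X) (U : X.Opens) : Algebra Γ(X, U) Γ(Y, π ⁻¹ᵁ U) :=
  (π.app U).hom.toAlgebra

/-- The restricted root. -/
theorem t_ores (R : CycCov.Root L N s π) {U V : X.Opens} (hU : IsAffineOpen U)
    (hV : IsAffineOpen V) (h : V ≤ U) {e : Γ(L, U)} (he : IsGen e) :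
    ores (π.preimage_mono h) (R.t ⟨U, hU⟩ e (isGen_of_isGen he)) =
      R.t ⟨V, hV⟩ (res L h e) (isGen_of_isGen (he.res h)) :=
  R.t_res ⟨U, hU⟩ ⟨V, hV⟩ h e (isGen_of_isGen he) (isGen_of_isGen (he.res h))

/-- `π♯` commutes with restriction. -/
theorem app_ores (π : Y ⟶ X) {U V : X.Opens} (h : V ≤ U) (b : Γ(X, U)) :
    ores (π.preimage_mono h) ((π.app U).hom b) = (π.app V).hom (ores h b) := by
  exact congr($(π.naturality (homOfLE h).op) b).symm

theorem ores_injective [IsIntegral X] {U V : X.Opens} (h : V ≤ U) (hV : (V : Set X).Nonempty) :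
    Function.Injective (ores h : Γ(X, U) →+* Γ(X, V)) := by
  have : Nonempty V := hV.to_subtype
  exact map_injective_of_isIntegral X (homOfLE h)

/-- The evaluation `p ↦ p(t)` is compatible with restriction. -/
theorem eval₂_ores (π : Y ⟶ X) {U V : X.Opens} (h : V ≤ U) (t : Γ(Y, π ⁻¹ᵁ U)) (p : Γ(X, U)[X]) :
    ores (π.preimage_mono h) (p.eval₂ (π.app U).hom t) =
      (p.map (ores h)).eval₂ (π.app V).hom (ores (π.preimage_mono h) t) := by
  rw [Polynomial.eval₂_map, Polynomial.hom_eval₂]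
  congr 1
  ext b
  exact app_ores π h b

/-- The chart maps of the root over the affine opens inside `W` are bijective. -/
def ChartOn (R : CycCov.Root L N s π) (W : X.Opens) : Prop :=
  ∀ (U : X.affineOpens), U.1 ≤ W →
    ∀ (e : L.val.obj (op U.1)) (he : CycCov.IsGen L U.1 e) (f : Γ(X, U.1))
      (hf : SecTwist.val s U.1 = f • CycCov.lpow L U.1 e N), Function.Bijective (CycCov.chart R U e he f hf)

theorem ChartOn.surj {R : CycCov.Root L N s π} {W : X.Opens} (hW : ChartOn R W) {U : X.Opens}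
    (hU : IsAffineOpen U) (hUW : U ≤ W) {e : Γ(L, U)} (he : IsGen e) {f : Γ(X, U)}
    (hf : sec s U = f • lp e N) (c : Γ(Y, π ⁻¹ᵁ U)) :
    ∃ p : Γ(X, U)[X], p.eval₂ (π.app U).hom (R.t ⟨U, hU⟩ e (isGen_of_isGen he)) = c := by
  obtain ⟨z, rfl⟩ := (hW ⟨U, hU⟩ hUW e (isGen_of_isGen he) f hf).2 c
  obtain ⟨p, rfl⟩ := AdjoinRoot.mk_surjective z
  refine ⟨p, ?_⟩
  unfold CycCov.chart
  rw [AdjoinRoot.lift_mk]

theorem ChartOn.inj {R : CycCov.Root L N s π} {W : X.Opens} (hW : ChartOn R W) {U : X.Opens}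
    (hU : IsAffineOpen U) (hUW : U ≤ W) {e : Γ(L, U)} (he : IsGen e) {f : Γ(X, U)}
    (hf : sec s U = f • lp e N) (p : Γ(X, U)[X])
    (hp : p.eval₂ (π.app U).hom (R.t ⟨U, hU⟩ e (isGen_of_isGen he)) = 0) :
    Polynomial.X ^ N - Polynomial.C f ∣ p := by
  rw [← AdjoinRoot.mk_eq_zero]
  apply (hW ⟨U, hU⟩ hUW e (isGen_of_isGen he) f hf).1
  rw [map_zero]
  unfold CycCov.chart
  rw [AdjoinRoot.lift_mk]
  exact hp

/-- Torsion-freeness on the charts inside `W`. -/
theorem ChartOn.tors [IsIntegral X] {R : CycCov.Root L N s π} {W : X.Opens} (hW : ChartOn R W)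
    (hN : 0 < N) {U : X.Opens}
    (hU : IsAffineOpen U) (hne : (U : Set X).Nonempty) (hUW : U ≤ W) {e : Γ(L, U)} (he : IsGen e)
    {b : Γ(X, U)} (hb : b ≠ 0) {c : Γ(Y, π ⁻¹ᵁ U)} (hc : (π.app U).hom b * c = 0) : c = 0 := by
  have : Nonempty U := hne.to_subtype
  obtain ⟨f, hf⟩ := exists_coord he s
  obtain ⟨q, rfl⟩ := hW.surj hU hUW he hf c
  have hm : (Polynomial.X ^ N - Polynomial.C f).Monic := monic_X_pow_sub_C f hN.ne'
  set t := R.t ⟨U, hU⟩ e (isGen_of_isGen he) with ht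
  have htN : t ^ N = (π.app U).hom f := R.pow_eq ⟨U, hU⟩ e (isGen_of_isGen he) f hf
  have h0 : (Polynomial.X ^ N - Polynomial.C f).eval₂ (π.app U).hom t = 0 := by
    simp [htN]
  have hq : q.eval₂ (π.app U).hom t = (q %ₘ (Polynomial.X ^ N - Polynomial.C f)).eval₂
      (π.app U).hom t := by
    conv_lhs => rw [← modByMonic_add_div q (Polynomial.X ^ N - Polynomial.C f)]
    rw [eval₂_add, eval₂_mul, h0, zero_mul, add_zero]
  rw [hq] at hc ⊢
  have h1 : (Polynomial.C b * (q %ₘ (Polynomial.X ^ N - Polynomial.C f))).eval₂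
      (π.app U).hom t = 0 := by
    rw [eval₂_mul, eval₂_C]; exact hc
  have h2 := hW.inj hU hUW he hf _ h1
  have h3 : Polynomial.C b * (q %ₘ (Polynomial.X ^ N - Polynomial.C f)) = 0 := by
    refine Polynomial.eq_zero_of_dvd_of_degree_lt h2 ?_
    rw [degree_mul, degree_C hb, zero_add]
    exact degree_modByMonic_lt q hm
  rcases mul_eq_zero.mp h3 with h4 | h4
  · exact absurd (Polynomial.C_eq_zero.mp h4) hb
  · rw [h4, eval₂_zero]

/-- An open of the form `π⁻¹ U`, sections which vanish over a dense set of small opens vanish. -/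
theorem eq_zero_of_dense (hY : AlgebraicGeometry.IsReduced Y) {W : X.Opens}
    (hWY : Dense ((π ⁻¹ᵁ W : Y.Opens) : Set Y)) {U : X.Opens} (c : Γ(Y, π ⁻¹ᵁ U))
    (h : ∀ x ∈ U ⊓ W, ∃ (V : X.Opens) (hV : V ≤ U), x ∈ V ∧ ores (π.preimage_mono hV) c = 0) :
    c = 0 := by
  rw [← basicOpen_eq_bot_iff]
  by_contra hne
  have h1 : ((Y.basicOpen c : Y.Opens) : Set Y).Nonempty := by
    rw [Set.nonempty_iff_ne_empty]
    intro h0
    exact hne (Opens.ext h0)
  obtain ⟨y, hy, hyW⟩ := hWY.inter_open_nonempty _ (Y.basicOpen c).2 h1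
  have hyU : y ∈ π ⁻¹ᵁ U := Y.basicOpen_le c hy
  obtain ⟨V, hV, hxV, h0⟩ := h (π y) ⟨hyU, hyW⟩
  have hyV : y ∈ π ⁻¹ᵁ V := hxV
  have h2 := (Y.mem_basicOpen c y hyU).mp hy
  have h3 : Y.presheaf.germ (π ⁻¹ᵁ U) y hyU c = 0 := by
    have h4 := TopCat.Presheaf.germ_res_apply Y.presheaf (homOfLE (π.preimage_mono hV)) y hyV c
    rw [← h4]
    have h5 : (Y.presheaf.map (homOfLE (π.preimage_mono hV)).op) c = 0 := h0
    rw [h5, map_zero]
  rw [h3] at h2
  exact not_isUnit_zero h2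

/-- **The dictionary**: over an affine open with a frame, the normalised cyclic cover is a normal,
generically cyclic algebra. -/
theorem isCov [IsIntegral X] (R : CycCov.Root L N s π) (hR : CycCov.IsCover R) (hN : 0 < N)
    {U : X.Opens} (hU : IsAffineOpen U) (hne : (U : Set X).Nonempty) {e : Γ(L, U)} (he : IsGen e)
    {f : Γ(X, U)} (hf : sec s U = f • lp e N) :
    letI := alg π U
    IsCov N f (R.t ⟨U, hU⟩ e (isGen_of_isGen he)) := by
  letI := alg π U
  obtain ⟨hfin, hnor, W, hWX, hWY, hch⟩ := hR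
  have hch' : ChartOn R W := hch
  have hred : AlgebraicGeometry.IsReduced Y := isReduced_of_normal hnor
  have : Nonempty U := hne.to_subtype
  set t := R.t ⟨U, hU⟩ e (isGen_of_isGen he) with ht
  have haev : ∀ p : Γ(X, U)[X], aeval t p = p.eval₂ (π.app U).hom t := fun p => rfl
  -- a small principal open
  have hUW : ((U ⊓ W : X.Opens) : Set X).Nonempty := hWX.inter_open_nonempty U U.2 hne
  obtain ⟨x, hxU, hxW⟩ := hUW
  obtain ⟨g, hgW, hxg⟩ := hU.exists_basicOpen_le ⟨x, hxW⟩ hxU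
  have hg0 : g ≠ 0 := by
    rintro rfl
    simp at hxg
  have hgU : X.basicOpen g ≤ U := X.basicOpen_le g
  have hgaff : IsAffineOpen (X.basicOpen g) := hU.basicOpen g
  have hgne : ((X.basicOpen g : X.Opens) : Set X).Nonempty := ⟨x, hxg⟩
  have htg : ores (π.preimage_mono hgU) t =
      R.t ⟨X.basicOpen g, hgaff⟩ (res L hgU e) (isGen_of_isGen (he.res hgU)) :=
    t_ores R hU hgaff hgU he
  have hfg := coord_res hgU hf
  have tors : ∀ (b : Γ(X, U)) (c : Γ(Y, π ⁻¹ᵁ U)), b ≠ 0 → (π.app U).hom b * c = 0 → c = 0 := by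
    intro b c hb hbc
    refine eq_zero_of_dense hred hWY c ?_
    rintro z ⟨hzU, hzW⟩
    obtain ⟨h, hhW, hzh⟩ := hU.exists_basicOpen_le ⟨z, hzW⟩ hzU
    have hhU : X.basicOpen h ≤ U := X.basicOpen_le h
    have hhne : ((X.basicOpen h : X.Opens) : Set X).Nonempty := ⟨z, hzh⟩
    refine ⟨X.basicOpen h, hhU, hzh, ?_⟩
    refine hch'.tors hN (hU.basicOpen h) hhne hhW (he.res hhU) (b := ores hhU b) ?_ ?_
    · exact (map_ne_zero_iff _ (ores_injective hhU hhne)).mpr hb
    · rw [← app_ores π hhU, ← map_mul, hbc, map_zero]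
  refine ⟨R.pow_eq ⟨U, hU⟩ e (isGen_of_isGen he) f hf, ?_, ?_, tors, ?_, ?_⟩
  · intro p hp hp0
    have h1 : (p.map (ores hgU)).eval₂ (π.app (X.basicOpen g)).hom
        (R.t ⟨X.basicOpen g, hgaff⟩ (res L hgU e) (isGen_of_isGen (he.res hgU))) = 0 := by
      rw [← htg, ← eval₂_ores, ← haev, hp0, map_zero]
    have h2 := hch'.inj hgaff hgW (he.res hgU) hfg _ h1
    have h3 : p.map (ores hgU) = 0 := by
      have : Nonempty (X.basicOpen g) := hgne.to_subtype
      refine Polynomial.eq_zero_of_dvd_of_degree_lt h2 ?_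
      rw [degree_X_pow_sub_C hN]
      exact (degree_map_le).trans_lt hp
    exact (Polynomial.map_eq_zero_iff (ores_injective hgU hgne)).mp h3
  · intro c
    obtain ⟨q, hq⟩ := hch'.surj hgaff hgW (he.res hgU) hfg (ores (π.preimage_mono hgU) c)
    have hloc : IsLocalization.Away g Γ(X, X.basicOpen g) := hU.isLocalization_basicOpen g
    obtain ⟨b, hbM, hb⟩ := IsLocalization.integerNormalization_spec (Submonoid.powers g) q
    set p := IsLocalization.integerNormalization (Submonoid.powers g) q with hp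
    refine ⟨b, ?_, p, ?_⟩
    · obtain ⟨m, hm⟩ := hbM
      rw [← hm]
      exact pow_ne_zero m hg0
    · rw [← sub_eq_zero, haev]
      have hb' : p.map (ores hgU) = b • q := hb
      have h4 : ores (π.preimage_mono hgU) ((π.app U).hom b * c - p.eval₂ (π.app U).hom t) = 0 := by
        rw [map_sub, map_mul, app_ores π hgU, eval₂_ores π hgU, htg, hb', ← hq]
        have h5 : b • q = Polynomial.C (ores hgU b) * q := by
          rw [← algebraMap_smul Γ(X, X.basicOpen g) b q, ← Polynomial.smul_eq_C_mul]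
          rfl
        rw [h5, eval₂_mul, eval₂_C, sub_self]
      have hπU : IsAffineOpen (π ⁻¹ᵁ U) := hU.preimage π
      have hpre : π ⁻¹ᵁ (X.basicOpen g) = Y.basicOpen ((π.app U).hom g) :=
        Scheme.preimage_basicOpen π g
      letI := (Y.presheaf.map (homOfLE (π.preimage_mono hgU)).op).hom.toAlgebra
      have hloc2 : IsLocalization.Away ((π.app U).hom g) Γ(Y, π ⁻¹ᵁ (X.basicOpen g)) :=
        hπU.isLocalization_of_eq_basicOpen _ (homOfLE (π.preimage_mono hgU)) hpre
      obtain ⟨⟨_, m, rfl⟩, hm⟩ := (IsLocalization.map_eq_zero_iff (Submonoid.powers ((π.app U).hom g))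
        Γ(Y, π ⁻¹ᵁ (X.basicOpen g)) _).mp h4
      refine tors (g ^ m) _ (pow_ne_zero m hg0) ?_
      rw [map_pow]
      exact hm
  · have : (π.app U).hom.Finite := IsFinite.finite_app π U hU
    exact ⟨fun c => this.to_isIntegral c⟩
  · intro g c h
    have hπU : IsAffineOpen (π ⁻¹ᵁ U) := hU.preimage π
    exact K926.Alg.dvd_of_pow_dvd (fun q hq => normal_localization hnor hπU q) hN.ne' h

end

end K926.CovSch
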