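import Groth.Agent.CurvesC.NodeEt
import Groth.Agent.Pi1.H390.T1KumRing
import Mathlib.LinearAlgebra.Matrix.Adjugate

/-!
# Étale coordinates of root extensions
-/

set_option autoImplicit false
universe u

open CategoryTheory CategoryTheory.Limits
open KaehlerDifferential Polynomial
open Groth.Agent.CurvesC.NodeEt Groth.Agent.Pi1.H390.T1KumRing

namespace K926.Coord

variable {R : Type u} [CommRing R] {A : Type u} [CommRing A] [Algebra R A] {n : ℕ} {x : Fin n → A}

/-- Partial derivatives are compatible with étale maps. -/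
theorem pd_comp (hx : IsEtaleCoord R x) {B : Type u} [CommRing B] [Algebra R B]
    (ψ : A →ₐ[R] B) (hψ : ψ.toRingHom.Etale) (i : Fin n) (a : A) :
    (hx.comp ψ hψ).pd i (ψ a) = ψ (hx.pd i a) := by
  algebraize [ψ.toRingHom]
  have htower : IsScalarTower R A B := IsScalarTower.of_algebraMap_eq fun r => (ψ.commutes r).symm
  rw [(hx.comp ψ hψ).pd_apply]
  have h1 : D R B (ψ a) = ∑ j, ψ (hx.pd j a) • D R B (ψ (x j)) := by
    have h2 := congrArg (KaehlerDifferential.map R R A B) (hx.D_eq a)
    rw [KaehlerDifferential.map_D, map_sum] at h2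
    refine h2.trans (Finset.sum_congr rfl fun j _ => ?_)
    rw [map_smul, KaehlerDifferential.map_D, ← algebraMap_smul B]
    rfl
  rw [h1, map_sum, Finset.sum_apply']
  simp only [← (hx.comp ψ hψ).basis_apply, map_smul, Module.Basis.repr_self]
  simp [Finsupp.single_apply]

/-- Scaling one coordinate. -/
theorem coord_scale (hx : IsEtaleCoord R x) (c : Fin n) (v : A)
    (h : IsUnit (v + x c * hx.pd c v)) : IsEtaleCoord R (Function.update x c (v * x c)) := by
  apply hx.of_isUnit_det
  have h1 : (Matrix.of fun i j => hx.pd i (Function.update x c (v * x c) j)) =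
      (1 : Matrix (Fin n) (Fin n) A).updateCol c (fun i => hx.pd i (v * x c)) := by
    ext i j
    rw [Matrix.updateCol_apply, Matrix.of_apply]
    split_ifs with hj
    · subst hj
      rw [Function.update_self]
    · rw [Function.update_of_ne hj, hx.pd_coord, Matrix.one_apply]
  rw [h1, ← Matrix.cramer_apply, Matrix.cramer_one]
  simp only [Module.End.one_apply, Derivation.leibniz, hx.pd_coord, if_true, smul_eq_mul, mul_one]
  convert h using 1

section root

variable {S : Type u} [CommRing S]

theorem mv_ext {σ : Type} {f g : MvPolynomial σ R →+* S} (h1 : ∀ r, f (MvPolynomial.C r) = g (MvPolynomial.C r))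
    (h2 : ∀ i, f (MvPolynomial.X i) = g (MvPolynomial.X i)) : f = g :=
  MvPolynomial.ringHom_ext h1 h2

/-- Root of a coordinate: `X_c ↦ X_c ^ m`. -/
noncomputable def powHom (R : Type u) [CommRing R] {n : ℕ} (c : Fin n) (m : ℕ) :
    MvPolynomial (Fin n) R →+* MvPolynomial (Fin n) R :=
  MvPolynomial.eval₂Hom MvPolynomial.C (Function.update MvPolynomial.X c (MvPolynomial.X c ^ m))

theorem powHom_C (c : Fin n) (m : ℕ) (r : R) : powHom R c m (MvPolynomial.C r) = MvPolynomial.C r := by
  simp [powHom]

theorem powHom_self (c : Fin n) (m : ℕ) :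
    powHom R c m (MvPolynomial.X c) = MvPolynomial.X c ^ m := by
  simp [powHom]

theorem powHom_ne (c : Fin n) (m : ℕ) {i : Fin n} (h : i ≠ c) :
    powHom R c m (MvPolynomial.X i) = MvPolynomial.X i := by
  simp [powHom, Function.update_of_ne h]

/-- Adjoining an `m`-th root of a coordinate. -/
theorem coord_root (hx : IsEtaleCoord R x) (c : Fin n) (m : ℕ) :
    IsEtaleCoord R (Function.update (fun i => AdjoinRoot.of (pol m (x c)) (x i)) c
      (AdjoinRoot.root (pol m (x c)))) := by
  let ψ : MvPolynomial (Fin n) R →+* A := (MvPolynomial.aeval x : MvPolynomial (Fin n) R →ₐ[R] A).toRingHom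
  have hψC : ∀ r, ψ (MvPolynomial.C r) = algebraMap R A r := fun r => MvPolynomial.aeval_C _ _
  have hψX : ∀ i, ψ (MvPolynomial.X i) = x i := fun i => MvPolynomial.aeval_X _ _
  let E := AdjoinRoot (pol m (x c))
  let z : E := AdjoinRoot.root (pol m (x c))
  let β : MvPolynomial (Fin n) R →+* E :=
    (MvPolynomial.aeval (Function.update (fun i => AdjoinRoot.of (pol m (x c)) (x i)) c z) :
      MvPolynomial (Fin n) R →ₐ[R] E).toRingHom
  have hβC : ∀ r, β (MvPolynomial.C r) = AdjoinRoot.of (pol m (x c)) (algebraMap R A r) := fun r =>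
    (MvPolynomial.aeval_C _ _).trans (IsScalarTower.algebraMap_apply R A E r)
  have hβX : ∀ i, i ≠ c → β (MvPolynomial.X i) = AdjoinRoot.of (pol m (x c)) (x i) := fun i hi =>
    (MvPolynomial.aeval_X _ _).trans (Function.update_of_ne hi _ _)
  have hβc : β (MvPolynomial.X c) = z := (MvPolynomial.aeval_X _ _).trans (Function.update_self _ _ _)
  have hw : ∀ s : PushoutCocone (CommRingCat.ofHom (powHom R c m)) (CommRingCat.ofHom ψ),
      s.inl.hom (MvPolynomial.X c) ^ m = s.inr.hom (x c) := fun s => by
    have := RingHom.congr_fun (congrArg CommRingCat.Hom.hom s.condition) (MvPolynomial.X c)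
    change s.inl.hom (powHom R c m (MvPolynomial.X c)) = s.inr.hom (ψ (MvPolynomial.X c)) at this
    rwa [powHom_self, map_pow, hψX] at this
  have hw' : ∀ s : PushoutCocone (CommRingCat.ofHom (powHom R c m)) (CommRingCat.ofHom ψ), ∀ i, i ≠ c →
      s.inl.hom (MvPolynomial.X i) = s.inr.hom (x i) := fun s i hi => by
    have := RingHom.congr_fun (congrArg CommRingCat.Hom.hom s.condition) (MvPolynomial.X i)
    change s.inl.hom (powHom R c m (MvPolynomial.X i)) = s.inr.hom (ψ (MvPolynomial.X i)) at this
    rwa [powHom_ne c m hi, hψX] at this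
  have hw'' : ∀ s : PushoutCocone (CommRingCat.ofHom (powHom R c m)) (CommRingCat.ofHom ψ), ∀ r,
      s.inl.hom (MvPolynomial.C r) = s.inr.hom (algebraMap R A r) := fun s r => by
    have := RingHom.congr_fun (congrArg CommRingCat.Hom.hom s.condition) (MvPolynomial.C r)
    change s.inl.hom (powHom R c m (MvPolynomial.C r)) = s.inr.hom (ψ (MvPolynomial.C r)) at this
    rwa [powHom_C, hψC] at this
  have hpo : IsPushout (CommRingCat.ofHom (powHom R c m)) (CommRingCat.ofHom ψ)
      (CommRingCat.ofHom β) (CommRingCat.ofHom (AdjoinRoot.of (pol m (x c)))) := by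
    refine ⟨⟨CommRingCat.hom_ext (mv_ext ?_ ?_)⟩, ⟨PushoutCocone.IsColimit.mk _
      (fun s => CommRingCat.ofHom (AdjoinRoot.lift s.inr.hom (s.inl.hom (MvPolynomial.X c))
        (eval_pol m s.inr.hom (x c) _ (hw s))))
      (fun s => ?_) (fun s => ?_) (fun s k hm1 hm2 => ?_)⟩⟩
    · intro r
      change β (powHom R c m (MvPolynomial.C r)) = AdjoinRoot.of (pol m (x c)) (ψ (MvPolynomial.C r))
      rw [powHom_C, hβC, hψC]
    · intro i
      change β (powHom R c m (MvPolynomial.X i)) = AdjoinRoot.of (pol m (x c)) (ψ (MvPolynomial.X i))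
      by_cases hi : i = c
      · subst hi
        rw [powHom_self, map_pow, hβc, hψX]
        exact root_pow m (x i)
      · rw [powHom_ne c m hi, hβX i hi, hψX]
    · refine CommRingCat.hom_ext (mv_ext ?_ ?_)
      · intro r
        change AdjoinRoot.lift s.inr.hom (s.inl.hom (MvPolynomial.X c))
          (eval_pol m s.inr.hom (x c) _ (hw s)) (β (MvPolynomial.C r)) = s.inl.hom (MvPolynomial.C r)
        rw [hβC, AdjoinRoot.lift_of, hw'' s]
      · intro i
        change AdjoinRoot.lift s.inr.hom (s.inl.hom (MvPolynomial.X c))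
          (eval_pol m s.inr.hom (x c) _ (hw s)) (β (MvPolynomial.X i)) = s.inl.hom (MvPolynomial.X i)
        by_cases hi : i = c
        · subst hi
          rw [hβc]
          exact AdjoinRoot.lift_root _
        · rw [hβX i hi, AdjoinRoot.lift_of, hw' s i hi]
    · exact CommRingCat.hom_ext (AdjoinRoot.lift_comp_of (eval_pol m s.inr.hom (x c) _ (hw s)))
    · refine CommRingCat.hom_ext (AdjoinRoot.ringHom_ext ?_ ?_)
      · refine (congrArg CommRingCat.Hom.hom hm2).trans ?_
        exact (AdjoinRoot.lift_comp_of (eval_pol m s.inr.hom (x c) _ (hw s))).symm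
      · have h1 := RingHom.congr_fun (congrArg CommRingCat.Hom.hom hm1) (MvPolynomial.X c)
        change k.hom (β (MvPolynomial.X c)) = s.inl.hom (MvPolynomial.X c) at h1
        rw [hβc] at h1
        refine h1.trans ?_
        exact (AdjoinRoot.lift_root (eval_pol m s.inr.hom (x c) _ (hw s))).symm
  have : (RingHom.toMorphismProperty RingHom.Etale.{u,u}).IsStableUnderCobaseChange :=
    (RingHom.isStableUnderCobaseChange_toMorphismProperty_iff).mpr RingHom.Etale.isStableUnderBaseChange
  have hE : (RingHom.toMorphismProperty RingHom.Etale.{u,u}) (CommRingCat.ofHom ψ) := hx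
  exact MorphismProperty.of_isPushout hpo hE

end root

end K926.Coord
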