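import Groth.Agent.CycCov.K926.LocY

/-!
# Charts of the cover, ramified case
-/

set_option autoImplicit false
universe u

open CategoryTheory CategoryTheory.Limits AlgebraicGeometry Opposite TopologicalSpace
open Groth.Agent.Fdesc.LocGen

namespace K926.Loc

open K926.Str K926.Base K926.Frame K926.Cov K926.Branch
open Groth.Agent.CurvesC.NodeEt

variable {k : Type u} [Field k] {X Y : Scheme.{u}}

theorem etale_ores {U W : X.affineOpens} (h : W.1 ≤ U.1) : (ores h : Γ(X, U.1) →+* Γ(X, W.1)).Etale := by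
  have h1 := HasRingHomProperty.appLE @Etale (𝟙 X) inferInstance U W h
  have h2 : (𝟙 X : X ⟶ X).appLE U.1 W.1 h = X.presheaf.map (homOfLE h).op := by
    rw [Scheme.Hom.appLE, Scheme.Hom.id_app]
    exact Category.id_comp _
  rw [h2] at h1
  exact h1

/-- Restriction as a morphism of `k`-algebras. -/
noncomputable def oresAlg (f : X ⟶ Spec (CommRingCat.of k)) {U W : X.Opens} (h : W ≤ U) :
    letI := algk f U; letI := algk f W
    Γ(X, U) →ₐ[k] Γ(X, W) :=
  letI := algk f U; letI := algk f W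
  ⟨ores h, fun r => congr($(res_comp_str f h) r)⟩

variable {L : X.Modules} {N : ℕ} {r : ℕ} {D : Fin r → X.IdealSheafData} {α : Fin r → ℕ}
  {s : Coh.structureModule X ⟶ CohB1.tensorPow L N} {π : Y ⟶ X}
  {f : X ⟶ Spec (CommRingCat.of k)}

theorem LocData.isEtaleCoord (d : LocData f D α s) :
    letI := algk f d.U.1
    IsEtaleCoord k d.c.v := d.coord

/-- Partial derivatives on a chart. -/
noncomputable def LocData.pd (d : LocData f D α s) (c : Fin d.n) (a : Γ(X, d.U.1)) : Γ(X, d.U.1) :=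
  letI := algk f d.U.1
  (d.isEtaleCoord).pd c a

theorem LocData.pd_restrict (d : LocData f D α s) (W : X.affineOpens) (h : W.1 ≤ d.U.1) (c : Fin d.n)
    (a : Γ(X, d.U.1)) : (d.restrict W h).pd c (ores h a) = ores h (d.pd c a) := by
  letI := algk f d.U.1
  letI := algk f W.1
  exact Coord.pd_comp d.isEtaleCoord (oresAlg f h) (etale_ores h) c a

theorem mem_basicOpen_add {U : X.Opens} {a b : Γ(X, U)} {x : X} (hx : x ∈ U) (ha : x ∈ X.basicOpen a)
    (hb : x ∉ X.basicOpen b) : x ∈ X.basicOpen (a + b) := by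
  rw [Scheme.mem_basicOpen (hx := hx)] at ha hb ⊢
  rw [map_add]
  by_contra h
  have h1 : X.presheaf.germ U x hx a ∈ IsLocalRing.maximalIdeal (X.presheaf.stalk x) := by
    have h2 : X.presheaf.germ U x hx a = (X.presheaf.germ U x hx a + X.presheaf.germ U x hx b) -
      X.presheaf.germ U x hx b := by ring
    rw [h2]
    exact Ideal.sub_mem _ ((IsLocalRing.mem_maximalIdeal _).mpr h) ((IsLocalRing.mem_maximalIdeal _).mpr hb)
  exact (IsLocalRing.mem_maximalIdeal _).mp h1 ha

theorem notMem_basicOpen_mul_left {U : X.Opens} {a b : Γ(X, U)} {x : X} 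
    (hb : x ∉ X.basicOpen a) : x ∉ X.basicOpen (a * b) := by
  rw [Scheme.basicOpen_mul]
  exact fun h => hb h.1

theorem mem_basicOpen_of_isUnit {U : X.Opens} {a : Γ(X, U)} (ha : IsUnit a) {x : X} (hx : x ∈ U) :
    x ∈ X.basicOpen a := by
  rw [Scheme.basicOpen_of_isUnit _ ha]
  exact hx

/-- The determinant of the coordinate change. -/
noncomputable def LocData.delta (d : LocData f D α s) (c : Fin d.n) (e i₀ : ℕ) : Γ(X, d.U.1) :=
  (e : Γ(X, d.U.1)) * d.u + i₀ * d.c.v c * d.pd c d.u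

theorem LocData.delta_restrict (d : LocData f D α s) (W : X.affineOpens) (h : W.1 ≤ d.U.1) (c : Fin d.n)
    (e i₀ : ℕ) : (d.restrict W h).delta c e i₀ = ores h (d.delta c e i₀) := by
  unfold LocData.delta
  rw [map_add, map_mul, map_mul, map_mul, map_natCast, map_natCast, ← d.pd_restrict W h c]
  rfl

/-- Shrink a normalised chart so that the determinant becomes invertible. -/
theorem LocData.exists_delta (d : LocData f D α s) {x : X} (hx : x ∈ d.U.1) {e : ℕ} (he : (e : k) ≠ 0)
    (i₀ : ℕ) {c : Fin d.n} (hc : x ∉ X.basicOpen (d.c.v c)) :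
    ∃ (W : X.affineOpens) (h : W.1 ≤ d.U.1), x ∈ W.1 ∧ IsUnit ((d.restrict W h).delta c e i₀) := by
  have h1 : x ∈ X.basicOpen (d.delta c e i₀) := by
    apply mem_basicOpen_add hx
    · exact mem_basicOpen_of_isUnit ((isUnit_natCast f he _).mul d.hu) hx
    · rw [mul_comm (i₀ : Γ(X, d.U.1)), mul_assoc]
      exact notMem_basicOpen_mul_left hc
  refine ⟨⟨X.basicOpen (d.delta c e i₀), d.U.2.basicOpen _⟩, X.basicOpen_le _, h1, ?_⟩
  rw [d.delta_restrict]
  exact X.toRingedSpace.isUnit_res_basicOpen (d.delta c e i₀)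

/-- Étale coordinates on a ramified chart. -/
theorem LocData.coord_ram (d : LocData f D α s) 
    {c : Fin d.n} {e m i₀ : ℕ} (he : 0 < e) (hek : (e : k) ≠ 0)
    {y z : Γ(Y, π ⁻¹ᵁ d.U.1)} (hy : y ^ e = (π.app d.U.1).hom d.u)
    (hz : z ^ m = y ^ i₀ * (π.app d.U.1).hom (d.c.v c))
    (hbij : letI := CovSch.alg π d.U.1; Function.Bijective (toC d.u (d.c.v c) e m i₀ y z hy hz))
    (hδ : IsUnit (d.delta c e i₀)) :
    IsCoord (π ≫ f) (π ⁻¹ᵁ d.U.1) (Function.update (fun j => (π.app d.U.1).hom (d.c.v j)) c z) := by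
  letI := CovSch.alg π d.U.1
  letI := algk f d.U.1
  letI := algk (π ≫ f) (π ⁻¹ᵁ d.U.1)
  have : IsScalarTower k Γ(X, d.U.1) Γ(Y, π ⁻¹ᵁ d.U.1) := IsScalarTower.of_algebraMap_eq fun a => by
    have h2 := str_comp π f d.U.1 (π ⁻¹ᵁ d.U.1) le_rfl
    rw [← Scheme.Hom.app_eq_appLE] at h2
    exact (congr($h2 a)).symm
  exact coord_cover d.isEtaleCoord c d.hu he (isUnit_natCast f hek _) hδ hy hz hbij

/-- The ideal of the pull-back of a component on the chart of the cover. -/
theorem LocData.ideal_comap (d : LocData f D α s) [IsAffineHom π] (j : Fin r) :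
    ((D j).comap π).ideal ⟨π ⁻¹ᵁ d.U.1, d.U.2.preimage π⟩ = Ideal.span {(π.app d.U.1).hom (d.c.g j)} := by
  rw [Groth.Agent.Divis.IdealComap.ideal_comap (D j) π d.U ⟨π ⁻¹ᵁ d.U.1, d.U.2.preimage π⟩ le_rfl,
    d.c.ideal j d.U le_rfl, Ideal.map_span, Set.image_singleton, ← Scheme.Hom.app_eq_appLE,
    Groth.Agent.Sga67.Sec.resO_self]

theorem exp_pos {N : ℕ} (hN : 0 < N) (a : ℕ) : 0 < N / Nat.gcd N a :=
  Nat.div_pos (Nat.gcd_le_left _ hN) (Nat.gcd_pos_of_pos_left _ hN)

theorem exp_eq_one {N : ℕ} (hN : 0 < N) {a : ℕ} (h : N ∣ a) : N / Nat.gcd N a = 1 := by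
  rw [Nat.gcd_eq_left h, Nat.div_self hN]

variable [IsIntegral X] [Smooth f] [IsAlgClosed k]

/-- **Charts of the cover.** Around every point of `X` through which at most one component of the branch
divisor passes, the cover has étale coordinates adapted to the reduced preimages. -/
theorem exists_yChart (hL : PicF.IsInvertible L) (hN : 0 < N) (hNk : (N : k) ≠ 0)
    (hD : LogNCD.IsNCD D f)
    (hs : CycCov.IsZeroDiv (CohB1.tensorPow L N) s (CycCov.divIdeal D α))
    (R : CycCov.Root L N s π) (hR : CycCov.IsCover R) {O : X.Opens} {x : X} (hx : x ∈ O)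
    (hone : ∀ j j' : Fin r, 0 < α j → 0 < α j' → x ∈ (D j).support → x ∈ (D j').support → j = j') :
    ∃ (U : X.affineOpens) (V : Y.affineOpens) (n : ℕ)
      (c : K922.Chart.Chart (π ≫ f) (fun j => ((D j).comap π).radical) V.1 n),
      x ∈ U.1 ∧ U.1 ≤ O ∧ V.1 = π ⁻¹ᵁ U.1 ∧ IsCoord (π ≫ f) V.1 c.v ∧
      ∀ j, ((D j).comap π).ideal V = Ideal.span {c.g j ^ (N / Nat.gcd N (α j))} := by
  have hfin : IsFinite π := hR.1
  obtain ⟨d, hxd, hdO, hnorm⟩ := exists_locData_normalized f hL hD hs hx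
  have hne : Nonempty d.U.1 := ⟨⟨x, hxd⟩⟩
  have hsupp : ∀ j, d.c.e j ≠ none → x ∈ (D j).support := fun j hj => by
    by_contra h
    exact hj (hnorm j h)
  by_cases hcase : ∀ j, d.c.e j ≠ none → N ∣ α j
  · -- unramified
    have hg0 : ∀ j, d.c.g j ≠ 0 := by
      intro j
      rcases hj : d.c.e j with _ | l
      · rw [d.c.g_none j hj]
        exact one_ne_zero
      · rw [d.c.g_some j l hj]
        exact coord_ne_zero (Set.nonempty_coe_sort.mp hne) d.coord l
    have hf : d.f' = d.u * (∏ j, d.c.g j ^ (α j / N)) ^ N := by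
      rw [← Finset.prod_pow]
      change d.u * ∏ j, d.c.g j ^ α j = _
      congr 1
      refine Finset.prod_congr rfl fun j _ => ?_
      rw [← pow_mul]
      rcases hj : d.c.e j with _ | l
      · rw [d.c.g_none j hj, one_pow, one_pow]
      · rw [Nat.div_mul_cancel (hcase j (by rw [hj]; exact Option.some_ne_none l))]
    have hh : (∏ j, d.c.g j ^ (α j / N)) ≠ 0 :=
      Finset.prod_ne_zero_iff.mpr fun j _ => pow_ne_zero _ (hg0 j)
    have hcoord := d.coord_unram R hR hN hNk d.hu hh hf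
    refine ⟨d.U, ⟨π ⁻¹ᵁ d.U.1, d.U.2.preimage π⟩, d.n,
      mkChart (fun j => (D j).comap π) (V := ⟨π ⁻¹ᵁ d.U.1, d.U.2.preimage π⟩) _ hcoord d.c.e
        (fun j => (π.app d.U.1).hom (d.c.g j)) d.c.inj
        (fun i hi => by rw [d.c.g_none i hi, map_one]) (fun i l hi => by rw [d.c.g_some i l hi])
        (fun j => N / Nat.gcd N (α j)) (fun j => exp_pos hN _) ?_, hxd, hdO, rfl, hcoord, ?_⟩
    · intro j
      rw [d.ideal_comap j]
      rcases hj : d.c.e j with _ | l
      · rw [d.c.g_none j hj, map_one, one_pow]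
      · rw [exp_eq_one hN (hcase j (by rw [hj]; exact Option.some_ne_none l)), pow_one]
    · intro j
      rw [d.ideal_comap j]
      change _ = Ideal.span {(π.app d.U.1).hom (d.c.g j) ^ (N / Nat.gcd N (α j))}
      rcases hj : d.c.e j with _ | l
      · rw [d.c.g_none j hj, map_one, one_pow]
      · rw [exp_eq_one hN (hcase j (by rw [hj]; exact Option.some_ne_none l)), pow_one]
  · -- ramified
    push Not at hcase
    obtain ⟨j₀, hj₀, hdvd⟩ := hcase
    obtain ⟨c, hc⟩ := Option.ne_none_iff_exists'.mp hj₀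
    have hxj₀ := hsupp j₀ hj₀
    have hα₀ : 0 < α j₀ := Nat.pos_of_ne_zero fun h => hdvd (h ▸ dvd_zero N)
    have hother : ∀ j, j ≠ j₀ → d.c.e j ≠ none → α j = 0 := by
      intro j hj hj'
      by_contra h
      exact hj (hone j j₀ (Nat.pos_of_ne_zero h) hα₀ (hsupp j hj') hxj₀)
    obtain ⟨m, a, i₀, m₀, ha⟩ := exists_arith hN hdvd
    have hek : ((Nat.gcd N (α j₀) : ℕ) : k) ≠ 0 := by
      intro h
      apply hNk
      rw [ha.hN, Nat.cast_mul, h, mul_zero]
    have hcx : x ∉ X.basicOpen (d.c.v c) := by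
      rw [← d.c.g_some j₀ c hc]
      rw [← K922.Chart.mem_support_iff_span (D j₀) d.U (d.c.g j₀) _ x hxd]
      · exact hxj₀
      · have := d.c.ideal j₀ d.U le_rfl
        rwa [Groth.Agent.Sga67.Sec.resO_self] at this
    obtain ⟨W, hWd, hxW, hδ⟩ := d.exists_delta hxd hek i₀ hcx
    set d' := d.restrict W hWd with hd'
    have hne' : Nonempty d'.U.1 := ⟨⟨x, hxW⟩⟩
    have hf : d'.f' = d'.u * d'.c.v c ^ α j₀ := by
      change d'.u * ∏ j, d'.c.g j ^ α j = _
      congr 1
      rw [Finset.prod_eq_single j₀]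
      · rw [d'.c.g_some j₀ c hc]
      · intro j _ hj
        rcases hj' : d.c.e j with _ | l
        · rw [d'.c.g_none j hj', one_pow]
        · rw [hother j hj (by rw [hj']; exact Option.some_ne_none l), pow_zero]
      · intro h
        exact absurd (Finset.mem_univ j₀) h
    obtain ⟨y, z, hy, hz, -, -, hbij⟩ := d'.ram R hR hN hNk d'.hu hf ha
    have hcoord := d'.coord_ram ha.he hek hy hz hbij hδ
    have hyu : IsUnit y := by
      rw [← isUnit_pow_iff ha.he.ne', hy]
      exact d'.hu.map _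
    have hm : N / Nat.gcd N (α j₀) = m := Nat.div_eq_of_eq_mul_left ha.he ha.hN
    let g' : Fin r → Γ(Y, π ⁻¹ᵁ d'.U.1) := fun j => if j = j₀ then z else (π.app d'.U.1).hom (d'.c.g j)
    have hI : ∀ j, ((D j).comap π).ideal ⟨π ⁻¹ᵁ d'.U.1, d'.U.2.preimage π⟩ =
        Ideal.span {g' j ^ (N / Nat.gcd N (α j))} := by
      intro j
      rw [d'.ideal_comap j]
      by_cases hj : j = j₀
      · subst hj
        simp only [g', if_true]
        rw [hm, hz, d'.c.g_some j c hc]
        exact (Ideal.span_singleton_mul_left_unit (hyu.pow i₀) _).symm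
      · simp only [g', if_neg hj]
        rcases hj' : d.c.e j with _ | l
        · rw [d'.c.g_none j hj', map_one, one_pow]
        · rw [hother j hj (by rw [hj']; exact Option.some_ne_none l), exp_eq_one hN (dvd_zero N), pow_one]
    refine ⟨d'.U, ⟨π ⁻¹ᵁ d'.U.1, d'.U.2.preimage π⟩, d'.n,
      mkChart (fun j => (D j).comap π) (V := ⟨π ⁻¹ᵁ d'.U.1, d'.U.2.preimage π⟩) _ hcoord d'.c.e
        g' d'.c.inj ?_ ?_ (fun j => N / Nat.gcd N (α j)) (fun j => exp_pos hN _) hI, hxW,
        hWd.trans hdO, rfl, hcoord, hI⟩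
    · intro i hi
      have hij : i ≠ j₀ := by
        rintro rfl
        exact hj₀ hi
      simp only [g', if_neg hij]
      rw [d'.c.g_none i hi, map_one]
    · intro i l hi
      by_cases hij : i = j₀
      · subst hij
        have hlc : l = c := Option.some_injective _ (hi.symm.trans hc)
        subst hlc
        simp only [g', if_true, Function.update_self]
      · have hlc : l ≠ c := fun h => hij (d'.c.inj i j₀ c (h ▸ hi) hc)
        simp only [g', if_neg hij]
        rw [Function.update_of_ne hlc, d'.c.g_some i l hi]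

end K926.Loc
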