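import Mathlib.RingTheory.AdjoinRoot
import Mathlib.RingTheory.IntegralClosure.IntegrallyClosed
import Mathlib.RingTheory.Polynomial.ScaleRoots
import Mathlib.RingTheory.RootsOfUnity.PrimitiveRoots
import Mathlib.RingTheory.Localization.AtPrime.Basic
import Mathlib.RingTheory.Localization.NumDen
import Mathlib.Algebra.Squarefree.Basic
import Mathlib.RingTheory.UniqueFactorizationDomain.Basic

/-!
# Commutative algebra of normalised cyclic covers
-/

set_option autoImplicit false

open Polynomial Finset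

namespace K926.Alg

/-- In a ring whose localizations at maximal ideals are integrally closed domains, `g ^ N ∣ c ^ N`
implies `g ∣ c`. -/
theorem dvd_of_pow_dvd {C : Type*} [CommRing C]
    (hC : ∀ q : Ideal C, ∀ _ : q.IsMaximal, IsDomain (Localization.AtPrime q) ∧
      IsIntegrallyClosed (Localization.AtPrime q))
    {g c : C} {N : ℕ} (hN : N ≠ 0) (h : g ^ N ∣ c ^ N) : g ∣ c := by
  classical
  by_contra hgc
  let I : Ideal C := Submodule.comap (LinearMap.mulRight C c) (Ideal.span {g})
  have hmem : ∀ a : C, a ∈ I ↔ g ∣ a * c := by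
    intro a
    simp [I, Ideal.mem_span_singleton]
  have hI : I ≠ ⊤ := by
    intro h1
    have : (1 : C) ∈ I := h1 ▸ Submodule.mem_top
    rw [hmem, one_mul] at this
    exact hgc this
  obtain ⟨q, hq, hIq⟩ := Ideal.exists_le_maximal I hI
  obtain ⟨h1, h2⟩ := hC q hq
  have h3 : algebraMap C (Localization.AtPrime q) g ∣ algebraMap C (Localization.AtPrime q) c := by
    rw [← IsIntegrallyClosed.pow_dvd_pow_iff hN, ← map_pow, ← map_pow]
    exact map_dvd _ h
  obtain ⟨z, hz⟩ := h3
  obtain ⟨a, s, rfl⟩ := IsLocalization.exists_mk'_eq q.primeCompl z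
  have h4 : algebraMap C (Localization.AtPrime q) (s * c) =
      algebraMap C (Localization.AtPrime q) (g * a) := by
    simp only [map_mul, hz]
    rw [mul_left_comm]
    congr 1
    exact IsLocalization.mk'_spec' _ a s
  obtain ⟨v, hv⟩ := (IsLocalization.eq_iff_exists q.primeCompl _).mp h4
  have h5 : (v * s : C) ∈ I := by
    rw [hmem, mul_assoc, hv]
    exact ⟨v * a, by ring⟩
  exact (v * s).2 (hIq h5)

/-- The local root lemma: in a unique factorization domain with `G` squarefree, if
`y ^ N ∣ P` and `P ∣ G ^ (N - 1)` then `y` is a unit. -/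
theorem isUnit_of_pow_dvd {R : Type*} [CommRing R] [IsDomain R] [UniqueFactorizationMonoid R]
    {G P y : R} (hsq : Squarefree G) {N : ℕ} (hN : 0 < N) (hP : P ∣ G ^ (N - 1))
    (h : y ^ N ∣ P) : IsUnit y := by
  by_contra hy
  have hG : G ≠ 0 := hsq.ne_zero
  have hy0 : y ≠ 0 := by
    rintro rfl
    rw [zero_pow hN.ne'] at h
    have h1 := h.trans hP
    rw [zero_dvd_iff] at h1
    exact hG (eq_zero_of_pow_eq_zero h1)
  obtain ⟨p, hp, hpy⟩ := WfDvdMonoid.exists_irreducible_factor hy hy0
  have hp' : Prime p := hp.prime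
  have h1 : p ^ N ∣ G ^ (N - 1) := ((pow_dvd_pow_of_dvd hpy N).trans h).trans hP
  have h2 : emultiplicity p G ≤ 1 := by
    rcases (squarefree_iff_emultiplicity_le_one G).mp hsq p with h | h
    · exact h
    · exact (hp.not_isUnit h).elim
  have h3 : (N : ℕ∞) ≤ emultiplicity p (G ^ (N - 1)) := le_emultiplicity_of_pow_dvd h1
  rw [emultiplicity_pow hp'] at h3
  have h4 : (N : ℕ∞) ≤ ((N - 1 : ℕ) : ℕ∞) := by
    calc (N : ℕ∞) ≤ ((N - 1 : ℕ) : ℕ∞) * emultiplicity p G := h3
      _ ≤ ((N - 1 : ℕ) : ℕ∞) * 1 := by gcongr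
      _ = _ := mul_one _
  have h5 : N ≤ N - 1 := by exact_mod_cast h4
  omega

/-- Let `G` be squarefree in the factorial localizations of the domain `B`; if `a` in the fraction
field satisfies `a ^ N * P ∈ B` for a divisor `P` of `G ^ (N - 1)`, then `a ∈ B`. -/
theorem mem_of_pow_mul_mem {B K : Type*} [CommRing B] [IsDomain B] [Field K] [Algebra B K]
    [IsFractionRing B K]
    (hB : ∀ p : Ideal B, ∀ _ : p.IsMaximal, UniqueFactorizationMonoid (Localization.AtPrime p))
    {G P : B}
    (hG : ∀ p : Ideal B, ∀ _ : p.IsMaximal, Squarefree (algebraMap B (Localization.AtPrime p) G))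
    {N : ℕ} (hN : 0 < N) (hP : P ∣ G ^ (N - 1)) {a : K}
    (h : ∃ b : B, algebraMap B K b = a ^ N * algebraMap B K P) : ∃ b : B, algebraMap B K b = a := by
  classical
  -- the ideal of denominators
  let I : Ideal B := Submodule.comap ((LinearMap.toSpanSingleton B K a)) (LinearMap.range (Algebra.linearMap B K))
  have hmem : ∀ b : B, b ∈ I ↔ ∃ c : B, algebraMap B K c = algebraMap B K b * a := by
    intro b
    simp [I, Algebra.smul_def]
  by_cases hI : I = ⊤
  · have : (1 : B) ∈ I := hI ▸ Submodule.mem_top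
    rw [hmem] at this
    simpa using this
  exfalso
  obtain ⟨p, hp, hIp⟩ := Ideal.exists_le_maximal I hI
  have := hB p hp
  let Bp := Localization.AtPrime p
  letI : Algebra Bp K := (IsLocalization.lift (M := p.primeCompl) (g := algebraMap B K) (fun s =>
    IsUnit.mk0 _ (by
      exact (map_ne_zero_iff (algebraMap B K) (IsFractionRing.injective B K)).mpr
        (fun h => s.2 (by rw [h]; exact p.zero_mem))))).toAlgebra
  haveI : IsScalarTower B Bp K := IsScalarTower.of_algebraMap_eq' (by
    ext b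
    simp [RingHom.algebraMap_toAlgebra])
  haveI : IsFractionRing Bp K := IsFractionRing.isFractionRing_of_isDomain_of_isLocalization
    p.primeCompl Bp K
  obtain ⟨x, y, hxy, hmk⟩ := IsFractionRing.exists_reduced_fraction (A := Bp) (K := K) a
  obtain ⟨b, hb⟩ := h
  have hy0 : algebraMap Bp K y ≠ 0 := IsFractionRing.to_map_ne_zero_of_mem_nonZeroDivisors y.2
  have ha : a = algebraMap Bp K x / algebraMap Bp K y := by
    rw [← hmk, IsFractionRing.mk'_eq_div]
  have h1 : x ^ N * algebraMap B Bp P = y ^ N * algebraMap B Bp b := by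
    apply IsFractionRing.injective Bp K
    simp only [map_mul, map_pow, ← IsScalarTower.algebraMap_apply B Bp K]
    rw [hb, ha, div_pow, ← mul_assoc, mul_div_cancel₀ _ (pow_ne_zero N hy0)]
  have h2 : (y : Bp) ^ N ∣ algebraMap B Bp P := by
    have h3 : (y : Bp) ^ N ∣ x ^ N * algebraMap B Bp P := ⟨_, h1⟩
    exact (IsRelPrime.pow hxy.symm).dvd_of_dvd_mul_left h3
  have h3 : IsUnit (y : Bp) := isUnit_of_pow_dvd (hG p hp) hN
    (by rw [← map_pow]; exact map_dvd _ hP) h2
  obtain ⟨z, hz⟩ : ∃ z : Bp, algebraMap Bp K z = a := by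
    obtain ⟨v, hv⟩ := h3
    refine ⟨x * ↑v⁻¹, ?_⟩
    rw [ha, map_mul, eq_div_iff hy0, ← hv, mul_assoc, ← map_mul, Units.inv_mul, map_one, mul_one]
  obtain ⟨m, s, rfl⟩ := IsLocalization.exists_mk'_eq p.primeCompl z
  have h4 : (s : B) ∈ I := by
    rw [hmem]
    refine ⟨m, ?_⟩
    rw [← hz, IsScalarTower.algebraMap_apply B Bp K, IsScalarTower.algebraMap_apply B Bp K, ← map_mul]
    congr 1
    exact (IsLocalization.mk'_spec' _ m s).symm
  exact s.2 (hIp h4)

end K926.Alg
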