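import Groth.Agent.CycCov.K926.Cov
import Groth.Agent.CycCov.K926.Coord

/-!
# One-branch cyclic covers (ring level)

If `f = u * g ^ α` with `u` a unit, the normalised cyclic cover is `B[Y, Z] / (Y ^ e - u, Z ^ m - Y ^ i₀ * g)`,
`e = gcd(N, α)`, `m = N / e`, `i₀ * (α / e) ≡ 1` modulo `m`.
-/

set_option autoImplicit false
universe u

open Polynomial Finset

namespace K926.Branch

open K926.Cov
open Groth.Agent.Pi1.H390.T1KumRing

/-- The arithmetic of a branch. -/
structure Arith (N α e m a i₀ m₀ : ℕ) : Prop where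
  hN : N = m * e
  hα : α = a * e
  he : 0 < e
  hm : 1 < m
  hi : i₀ < m
  h0 : i₀ * a = 1 + m₀ * m

theorem exists_arith {N α : ℕ} (hN : 0 < N) (hα : ¬ N ∣ α) :
    ∃ m a i₀ m₀ : ℕ, Arith N α (Nat.gcd N α) m a i₀ m₀ := by
  have he : 0 < Nat.gcd N α := Nat.gcd_pos_of_pos_left _ hN
  have hN' : N / Nat.gcd N α * Nat.gcd N α = N := Nat.div_mul_cancel (Nat.gcd_dvd_left _ _)
  have hα' : α / Nat.gcd N α * Nat.gcd N α = α := Nat.div_mul_cancel (Nat.gcd_dvd_right _ _)
  have hm : 1 < N / Nat.gcd N α := by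
    by_contra h
    have h1 : N / Nat.gcd N α = 0 ∨ N / Nat.gcd N α = 1 :=
      Nat.le_one_iff_eq_zero_or_eq_one.mp (not_lt.mp h)
    rcases h1 with h1 | h1
    · rw [h1] at hN'
      omega
    · rw [h1, one_mul] at hN'
      exact hα (hN' ▸ Nat.gcd_dvd_right N α)
  have hc : Nat.Coprime (N / Nat.gcd N α) (α / Nat.gcd N α) := Nat.coprime_div_gcd_div_gcd he
  obtain ⟨j, hj⟩ := Nat.exists_mul_mod_eq_one_of_coprime hc.symm hm
  refine ⟨N / Nat.gcd N α, α / Nat.gcd N α, j % (N / Nat.gcd N α),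
    (j % (N / Nat.gcd N α)) * (α / Nat.gcd N α) / (N / Nat.gcd N α),
    hN'.symm, hα'.symm, he, hm, Nat.mod_lt _ (by omega), ?_⟩
  set m := N / Nat.gcd N α
  set a := α / Nat.gcd N α
  have h1 : (j % m) * a % m = 1 := by
    rw [Nat.mod_mul_mod, mul_comm, hj.2]
  have h2 := Nat.mod_add_div ((j % m) * a) m
  rw [h1] at h2
  conv_lhs => rw [← h2]
  rw [mul_comm m]

section

variable {B C : Type u} [CommRing B] [CommRing C] [Algebra B C]
variable {N α e m a i₀ m₀ : ℕ}

theorem exists_yz [IsDomain B] (hN : 0 < N) {w : ℕ → C} {g u : B} (hg : g ≠ 0)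
    (tors : ∀ (b : B) (c : C), b ≠ 0 → algebraMap B C b * c = 0 → c = 0)
    {t : C} (ht : t ^ N = algebraMap B C (u * g ^ α))
    (hw : ∀ i < N, algebraMap B C (g ^ (i * α / N)) * w i = t ^ i)
    (ha : Arith N α e m a i₀ m₀) :
    ∃ y z : C, y ^ e = algebraMap B C u ∧ z ^ m = y ^ i₀ * algebraMap B C g ∧
      algebraMap B C (g ^ a) * y = t ^ m ∧ algebraMap B C (g ^ m₀) * z = t ^ i₀ ∧ w i₀ = z ∧
      ∀ i < N, ∃ M b c : ℕ, algebraMap B C (u ^ M) * w i = z ^ b * y ^ c := by
  have hcan : ∀ (b : B) (c c' : C), b ≠ 0 → algebraMap B C b * c = algebraMap B C b * c' → c = c' := by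
    intro b c c' hb h
    rw [← sub_eq_zero]
    apply tors b _ hb
    rw [mul_sub, h, sub_self]
  have hmN : m ≤ N := by rw [ha.hN]; exact Nat.le_mul_of_pos_right _ ha.he
  have hm0 : 0 < m := by have := ha.hm; omega
  obtain ⟨y, hy⟩ : ∃ y : C, algebraMap B C (g ^ a) * y = t ^ m := by
    rcases hmN.lt_or_eq with h | h
    · refine ⟨w m, ?_⟩
      have := hw m h
      have h2 : m * α / N = a := by
        rw [ha.hN, ha.hα]
        rw [Nat.mul_div_mul_left _ _ hm0, Nat.mul_div_cancel _ ha.he]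
      rwa [h2] at this
    · refine ⟨algebraMap B C u, ?_⟩
      have he1 : e = 1 := by
        have h1 := ha.hN
        rw [← h] at h1
        nlinarith [ha.he]
      rw [h, ht, ← map_mul, ha.hα, he1, mul_one, mul_comm]
  have hz : algebraMap B C (g ^ m₀) * w i₀ = t ^ i₀ := by
    have := hw i₀ (ha.hi.trans_le hmN)
    have h2 : i₀ * α / N = m₀ := by
      rw [ha.hN, ha.hα, ← mul_assoc, Nat.mul_div_mul_right _ _ ha.he, ha.h0, Nat.add_mul_div_right _ _ hm0,
        Nat.div_eq_of_lt ha.hm, zero_add]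
    rwa [h2] at this
  have hye : y ^ e = algebraMap B C u := by
    apply hcan (g ^ α) _ _ (pow_ne_zero _ hg)
    have h1 : algebraMap B C (g ^ α) * y ^ e = (algebraMap B C (g ^ a) * y) ^ e := by
      rw [mul_pow, ← map_pow, ← pow_mul, ← ha.hα]
    rw [h1, hy, ← pow_mul, ← ha.hN, ht, map_mul, mul_comm]
  have hzm : w i₀ ^ m = y ^ i₀ * algebraMap B C g := by
    apply hcan (g ^ (m₀ * m)) _ _ (pow_ne_zero _ hg)
    have h1 : algebraMap B C (g ^ (m₀ * m)) * w i₀ ^ m = (algebraMap B C (g ^ m₀) * w i₀) ^ m := by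
      rw [mul_pow, ← map_pow, ← pow_mul]
    rw [h1, hz, ← pow_mul, mul_comm i₀ m, pow_mul, ← hy, mul_pow, ← map_pow, ← pow_mul,
      mul_comm a i₀, ha.h0, pow_add, pow_one, map_mul]
    ring
  refine ⟨y, w i₀, hye, hzm, hy, hz, rfl, ?_⟩
  intro i hi
  set b := i * a % m with hb
  set q := i * a / m with hq
  have hia : i * a = q * m + b := by
    rw [hb, hq, mul_comm (i * a / m) m]
    exact (Nat.div_add_mod _ _).symm
  have hGi : i * α / N = q := by
    rw [ha.hN, ha.hα, ← mul_assoc, Nat.mul_div_mul_right _ _ ha.he]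
  -- `i + N * (i₀ * b) = i₀ * b + m * c`
  obtain ⟨c, hc⟩ : ∃ c, i + N * (i₀ * b) = i₀ * b + m * c := by
    have h1 : i₀ * b ≤ i + N * (i₀ * b) :=
      (Nat.le_mul_of_pos_left _ hN).trans (Nat.le_add_left _ _)
    have h2 : (m : ℤ) ∣ ((i + N * (i₀ * b) : ℕ) : ℤ) - ((i₀ * b : ℕ) : ℤ) := by
      refine ⟨-(m₀ * i : ℤ) + i₀ * q + e * (i₀ * b), ?_⟩
      have h3 : ((i₀ * a : ℕ) : ℤ) = 1 + m₀ * m := by rw [ha.h0]; push_cast; ring
      have h4 : ((i * a : ℕ) : ℤ) = q * m + b := by rw [hia]; push_cast; ring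
      have h5 : (N : ℤ) = m * e := by rw [ha.hN]; push_cast; ring
      push_cast at h3 h4 ⊢
      rw [h5]
      linear_combination -(i : ℤ) * h3 + (i₀ : ℤ) * h4
    obtain ⟨c, hc⟩ := h2
    have h3 : 0 ≤ c := by
      have h4 : (0 : ℤ) ≤ m * c := by
        rw [← hc]
        have h5 : ((i₀ * b : ℕ) : ℤ) ≤ ((i + N * (i₀ * b) : ℕ) : ℤ) := by exact_mod_cast h1
        linarith
      by_contra h5
      have h6 : (0 : ℤ) < m := by exact_mod_cast hm0
      nlinarith
    obtain ⟨c', rfl⟩ := Int.eq_ofNat_of_zero_le h3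
    refine ⟨c', ?_⟩
    have h7 : ((i + N * (i₀ * b) : ℕ) : ℤ) = ((i₀ * b + m * c' : ℕ) : ℤ) := by
      push_cast at hc ⊢
      linarith
    exact_mod_cast h7
  refine ⟨i₀ * b, b, c, ?_⟩
  apply hcan (g ^ (α * (i₀ * b) + q)) _ _ (pow_ne_zero _ hg)
  have hexp : α * (i₀ * b) + q = m₀ * b + a * c := by
    have h1 : m * (α * (i₀ * b) + q) = m * (m₀ * b + a * c) := by
      have h2 : m * α = a * N := by rw [ha.hN, ha.hα]; ring
      have h3 : a * (i + N * (i₀ * b)) = a * (i₀ * b + m * c) := by rw [hc]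
      have h4 : a * i₀ * b = b + m₀ * m * b := by rw [mul_comm a i₀, ha.h0]; ring
      zify at h2 h3 h4 hia ⊢
      linear_combination (i₀ * b : ℤ) * h2 + h3 + h4 - hia
    exact Nat.eq_of_mul_eq_mul_left hm0 h1
  calc algebraMap B C (g ^ (α * (i₀ * b) + q)) * (algebraMap B C (u ^ (i₀ * b)) * w i)
      = (algebraMap B C (u * g ^ α)) ^ (i₀ * b) * (algebraMap B C (g ^ q) * w i) := by
        simp only [map_mul, map_pow]
        ring
    _ = t ^ (N * (i₀ * b)) * t ^ i := by
        rw [← ht, ← pow_mul]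
        congr 1
        have := hw i hi
        rwa [hGi] at this
    _ = t ^ (i₀ * b + m * c) := by rw [← pow_add, add_comm, hc]
    _ = (algebraMap B C (g ^ m₀) * w i₀) ^ b * (algebraMap B C (g ^ a) * y) ^ c := by
        rw [hz, hy, ← pow_mul, ← pow_mul, ← pow_add]
    _ = algebraMap B C (g ^ (α * (i₀ * b) + q)) * (w i₀ ^ b * y ^ c) := by
        rw [hexp]
        simp only [map_pow]
        ring

/-- The algebra `B[Y]/(Y ^ e - u)`. -/
noncomputable abbrev YRing (u : B) (e : ℕ) := AdjoinRoot (pol e u)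

/-- The algebra `B[Y, Z]/(Y ^ e - u, Z ^ m - Y ^ i₀ * g)`. -/
noncomputable abbrev ZRing (u g : B) (e m i₀ : ℕ) :=
  AdjoinRoot (pol m (AdjoinRoot.root (pol e u) ^ i₀ * AdjoinRoot.of (pol e u) g))

/-- `B[Y]/(Y ^ e - u) → C`. -/
noncomputable def toC₁ (u : B) (e : ℕ) (y : C) (hy : y ^ e = algebraMap B C u) : YRing u e →+* C :=
  AdjoinRoot.lift (algebraMap B C) y (eval_pol e _ u y hy)

theorem toC₁_root (u : B) (e : ℕ) (y : C) (hy : y ^ e = algebraMap B C u) :
    toC₁ u e y hy (AdjoinRoot.root _) = y := AdjoinRoot.lift_root _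

theorem toC₁_of (u : B) (e : ℕ) (y : C) (hy : y ^ e = algebraMap B C u) (b : B) :
    toC₁ u e y hy (AdjoinRoot.of _ b) = algebraMap B C b := AdjoinRoot.lift_of _

/-- `B[Y, Z]/(Y ^ e - u, Z ^ m - Y ^ i₀ * g) → C`. -/
noncomputable def toC (u g : B) (e m i₀ : ℕ) (y z : C) (hy : y ^ e = algebraMap B C u)
    (hz : z ^ m = y ^ i₀ * algebraMap B C g) : ZRing u g e m i₀ →+* C :=
  AdjoinRoot.lift (toC₁ u e y hy) z (eval_pol m _ _ z (by
    rw [hz, map_mul, map_pow, toC₁_root, toC₁_of]))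

theorem toC_root (u g : B) (e m i₀ : ℕ) (y z : C) (hy : y ^ e = algebraMap B C u)
    (hz : z ^ m = y ^ i₀ * algebraMap B C g) :
    toC u g e m i₀ y z hy hz (AdjoinRoot.root _) = z := AdjoinRoot.lift_root _

theorem toC_of (u g : B) (e m i₀ : ℕ) (y z : C) (hy : y ^ e = algebraMap B C u)
    (hz : z ^ m = y ^ i₀ * algebraMap B C g) (b : YRing u e) :
    toC u g e m i₀ y z hy hz (AdjoinRoot.of _ b) = toC₁ u e y hy b := AdjoinRoot.lift_of _

/-- A surjection between free modules of the same rank is bijective. -/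
theorem bijective_of_finrank_eq {M P : Type*} [AddCommGroup M] [AddCommGroup P]
    [Module B M] [Module B P] [Module.Free B M] [Module.Free B P] [Module.Finite B M] [Module.Finite B P]
    [Nontrivial B]
    (h : Module.finrank B M = Module.finrank B P) (φ : M →ₗ[B] P) (hφ : Function.Surjective φ) :
    Function.Bijective φ := by
  let e : P ≃ₗ[B] M := LinearEquiv.ofFinrankEq P M h.symm
  have h1 : Function.Surjective (φ ∘ₗ e.toLinearMap) := hφ.comp e.surjective
  have h2 := OrzechProperty.injective_of_surjective_endomorphism _ h1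
  refine ⟨?_, hφ⟩
  intro a b hab
  have h3 := @h2 (e.symm a) (e.symm b) (by simpa using hab)
  exact e.symm.injective h3

theorem finrank_pol [Nontrivial B] (u : B) {e : ℕ} (he : 0 < e) : Module.finrank B (AdjoinRoot (pol e u)) = e := by
  have h := monic_pol he.ne' u
  rw [(AdjoinRoot.powerBasis' h).finrank, AdjoinRoot.powerBasis'_dim, natDegree_X_pow_sub_C]

theorem nontrivial_pol [Nontrivial B] (u : B) {e : ℕ} (he : 0 < e) : Nontrivial (AdjoinRoot (pol e u)) := by
  have h2 : 0 < (AdjoinRoot.powerBasis' (monic_pol he.ne' u)).dim := by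
    rw [AdjoinRoot.powerBasis'_dim, natDegree_X_pow_sub_C]
    exact he
  exact ⟨⟨_, _, (AdjoinRoot.powerBasis' (monic_pol he.ne' u)).basis.ne_zero ⟨0, h2⟩⟩⟩

/-- Surjections from a free module of rank `N` onto the cover are bijective. -/
theorem bijective_of_basis [Nontrivial B] {w : ℕ → C}
    (hind : ∀ a : ℕ → B, ∑ i ∈ range N, algebraMap B C (a i) * w i = 0 → ∀ i < N, a i = 0)
    (hspan : ∀ c : C, ∃ a : ℕ → B, c = ∑ i ∈ range N, algebraMap B C (a i) * w i)
    {E : Type u} [CommRing E] [Algebra B E] [Module.Free B E] [Module.Finite B E]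
    (hE : Module.finrank B E = N) (φ : E →ₐ[B] C) (hφ : ∀ i < N, w i ∈ φ.range) :
    Function.Bijective φ := by
  let v : Fin N → C := fun i => w i
  have hli : LinearIndependent B v := by
    rw [Fintype.linearIndependent_iff]
    intro a ha i
    have h1 := hind (fun j => if h : j < N then a ⟨j, h⟩ else 0) (by
      rw [Finset.sum_range]
      rw [← ha]
      refine Finset.sum_congr rfl fun j _ => ?_
      simp only [j.2, dite_true, Fin.eta, v, Algebra.smul_def]) i i.2
    simpa using h1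
  have hsp : ⊤ ≤ Submodule.span B (Set.range v) := by
    rintro c -
    obtain ⟨a, rfl⟩ := hspan c
    refine Submodule.sum_mem _ fun i hi => ?_
    rw [← Algebra.smul_def]
    exact Submodule.smul_mem _ _ (Submodule.subset_span ⟨⟨i, Finset.mem_range.mp hi⟩, rfl⟩)
  let bC : Module.Basis (Fin N) B C := Module.Basis.mk hli hsp
  have : Module.Free B C := Module.Free.of_basis bC
  have : Module.Finite B C := Module.Finite.of_basis bC
  have hrC : Module.finrank B C = N := by
    rw [Module.finrank_eq_card_basis bC, Fintype.card_fin]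
  have hsurj : Function.Surjective φ := by
    intro c
    obtain ⟨a, rfl⟩ := hspan c
    have h2 : ∑ i ∈ range N, algebraMap B C (a i) * w i ∈ φ.range :=
      Subalgebra.sum_mem _ fun i hi => mul_mem (Subalgebra.algebraMap_mem _ _) (hφ i (Finset.mem_range.mp hi))
    exact h2
  exact bijective_of_finrank_eq (hE.trans hrC.symm) φ.toLinearMap hsurj

/-- The normalised cyclic cover of a one-branch divisor. -/
theorem bijective_toC [Nontrivial B] {w : ℕ → C}
    (hind : ∀ a : ℕ → B, ∑ i ∈ range N, algebraMap B C (a i) * w i = 0 → ∀ i < N, a i = 0)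
    (hspan : ∀ c : C, ∃ a : ℕ → B, c = ∑ i ∈ range N, algebraMap B C (a i) * w i)
    {g u : B} (hu : IsUnit u) {y z : C} (hNe : N = m * e) (he : 0 < e) (hm : 0 < m)
    (hy : y ^ e = algebraMap B C u) (hz : z ^ m = y ^ i₀ * algebraMap B C g)
    (hyz : ∀ i < N, ∃ M b c : ℕ, algebraMap B C (u ^ M) * w i = z ^ b * y ^ c) :
    Function.Bijective (toC u g e m i₀ y z hy hz) := by
  -- the model
  have hn1 : Nontrivial (YRing u e) := nontrivial_pol u he
  have hf1 : Module.Free B (YRing u e) := (monic_pol he.ne' u).free_adjoinRoot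
  have hfin1 : Module.Finite B (YRing u e) := (monic_pol he.ne' u).finite_adjoinRoot
  have hf2 : Module.Free (YRing u e) (ZRing u g e m i₀) := (monic_pol hm.ne' _).free_adjoinRoot
  have hfin2 : Module.Finite (YRing u e) (ZRing u g e m i₀) := (monic_pol hm.ne' _).finite_adjoinRoot
  have hf3 : Module.Free B (ZRing u g e m i₀) := Module.Free.trans (S := YRing u e)
  have hfin3 : Module.Finite B (ZRing u g e m i₀) := Module.Finite.trans (YRing u e) _
  have hr3 : Module.finrank B (ZRing u g e m i₀) = N := by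
    rw [← Module.finrank_mul_finrank B (YRing u e) (ZRing u g e m i₀), finrank_pol u he,
      finrank_pol _ hm, hNe, mul_comm]
  let φ : ZRing u g e m i₀ →ₐ[B] C := ⟨toC u g e m i₀ y z hy hz, by
    intro r
    change toC u g e m i₀ y z hy hz (AdjoinRoot.of _ (AdjoinRoot.of _ r)) = _
    rw [toC_of, toC₁_of]⟩
  have hφz : φ (AdjoinRoot.root _) = z := toC_root _ _ _ _ _ _ _ hy hz
  have hφy : φ (AdjoinRoot.of _ (AdjoinRoot.root _)) = y := by
    change toC u g e m i₀ y z hy hz _ = _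
    rw [toC_of, toC₁_root]
  refine bijective_of_basis hind hspan hr3 φ ?_
  intro i hi
  obtain ⟨M, b, c, h⟩ := hyz i hi
  obtain ⟨u', hu'⟩ := hu.exists_left_inv
  have h2 : w i = algebraMap B C (u' ^ M) * (z ^ b * y ^ c) := by
    rw [← h, ← mul_assoc, ← map_mul, ← mul_pow, hu', one_pow, map_one, one_mul]
  rw [h2]
  have hz' : z ∈ φ.range := ⟨_, hφz⟩
  have hy' : y ∈ φ.range := ⟨_, hφy⟩
  exact mul_mem (Subalgebra.algebraMap_mem _ _) (mul_mem (pow_mem hz' _) (pow_mem hy' _))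

/-- The unramified case. -/
theorem bijective_toC₁ [Nontrivial B] {w : ℕ → C} (hN : 0 < N)
    (hind : ∀ a : ℕ → B, ∑ i ∈ range N, algebraMap B C (a i) * w i = 0 → ∀ i < N, a i = 0)
    (hspan : ∀ c : C, ∃ a : ℕ → B, c = ∑ i ∈ range N, algebraMap B C (a i) * w i)
    {u : B} {y : C} (hy : y ^ N = algebraMap B C u) (hyw : ∀ i < N, w i = y ^ i) :
    Function.Bijective (toC₁ u N y hy) := by
  have hf1 : Module.Free B (YRing u N) := (monic_pol hN.ne' u).free_adjoinRoot
  have hfin1 : Module.Finite B (YRing u N) := (monic_pol hN.ne' u).finite_adjoinRoot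
  let φ : YRing u N →ₐ[B] C := ⟨toC₁ u N y hy, by
    intro r
    change toC₁ u N y hy (AdjoinRoot.of _ r) = _
    rw [toC₁_of]⟩
  have hφy : φ (AdjoinRoot.root _) = y := toC₁_root _ _ _ hy
  refine bijective_of_basis hind hspan (finrank_pol u hN) φ ?_
  intro i hi
  rw [hyw i hi]
  exact pow_mem (show y ∈ φ.range from ⟨_, hφy⟩) _

/-- **Ramified case.** Structure of a normalised cyclic cover with `f = u * g ^ α`, `N ∤ α`. -/
theorem IsCov.exists_branch [IsDomain B] [IsIntegrallyClosed B] {f : B} {t : C} (h : IsCov N f t) (hN : 0 < N)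
    (hNu : IsUnit (N : B)) {ζ : B} (hζN : ζ ^ N = 1)
    (hζ : ∀ l, ¬ N ∣ l → ∑ m ∈ range N, ζ ^ (m * l) = 0) {g u : B} (hu : IsUnit u) (hg : g ≠ 0)
    (hB : IsBase B g) (hf : f = u * g ^ α) (ha : Arith N α e m a i₀ m₀) :
    ∃ (y z : C) (hy : y ^ e = algebraMap B C u) (hz : z ^ m = y ^ i₀ * algebraMap B C g),
      algebraMap B C (g ^ a) * y = t ^ m ∧ algebraMap B C (g ^ m₀) * z = t ^ i₀ ∧
      Function.Bijective (toC u g e m i₀ y z hy hz) := by
  obtain ⟨w, hw, hind, hspan⟩ := h.exists_basis hN hNu hζN hζ hB (fun i => g ^ (i * α / N))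
    (fun i _ => pow_ne_zero _ hg) (fun i => u ^ i * g ^ (i * α % N)) (by
      intro i _
      refine ((hu.pow i).mul_left_dvd).mpr ?_
      exact pow_dvd_pow _ (Nat.le_sub_one_of_lt (Nat.mod_lt _ hN))) (by
      intro i _
      rw [hf, mul_pow, ← pow_mul, mul_left_comm, ← pow_mul, ← pow_add]
      congr 2
      rw [mul_comm α i, mul_comm (i * α / N) N]
      exact (Nat.div_add_mod _ _).symm)
  have ht : t ^ N = algebraMap B C (u * g ^ α) := by rw [h.pow, hf]
  obtain ⟨y, z, hy, hz, h1, h2, -, h3⟩ := exists_yz hN hg h.tors ht hw ha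
  exact ⟨y, z, hy, hz, h1, h2, bijective_toC hind hspan hu ha.hN ha.he (by have := ha.hm; omega) hy hz h3⟩

/-- **Unramified case.** Structure of a normalised cyclic cover with `f = u * h ^ N`. -/
theorem IsCov.exists_unram [IsDomain B] [IsIntegrallyClosed B] {f : B} {t : C} (h : IsCov N f t) (hN : 0 < N)
    (hNu : IsUnit (N : B)) {ζ : B} (hζN : ζ ^ N = 1)
    (hζ : ∀ l, ¬ N ∣ l → ∑ m ∈ range N, ζ ^ (m * l) = 0) {H g u : B} (hu : IsUnit u) (hg : g ≠ 0)
    (hB : IsBase B H) (hf : f = u * g ^ N) :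
    ∃ (y : C) (hy : y ^ N = algebraMap B C u), algebraMap B C g * y = t ∧
      Function.Bijective (toC₁ u N y hy) := by
  have hcan : ∀ (b : B) (c c' : C), b ≠ 0 → algebraMap B C b * c = algebraMap B C b * c' → c = c' := by
    intro b c c' hb h'
    rw [← sub_eq_zero]
    apply h.tors b _ hb
    rw [mul_sub, h', sub_self]
  obtain ⟨w, hw, hind, hspan⟩ := h.exists_basis hN hNu hζN hζ hB (fun i => g ^ i)
    (fun i _ => pow_ne_zero _ hg) (fun i => u ^ i) (by
      intro i _
      exact (hu.pow i).dvd) (by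
      intro i _
      rw [hf, mul_pow, ← pow_mul, ← pow_mul, mul_comm N i, mul_comm])
  obtain ⟨y, hy⟩ : algebraMap B C g ∣ t := by
    apply h.root
    rw [h.pow, hf, map_mul, map_pow]
    exact dvd_mul_left _ _
  have hyN : y ^ N = algebraMap B C u := by
    apply hcan (g ^ N) _ _ (pow_ne_zero _ hg)
    rw [map_pow, ← mul_pow, ← hy, h.pow, hf, map_mul, map_pow, mul_comm]
  refine ⟨y, hyN, hy.symm, bijective_toC₁ hN hind hspan hyN ?_⟩
  intro i hi
  apply hcan (g ^ i) _ _ (pow_ne_zero _ hg)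
  rw [hw i hi, hy, mul_pow, map_pow]

end

section coord

open Groth.Agent.CurvesC.NodeEt

variable {k : Type u} [CommRing k] {B : Type u} [CommRing B] [Algebra k B] {n : ℕ} {x : Fin n → B}

theorem etale_of_pol {e : ℕ} (he : 0 < e) (u : B) (hu : IsUnit u) (heB : IsUnit (e : B)) :
    (Algebra.ofId B (YRing u e) |>.restrictScalars k).toRingHom.Etale := by
  have := etale_of he.ne' u hu heB
  rwa [← AdjoinRoot.algebraMap_eq] at this

/-- Étale coordinates on `B[Y, Z]/(Y ^ e - u, Z ^ m - Y ^ i₀ * x_c)`. -/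
theorem coord_zring (hx : IsEtaleCoord k x) (c : Fin n) {u : B} (hu : IsUnit u) {e m i₀ : ℕ}
    (he : 0 < e) (heB : IsUnit (e : B))
    (hδ : IsUnit ((e : B) * u + i₀ * x c * hx.pd c u)) :
    IsEtaleCoord k (Function.update (fun i => algebraMap B (ZRing u (x c) e m i₀) (x i)) c
      (AdjoinRoot.root _)) := by
  let B' := YRing u e
  let ψ : B →ₐ[k] B' := (Algebra.ofId B (YRing u e)).restrictScalars k
  have hψ : ψ.toRingHom.Etale := etale_of_pol he u hu heB
  have hψa : ∀ b, ψ b = AdjoinRoot.of _ b := fun b => rfl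
  have hx' := hx.comp ψ hψ
  let ρ : B' := AdjoinRoot.root (pol e u)
  have hρ : ρ ^ e = ψ u := root_pow e u
  have h1 : ψ (e : B) * ψ u * hx'.pd c (ρ ^ i₀) = i₀ * ρ ^ i₀ * ψ (hx.pd c u) := by
    have h2 : (e : B') * ρ ^ (e - 1) * hx'.pd c ρ = ψ (hx.pd c u) := by
      rw [← Coord.pd_comp hx ψ hψ c u, ← hρ, Derivation.leibniz_pow, nsmul_eq_mul, smul_eq_mul]
      ring
    have h3 : ρ ^ e = ρ * ρ ^ (e - 1) := by
      rw [← pow_succ', Nat.sub_add_cancel he]
    rw [Derivation.leibniz_pow, nsmul_eq_mul, smul_eq_mul, ← hρ, h3, ← h2, map_natCast]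
    rcases Nat.eq_zero_or_pos i₀ with h | h
    · subst h
      simp
    · have h4 : ρ ^ i₀ = ρ * ρ ^ (i₀ - 1) := by
        rw [← pow_succ', Nat.sub_add_cancel h]
      rw [h4]
      ring
  have hρu : IsUnit ρ := by
    rw [← isUnit_pow_iff he.ne', hρ]
    exact hu.map ψ
  have h5 : IsUnit (ρ ^ i₀ + ψ (x c) * hx'.pd c (ρ ^ i₀)) := by
    have h6 : ψ (e : B) * ψ u * (ρ ^ i₀ + ψ (x c) * hx'.pd c (ρ ^ i₀)) =
        ρ ^ i₀ * ψ ((e : B) * u + i₀ * x c * hx.pd c u) := by
      rw [mul_add, show ψ (e : B) * ψ u * (ψ (x c) * hx'.pd c (ρ ^ i₀)) =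
        ψ (x c) * (ψ (e : B) * ψ u * hx'.pd c (ρ ^ i₀)) by ring, h1]
      simp only [map_add, map_mul, map_natCast]
      ring
    have h7 : IsUnit (ψ (e : B) * ψ u * (ρ ^ i₀ + ψ (x c) * hx'.pd c (ρ ^ i₀))) := by
      rw [h6]
      exact (hρu.pow _).mul (hδ.map ψ)
    exact isUnit_of_mul_isUnit_right h7
  have h8 := Coord.coord_scale hx' c (ρ ^ i₀) h5
  have h9 := Coord.coord_root h8 c m
  have h10 : Function.update (fun i => ψ (x i)) c (ρ ^ i₀ * ψ (x c)) c = ρ ^ i₀ * ψ (x c) :=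
    Function.update_self _ _ _
  rw [h10] at h9
  refine Eq.mpr (congrArg (IsEtaleCoord k (B := ZRing u (x c) e m i₀)) ?_) h9
  funext i
  by_cases hi : i = c
  · subst hi
    rw [Function.update_self, Function.update_self]
    rfl
  · rw [Function.update_of_ne hi, Function.update_of_ne hi, Function.update_of_ne hi]
    rfl

/-- Étale coordinates on the normalised cyclic cover. -/
theorem coord_cover (hx : IsEtaleCoord k x) (c : Fin n) {u : B} (hu : IsUnit u) {e m i₀ : ℕ}
    (he : 0 < e) (heB : IsUnit (e : B))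
    (hδ : IsUnit ((e : B) * u + i₀ * x c * hx.pd c u))
    {C : Type u} [CommRing C] [Algebra B C] [Algebra k C] [IsScalarTower k B C]
    {y z : C} (hy : y ^ e = algebraMap B C u) (hz : z ^ m = y ^ i₀ * algebraMap B C (x c))
    (h : Function.Bijective (toC u (x c) e m i₀ y z hy hz)) :
    IsEtaleCoord k (Function.update (fun i => algebraMap B C (x i)) c z) := by
  have h1 := coord_zring hx c hu (m := m) he heB hδ
  let φ : ZRing u (x c) e m i₀ →ₐ[k] C := ⟨toC u (x c) e m i₀ y z hy hz, by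
    intro r
    rw [IsScalarTower.algebraMap_apply k B (ZRing u (x c) e m i₀)]
    change toC u (x c) e m i₀ y z hy hz (AdjoinRoot.of _ (AdjoinRoot.of _ (algebraMap k B r))) = _
    rw [toC_of, toC₁_of, ← IsScalarTower.algebraMap_apply]⟩
  have h2 := h1.comp φ (RingHom.Etale.of_bijective h)
  convert h2 using 1
  funext i
  by_cases hi : i = c
  · subst hi
    rw [Function.update_self, Function.update_self]
    exact (toC_root _ _ _ _ _ _ _ hy hz).symm
  · rw [Function.update_of_ne hi, Function.update_of_ne hi]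
    change _ = toC u (x c) e m i₀ y z hy hz (AdjoinRoot.of _ (AdjoinRoot.of _ (x i)))
    rw [toC_of, toC₁_of]

end coord

end K926.Branch
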