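import Groth.Agent.CycCov.K926.LocW
import Groth.Agent.CycCov.K926.LocZ

/-!
# Explicit charts of the cover
-/

set_option autoImplicit false
universe u

open CategoryTheory CategoryTheory.Limits AlgebraicGeometry Opposite TopologicalSpace
open Groth.Agent.Fdesc.LocGen

namespace K926.Loc

open K926.Str K926.Base K926.Frame K926.Cov K926.Branch
open Groth.Agent.CurvesC.NodeEt

variable {k : Type u} [Field k] {X Y : Scheme.{u}}
  {L : X.Modules} {N : ℕ} {r : ℕ} {D : Fin r → X.IdealSheafData} {α : Fin r → ℕ}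
  {s : Coh.structureModule X ⟶ CohB1.tensorPow L N} {π : Y ⟶ X}
  {f : X ⟶ Spec (CommRingCat.of k)}

/-- The chart is unramified. -/
structure IsUnr (d : LocData f D α s) (π : Y ⟶ X) : Prop where
  dvd : ∀ j, d.c.e j ≠ none → N ∣ α j
  coord : IsCoord (π ≫ f) (π ⁻¹ᵁ d.U.1) (fun l => (π.app d.U.1).hom (d.c.v l))

/-- The chart is ramified along `D j₀`, with explicit coordinates. -/
structure IsRam (d : LocData f D α s) (R : CycCov.Root L N s π) (j₀ : Fin r) (c : Fin d.n) (e m a i₀ m₀ : ℕ)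
    (y z : Γ(Y, π ⁻¹ᵁ d.U.1)) : Prop where
  hj : d.c.e j₀ = some c
  dvd : ¬ N ∣ α j₀
  other : ∀ j, j ≠ j₀ → d.c.e j ≠ none → α j = 0
  arith : Arith N (α j₀) e m a i₀ m₀
  hgcd : e = Nat.gcd N (α j₀)
  hek : (e : k) ≠ 0
  hmk : (m : k) ≠ 0
  hf : d.f' = d.u * d.c.v c ^ α j₀
  hy : y ^ e = (π.app d.U.1).hom d.u
  hz : z ^ m = y ^ i₀ * (π.app d.U.1).hom (d.c.v c)
  hyt : (π.app d.U.1).hom (d.c.v c ^ a) * y = d.t R ^ m
  hzt : (π.app d.U.1).hom (d.c.v c ^ m₀) * z = d.t R ^ i₀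
  coord : IsCoord (π ≫ f) (π ⁻¹ᵁ d.U.1) (Function.update (fun j => (π.app d.U.1).hom (d.c.v j)) c z)

theorem IsRam.isUnit_y {d : LocData f D α s} {R : CycCov.Root L N s π} {j₀ : Fin r} {c : Fin d.n}
    {e m a i₀ m₀ : ℕ} {y z : Γ(Y, π ⁻¹ᵁ d.U.1)} (h : IsRam d R j₀ c e m a i₀ m₀ y z) : IsUnit y := by
  rw [← isUnit_pow_iff h.arith.he.ne', h.hy]
  exact d.hu.map _

variable [IsIntegral X] [Smooth f] [IsAlgClosed k]

/-- **Explicit charts of the cover.** -/
theorem exists_data (hL : PicF.IsInvertible L) (hN : 0 < N) (hNk : (N : k) ≠ 0)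
    (hD : LogNCD.IsNCD D f)
    (hs : CycCov.IsZeroDiv (CohB1.tensorPow L N) s (CycCov.divIdeal D α))
    (R : CycCov.Root L N s π) (hR : CycCov.IsCover R) {O : X.Opens} {x : X} (hx : x ∈ O)
    (hone : ∀ j j' : Fin r, 0 < α j → 0 < α j' → x ∈ (D j).support → x ∈ (D j').support → j = j') :
    ∃ d : LocData f D α s, x ∈ d.U.1 ∧ d.U.1 ≤ O ∧ (∀ j, d.c.e j ≠ none → x ∈ (D j).support) ∧
      (IsUnr d π ∨ ∃ j₀ c e m a i₀ m₀ y z, IsRam d R j₀ c e m a i₀ m₀ y z) := by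
  have hfin : IsFinite π := hR.1
  obtain ⟨d, hxd, hdO, hnorm⟩ := exists_locData_normalized f hL hD hs hx
  have hne : Nonempty d.U.1 := ⟨⟨x, hxd⟩⟩
  have hsupp : ∀ j, d.c.e j ≠ none → x ∈ (D j).support := fun j hj => by
    by_contra h
    exact hj (hnorm j h)
  by_cases hcase : ∀ j, d.c.e j ≠ none → N ∣ α j
  · -- unramified
    have hg0 : ∀ j, d.c.g j ≠ 0 := by
      intro j
      rcases hj : d.c.e j with _ | l
      · rw [d.c.g_none j hj]
        exact one_ne_zero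
      · rw [d.c.g_some j l hj]
        exact coord_ne_zero (Set.nonempty_coe_sort.mp hne) d.coord l
    have hf : d.f' = d.u * (∏ j, d.c.g j ^ (α j / N)) ^ N := by
      rw [← Finset.prod_pow]
      change d.u * ∏ j, d.c.g j ^ α j = _
      congr 1
      refine Finset.prod_congr rfl fun j _ => ?_
      rw [← pow_mul]
      rcases hj : d.c.e j with _ | l
      · rw [d.c.g_none j hj, one_pow, one_pow]
      · rw [Nat.div_mul_cancel (hcase j (by rw [hj]; exact Option.some_ne_none l))]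
    have hh : (∏ j, d.c.g j ^ (α j / N)) ≠ 0 :=
      Finset.prod_ne_zero_iff.mpr fun j _ => pow_ne_zero _ (hg0 j)
    exact ⟨d, hxd, hdO, hsupp, Or.inl ⟨hcase, d.coord_unram R hR hN hNk d.hu hh hf⟩⟩
  · -- ramified
    push Not at hcase
    obtain ⟨j₀, hj₀, hdvd⟩ := hcase
    obtain ⟨c, hc⟩ := Option.ne_none_iff_exists'.mp hj₀
    have hxj₀ := hsupp j₀ hj₀
    have hα₀ : 0 < α j₀ := Nat.pos_of_ne_zero fun h => hdvd (h ▸ dvd_zero N)
    have hother : ∀ j, j ≠ j₀ → d.c.e j ≠ none → α j = 0 := by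
      intro j hj hj'
      by_contra h
      exact hj (hone j j₀ (Nat.pos_of_ne_zero h) hα₀ (hsupp j hj') hxj₀)
    obtain ⟨m, a, i₀, m₀, ha⟩ := exists_arith hN hdvd
    have hem : ((m * Nat.gcd N (α j₀) : ℕ) : k) ≠ 0 := by rwa [← ha.hN]
    rw [Nat.cast_mul] at hem
    have hek : ((Nat.gcd N (α j₀) : ℕ) : k) ≠ 0 := right_ne_zero_of_mul hem
    have hcx : x ∉ X.basicOpen (d.c.v c) := by
      rw [← d.c.g_some j₀ c hc]
      rw [← K922.Chart.mem_support_iff_span (D j₀) d.U (d.c.g j₀) _ x hxd]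
      · exact hxj₀
      · have := d.c.ideal j₀ d.U le_rfl
        rwa [Groth.Agent.Sga67.Sec.resO_self] at this
    obtain ⟨W, hWd, hxW, hδ⟩ := d.exists_delta hxd hek i₀ hcx
    set d' := d.restrict W hWd with hd'
    have hne' : Nonempty d'.U.1 := ⟨⟨x, hxW⟩⟩
    have hf : d'.f' = d'.u * d'.c.v c ^ α j₀ := by
      change d'.u * ∏ j, d'.c.g j ^ α j = _
      congr 1
      rw [Finset.prod_eq_single j₀]
      · rw [d'.c.g_some j₀ c hc]
      · intro j _ hj
        rcases hj' : d.c.e j with _ | l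
        · rw [d'.c.g_none j hj', one_pow]
        · rw [hother j hj (by rw [hj']; exact Option.some_ne_none l), pow_zero]
      · intro h
        exact absurd (Finset.mem_univ j₀) h
    obtain ⟨y, z, hy, hz, hyt, hzt, hbij⟩ := d'.ram R hR hN hNk d'.hu hf ha
    have hcoord := d'.coord_ram ha.he hek hy hz hbij hδ
    exact ⟨d', hxW, hWd.trans hdO, hsupp, Or.inr ⟨j₀, c, _, m, a, i₀, m₀, y, z, hc, hdvd, hother, ha, rfl, hek,
      left_ne_zero_of_mul hem, hf, hy, hz, hyt, hzt, hcoord⟩⟩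

end K926.Loc
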