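import Groth.Agent.CycCov.K926.Data

/-!
# Factorization of the equations of the branch divisor on the cover
-/

set_option autoImplicit false
universe u

open CategoryTheory CategoryTheory.Limits AlgebraicGeometry Opposite TopologicalSpace
open Groth.Agent.Fdesc.LocGen

namespace K926.Loc

open K926.Str K926.Base K926.Frame K926.Cov K926.Branch
open Groth.Agent.CurvesC.NodeEt

variable {k : Type u} [Field k] {X Y : Scheme.{u}}
  {L : X.Modules} {N : ℕ} {r : ℕ} {D : Fin r → X.IdealSheafData} {α : Fin r → ℕ}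
  {s : Coh.structureModule X ⟶ CohB1.tensorPow L N} {π : Y ⟶ X}
  {f : X ⟶ Spec (CommRingCat.of k)}

/-- The preimage of the chart. -/
def LocData.V (d : LocData f D α s) (π : Y ⟶ X) [IsAffineHom π] : Y.affineOpens :=
  ⟨π ⁻¹ᵁ d.U.1, d.U.2.preimage π⟩

/-- Factorization of the pulled back equations. -/
structure Fac (d : LocData f D α s) (π : Y ⟶ X)
    (c' : K922.Chart.Chart (π ≫ f) (fun j => ((D j).comap π).radical) (π ⁻¹ᵁ d.U.1) d.n) : Prop where
  v : ∀ l, c'.v l = (π.app d.U.1).hom (d.c.v l) ∨ ∃ j, c'.g j = c'.v l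
  fac : ∀ j, ∃ (w : Γ(Y, π ⁻¹ᵁ d.U.1)) (b : Γ(X, d.U.1)) (e m : ℕ), IsUnit w ∧ (e : k) ≠ 0 ∧ (m : k) ≠ 0 ∧
    w ^ e = (π.app d.U.1).hom b ∧ (π.app d.U.1).hom (d.c.g j) = w * c'.g j ^ m

theorem IsUnr.exists_fac [IsAffineHom π] {d : LocData f D α s} (h : IsUnr d π) :
    ∃ c', Fac d π c' := by
  refine ⟨mkChart (fun j => (D j).comap π) (V := d.V π) _ h.coord d.c.e
        (fun j => (π.app d.U.1).hom (d.c.g j)) d.c.inj
        (fun i hi => by rw [d.c.g_none i hi, map_one]; rfl) (fun i l hi => by rw [d.c.g_some i l hi])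
        (fun j => 1) (fun j => one_pos) (fun j => ?_), ⟨fun l => Or.inl rfl, fun j => ?_⟩⟩
  · rw [pow_one]
    exact d.ideal_comap j
  · exact ⟨1, 1, 1, 1, isUnit_one, by simp, by simp, by simp, by
      rw [one_mul, pow_one]
      rfl⟩

theorem IsRam.exists_fac [IsAffineHom π] {d : LocData f D α s} {R : CycCov.Root L N s π} {j₀ : Fin r} {c : Fin d.n}
    {e m a i₀ m₀ : ℕ} {y z : Γ(Y, π ⁻¹ᵁ d.U.1)} (h : IsRam d R j₀ c e m a i₀ m₀ y z) :
    ∃ c', Fac d π c' := by
  have hyu := h.isUnit_y
  have hm0 : 0 < m := by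
    have := h.arith.hm
    omega
  let g' : Fin r → Γ(Y, π ⁻¹ᵁ d.U.1) := fun j => if j = j₀ then z else (π.app d.U.1).hom (d.c.g j)
  have hI : ∀ j, ((D j).comap π).ideal (d.V π) = Ideal.span {g' j ^ (if j = j₀ then m else 1)} := by
    intro j
    refine (d.ideal_comap j).trans ?_
    by_cases hj : j = j₀
    · subst hj
      simp only [g', if_true]
      rw [h.hz, d.c.g_some j c h.hj]
      exact (Ideal.span_singleton_mul_left_unit (hyu.pow i₀) _).symm
    · simp only [g', if_neg hj, pow_one]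
  refine ⟨mkChart (fun j => (D j).comap π) (V := d.V π) _ h.coord d.c.e
        g' d.c.inj ?_ ?_ (fun j => if j = j₀ then m else 1) (fun j => by split_ifs <;> omega) hI, ⟨fun l => ?_, fun j => ?_⟩⟩
  · intro i hi
    have hij : i ≠ j₀ := by
      rintro rfl
      rw [h.hj] at hi
      cases hi
    simp only [g', if_neg hij]
    rw [d.c.g_none i hi, map_one]
    rfl
  · intro i l hi
    by_cases hij : i = j₀
    · subst hij
      have hlc : l = c := Option.some_injective _ (hi.symm.trans h.hj)
      subst hlc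
      simp only [g', if_true, Function.update_self]
    · have hlc : l ≠ c := fun h' => hij (d.c.inj i j₀ c (h' ▸ hi) h.hj)
      simp only [g', if_neg hij]
      rw [Function.update_of_ne hlc, d.c.g_some i l hi]
  · change Function.update (fun j => (π.app d.U.1).hom (d.c.v j)) c z l = _ ∨ ∃ j, g' j =
      Function.update (fun j => (π.app d.U.1).hom (d.c.v j)) c z l
    by_cases hl : l = c
    · subst hl
      right
      refine ⟨j₀, ?_⟩
      simp only [g', if_true, Function.update_self]
    · left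
      rw [Function.update_of_ne hl]
  · by_cases hj : j = j₀
    · subst hj
      obtain ⟨y', hy'⟩ := hyu.exists_left_inv
      obtain ⟨u', hu'⟩ := d.hu.exists_left_inv
      refine ⟨y' ^ i₀, u' ^ i₀, e, m, (IsUnit.of_mul_eq_one _ hy').pow _, h.hek, h.hmk, ?_, ?_⟩
      · have h1 : y' ^ e = (π.app d.U.1).hom u' := by
          have h2 : IsUnit ((π.app d.U.1).hom d.u) := d.hu.map _
          apply h2.mul_left_injective
          simp only
          rw [← map_mul, hu', map_one, ← h.hy, ← mul_pow, hy', one_pow]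
        rw [← pow_mul, mul_comm i₀ e, pow_mul, h1, map_pow]
      · change _ = y' ^ i₀ * g' j ^ m
        simp only [g', if_true]
        rw [h.hz, d.c.g_some j c h.hj, ← mul_assoc, ← mul_pow, hy', one_pow, one_mul]
    · refine ⟨1, 1, 1, 1, isUnit_one, by simp, by simp, by simp, ?_⟩
      change _ = 1 * g' j ^ 1
      simp only [g', if_neg hj]
      rw [one_mul, pow_one]

end K926.Loc
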