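import Groth.Agent.CycCov.K926.Wedge

/-!
# The decomposition of the direct image of the differential forms of a cyclic cover
-/

set_option autoImplicit false
universe u

open CategoryTheory CategoryTheory.Limits AlgebraicGeometry Opposite TopologicalSpace
open scoped TensorProduct
open Groth.Agent.Sga67.Sec Groth.Agent.Sga67.LocBasis Groth.Agent.Sga67.ExtSheaf

namespace K926.Decomp

open K892.RankOne K892.Frames K892.Pair K926.Loc K926.Base K922.Coord K922.DSec K922.LogBasis K922.Univ K922.Chart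
open K926.LogPull K926.Branch K926.ExtPush K926.DivHom K926.Wedge K926.RamForm K926.EigMap
open Groth.Agent.Vancyc.H678.TwistFam

/-- Universal differentials of a smooth morphism are finite locally free. -/
theorem isFinLocFree_omega {X S : Scheme.{u}} {f : X ⟶ S} [Smooth f] {Ω : X.Modules} {d : OmegaSh.Der f Ω} (hd : AffUniv d) :
    FlatMod.IsFinLocFree Ω := by
  apply isFinLocFree_of_exists
  intro x
  obtain ⟨U, n, v, hxU, -, hv⟩ := exists_isCoord f (O := ⊤) (x := x) trivial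
  exact ⟨U.1, Fin n, inferInstance, _, hxU, hv.isLocBasis hd⟩

/-- The embedding attached to a subset. -/
noncomputable abbrev emb {n q : ℕ} (I : Set.powersetCard (Fin n) q) : Fin q → Fin n := Set.powersetCard.ofFinEmbEquiv.symm I

theorem emb_injective {n q : ℕ} (I : Set.powersetCard (Fin n) q) : Function.Injective (emb I) :=
  (Set.powersetCard.ofFinEmbEquiv.symm I).injective

theorem isLocBasis_wdg {X : Scheme.{u}} {q : ℕ} {E P : X.Modules} {φ : Phi q E P} (hφ : PhiComp φ) {U : X.affineOpens} {n : ℕ}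
    {b : Fin n → Sec E U.1} (hb : IsLocBasis b) :
    IsLocBasis (fun I : Set.powersetCard (Fin n) q => wdg φ U b (emb I)) :=
  isLocBasis_extPow φ hφ hb

variable {k : Type u} [Field k] {X Y : Scheme.{u}} {π : Y ⟶ X}
  {f : X ⟶ Spec (CommRingCat.of k)} {r : ℕ} {D : Fin r → X.IdealSheafData}
  {ΩX : X.Modules} {dX : OmegaSh.Der f ΩX} {hdX : OmegaSh.IsUniversal dX}
  {ΩY : Y.Modules} {dY : OmegaSh.Der (π ≫ f) ΩY}
  {q : ℕ} {P Lb M : X.Modules} {Q : Y.Modules} 
  {L : X.Modules} {N : ℕ} {α : Fin r → ℕ}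
  {s : Coh.structureModule X ⟶ CohB1.tensorPow L N} {i : ℕ}
  {Λ : LogNCD.LogMod dX (CycCov.poleDiv D α N i)}
  {φP : Phi q ΩX P} {φL : Phi q Λ.L Lb} {φQ : Phi q ΩY Q}
  {K : P ⟶ Lb} {Θ : P ⟶ (Scheme.Modules.pushforward π).obj Q}
  {E : M ⟶ (Scheme.Modules.pushforward π).obj (Coh.structureModule Y)}
  {J : CohB1.tensorMod P M ⟶ CohB1.tensorMod Lb M}
  {S : CohB1.tensorMod P M ⟶ (Scheme.Modules.pushforward π).obj Q}

/-- The image of a basis form on a chart. -/
theorem drel_chart [IsAffineHom π]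
    (hK : ∀ (U : X.affineOpens) (s : Sec P U.1),
      φL U (appS K U.1 s) = exteriorPower.map q (appS Λ.ι U.1) (φP U s))
    (hΘ : ∀ (U : X.affineOpens) (e : Fin q → Sec ΩX U.1),
      un π (appS Θ U.1 ((φP U).symm (exteriorPower.ιMulti _ q e))) =
        (φQ (pre π U)).symm (exteriorPower.ιMulti _ q (fun j => un π (appS (pb hdX dY) U.1 (e j)))))
    (hJ : ∀ (U : X.Opens) (p : Sec P U) (m : Sec M U),
      appS J U (tau P M U (p ⊗ₜ[Γ(X, U)] m)) = tau Lb M U (appS K U p ⊗ₜ[Γ(X, U)] m))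
    (hS : ∀ (U : X.Opens) (p : Sec P U) (m : Sec M U),
      un π (appS S U (tau P M U (p ⊗ₜ[Γ(X, U)] m))) = K926.EigMap.toY (appS E U m) • un π (appS Θ U p))
    (d : LocData f D α s) (B : LogBasis Λ (poleChart d.c α N i)) {δ : Fin d.n → Sec ΩY (π ⁻¹ᵁ d.U.1)}
    {Qc : Fin d.n → Γ(Y, π ⁻¹ᵁ d.U.1)} (hQ : ∀ l, Qc l • δ l = dS dY _ ((π.app d.U.1).hom (d.c.v l)))
    {μ : Sec M d.U.1} {p : Γ(X, d.U.1)} {w x : Γ(Y, π ⁻¹ᵁ d.U.1)} (hE : toY (appS E d.U.1 μ) = (π.app d.U.1).hom p * w)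
    (ε : Fin q → Fin d.n)
    (hx : (π.app d.U.1).hom (∏ j, fac (poleChart d.c α N i) (ε j)) * x = w * ∏ j, Qc (ε j)) :
    DRel J S d.U.1 (tau Lb M d.U.1 (wdg φL d.U B.b ε ⊗ₜ[Γ(X, d.U.1)] μ))
      (mk' π (((π.app d.U.1).hom p * x) • wdg φQ (pre π d.U) δ ε)) := by
  refine ⟨∏ j, fac (poleChart d.c α N i) (ε j),
    tau P M d.U.1 (wdg φP d.U (fun l => dS dX d.U.1 (d.c.v l)) ε ⊗ₜ[Γ(X, d.U.1)] μ),
    IsReg.prod _ fun j _ => isReg_fac _ _, ?_, ?_⟩
  · have h1 := K_wdg (Λ := Λ) (φP := φP) (φL := φL) hK B ε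
    rw [hJ]
    have h2 : appS K d.U.1 (wdg φP d.U (fun l => dS dX d.U.1 (d.c.v l)) ε) =
        (∏ j, fac (poleChart d.c α N i) (ε j)) • wdg φL d.U B.b ε := h1
    rw [h2, ← TensorProduct.smul_tmul', map_smul]
  · have h1 := hS d.U.1 (wdg φP d.U (fun l => dS dX d.U.1 (d.c.v l)) ε) μ
    rw [hE, Θ_wdg hΘ hQ ε] at h1
    change (π.app d.U.1).hom (∏ j, fac (poleChart d.c α N i) (ε j)) • (((π.app d.U.1).hom p * x) • wdg φQ (pre π d.U) δ ε) =
      un π (appS S d.U.1 (tau P M d.U.1 (wdg φP d.U (fun l => dS dX d.U.1 (d.c.v l)) ε ⊗ₜ[Γ(X, d.U.1)] μ)))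
    rw [h1, smul_smul, smul_smul]
    congr 1
    calc (π.app d.U.1).hom (∏ j, fac (poleChart d.c α N i) (ε j)) * ((π.app d.U.1).hom p * x) =
          (π.app d.U.1).hom p * ((π.app d.U.1).hom (∏ j, fac (poleChart d.c α N i) (ε j)) * x) := by ring
      _ = _ := by rw [hx]; ring

/-- Injectivity of `J`. -/
theorem injective_J [IsIntegral X] [Smooth f] [IsAlgClosed k] (hdX : OmegaSh.IsUniversal dX)
    (hφP : PhiComp φP) (hφL : PhiComp φL)
    (hK : ∀ (U : X.affineOpens) (s : Sec P U.1),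
      φL U (appS K U.1 s) = exteriorPower.map q (appS Λ.ι U.1) (φP U s))
    (hJ : ∀ (U : X.Opens) (p : Sec P U) (m : Sec M U),
      appS J U (tau P M U (p ⊗ₜ[Γ(X, U)] m)) = tau Lb M U (appS K U p ⊗ₜ[Γ(X, U)] m))
    (hM : PicF.IsInvertible M) (hD : LogNCD.IsNCD D f) (U : X.Opens) :
    Function.Injective (appS J U) := by
  apply injective_of_diag
  intro O x hx
  obtain ⟨V, hxV, hVO, μ₀, hμ₀⟩ := exists_gen hM O x hx
  obtain ⟨U, n, c, hxU, hU⟩ := exists_chart hD hxV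
  obtain ⟨B⟩ := exists_logBasis (affUniv hdX) Λ (poleChart c α N i)
  let μ : Sec M U.1 := res M hU μ₀
  have hμ : Gen M U.1 μ := hμ₀.restrict hU
  refine ⟨U.1, hxU, hU.trans hVO, Set.powersetCard (Fin n) q, inferInstance,
    fun I => tau P M U.1 (wdg φP U (fun l => dS dX U.1 (c.v l)) (emb I) ⊗ₜ[Γ(X, U.1)] μ),
    fun I => tau Lb M U.1 (wdg φL U B.b (emb I) ⊗ₜ[Γ(X, U.1)] μ),
    fun I => ∏ j, fac (poleChart c α N i) (emb I j),
    isLocBasis_tensor_one (isLocBasis_wdg hφP (c.coord.isLocBasis (affUniv hdX))) hμ,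
    isLocBasis_tensor_one (isLocBasis_wdg hφL B.isLocBasis) hμ, fun I => IsReg.prod _ fun j _ => isReg_fac _ _, ?_⟩
  intro I
  rw [hJ]
  have h2 : appS K U.1 (wdg φP U (fun l => dS dX U.1 (c.v l)) (emb I)) =
      (∏ j, fac (poleChart c α N i) (emb I j)) • wdg φL U B.b (emb I) := K_wdg (Λ := Λ) (φP := φP) (φL := φL) hK B (emb I)
  rw [h2, ← TensorProduct.smul_tmul', map_smul]

/-- The value of the eigenmap on a generator. -/
theorem E_gen [IsIntegral X] {η : CohB1.tensorMod (CycCov.intPart L D α N i) M ≅ Coh.structureModule X}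
    {R : CycCov.Root L N s π}
    (hE : ∀ (U : X.Opens) (m : Sec M U) (c : Sec _ U), Gen M U m → K926.EigMap.Rel η R U m c → appS E U m = c)
    (d : LocData f D α s) {w : Γ(Y, π ⁻¹ᵁ d.U.1)} (hw : (π.app d.U.1).hom (d.G i) * w = d.t R ^ i)
    {μ : Sec M d.U.1} (hμ : Gen M d.U.1 μ) :
    ∃ p : Γ(X, d.U.1), IsUnit p ∧ toY (appS E d.U.1 μ) = (π.app d.U.1).hom p * w := by
  obtain ⟨y, hy, hgy⟩ := exists_y (N := N) d i
  have hge : Gen L d.U.1 d.e := gen_iff.mpr d.he
  refine ⟨P η d.e y μ, isUnit_P η hge hgy hμ, ?_⟩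
  rw [hE _ _ _ hμ (rel_of_w d hy hgy hw μ)]
  rfl

theorem w_bijective {d : LocData f D α s} {w : ℕ → Γ(Y, π ⁻¹ᵁ d.U.1)}
    (hind : ∀ a : ℕ → Γ(X, d.U.1), ∑ i ∈ Finset.range N, (π.app d.U.1).hom (a i) * w i = 0 → ∀ i < N, a i = 0)
    (hspan : ∀ c : Γ(Y, π ⁻¹ᵁ d.U.1), ∃ a : ℕ → Γ(X, d.U.1), c = ∑ i ∈ Finset.range N, (π.app d.U.1).hom (a i) * w i) :
    Function.Bijective (fun a : Fin N → Γ(X, d.U.1) => ∑ i, (π.app d.U.1).hom (a i) * w i) := by
  let _ := K926.CovSch.alg π d.U.1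
  exact bijective_of_eigenbasis hind hspan

/-- **The components of the decomposition.** -/
theorem exists_Φ [IsIntegral X] [Smooth f] [IsAlgClosed k] (hdX : OmegaSh.IsUniversal dX)
    (hY : AffUniv dY) (hL : PicF.IsInvertible L) (hN : 0 < N) (hNk : (N : k) ≠ 0)
    (hD : LogNCD.IsNCD D f)
    (hs : CycCov.IsZeroDiv (CohB1.tensorPow L N) s (CycCov.divIdeal D α))
    {R : CycCov.Root L N s π} (hR : CycCov.IsCover R)
    (hdisj : ∀ (x : X) (j j' : Fin r), x ∈ (D j).support → x ∈ (D j').support → j = j')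
    (hi : i < N) (hM : PicF.IsInvertible M)
    {η : CohB1.tensorMod (CycCov.intPart L D α N i) M ≅ Coh.structureModule X}
    (hE : ∀ (U : X.Opens) (m : Sec M U) (c : Sec _ U), Gen M U m → K926.EigMap.Rel η R U m c → appS E U m = c)
    (hφP : PhiComp φP) (hφL : PhiComp φL) (hφQ : PhiComp φQ)
    (hK : ∀ (U : X.affineOpens) (s : Sec P U.1),
      φL U (appS K U.1 s) = exteriorPower.map q (appS Λ.ι U.1) (φP U s))
    (hΘ : ∀ (hfin : IsAffineHom π) (U : X.affineOpens) (e : Fin q → Sec ΩX U.1),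
      un π (appS Θ U.1 ((φP U).symm (exteriorPower.ιMulti _ q e))) =
        (φQ (pre π U)).symm (exteriorPower.ιMulti _ q (fun j => un π (appS (pb hdX dY) U.1 (e j)))))
    (hJ : ∀ (U : X.Opens) (p : Sec P U) (m : Sec M U),
      appS J U (tau P M U (p ⊗ₜ[Γ(X, U)] m)) = tau Lb M U (appS K U p ⊗ₜ[Γ(X, U)] m))
    (hS : ∀ (U : X.Opens) (p : Sec P U) (m : Sec M U),
      un π (appS S U (tau P M U (p ⊗ₜ[Γ(X, U)] m))) = K926.EigMap.toY (appS E U m) • un π (appS Θ U p)) :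
    ∃ Φ : CohB1.tensorMod Lb M ⟶ (Scheme.Modules.pushforward π).obj Q,
      ∀ (U : X.Opens) (b : Sec (CohB1.tensorMod Lb M) U) (c : Sec _ U), DRel J S U b c → appS Φ U b = c := by
  have hfin : IsFinite π := hR.1
  have hsm : Smooth (π ≫ f) := smooth_cover hL hN hNk hD hs R hR hdisj
  have hQf : FlatMod.IsFinLocFree Q := isFinLocFree_of_isExtPow (isFinLocFree_omega hY) ⟨φQ, hφQ⟩
  have hTF : TFm ((Scheme.Modules.pushforward π).obj Q) := tF_of_isFinLocFree hL hN hD hs R hR hQf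
  refine exists_hom (injective_J hdX hφP hφL hK hJ hM hD) hTF ?_
  intro O x hx
  obtain ⟨V, hxV, hVO, μ₀, hμ₀⟩ := exists_gen hM O x hx
  obtain ⟨d, hxd, hdV, -, hd⟩ := exists_data hL hN hNk hD hs R hR hxV (fun j j' _ _ => hdisj x j j')
  have hne : Nonempty d.U.1 := ⟨⟨x, hxd⟩⟩
  obtain ⟨w, hw, hind, hspan⟩ := d.exists_w R hR hN hNk
  obtain ⟨δ, Qc, hδ, hQ, hx⟩ := exists_local hdX hY d hN hR hd hw (w_bijective hind hspan)
  obtain ⟨B⟩ := exists_logBasis (affUniv hdX) Λ (poleChart d.c α N i)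
  have hμ : Gen M d.U.1 (res M hdV μ₀) := hμ₀.restrict hdV
  obtain ⟨p, hp, hEp⟩ := E_gen hE d (hw i hi) hμ
  refine ⟨d.U.1, hxd, hdV.trans hVO,
    fun b => exists_drel (isLocBasis_tensor_one (isLocBasis_wdg hφL B.isLocBasis) hμ) (fun I => ?_) b⟩
  obtain ⟨x, hx1, -⟩ := hx q (emb I) (emb_injective I)
  exact ⟨_, drel_chart hK (hΘ inferInstance) hJ hS d B hQ hEp (emb I) (hx1 ⟨i, hi⟩)⟩

/-- Bijectivity of the sum of the components, algebra. -/
theorem bijective_sum {B C A : Type*} [CommRing B] [CommRing C] [AddCommGroup A] {κ : Type*} [Fintype κ]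
    (ρ : B →+* C) {N : ℕ} {G : Fin N → Type*} [∀ i, AddCommGroup (G i)] (F : ∀ i, G i → A) (β : ∀ i, (κ → B) → G i)
    (hβ : ∀ i, Function.Bijective (β i)) (e : (κ → C) → A) (he : Function.Bijective e) (hes : ∀ a b, e (a + b) = e a + e b)
    (x : Fin N → κ → C) (p : Fin N → B) (hp : ∀ i, IsUnit (p i))
    (hx : ∀ κ', Function.Bijective (fun a : Fin N → B => ∑ i, ρ (a i) * x i κ'))
    (hF : ∀ i a, F i (β i a) = e (fun κ' => ρ (a κ') * (ρ (p i) * x i κ'))) :
    Function.Bijective (fun m : ∀ i, G i => ∑ i, F i (m i)) := by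
  have hT : Function.Bijective (fun (a : Fin N → κ → B) (κ' : κ) => ∑ i, ρ (a i κ') * (ρ (p i) * x i κ')) := by
    have h1 : ∀ κ', Function.Bijective (fun a : Fin N → B => ∑ i, ρ (a i) * (ρ (p i) * x i κ')) := by
      intro κ'
      have h2 : (fun a : Fin N → B => ∑ i, ρ (a i) * (ρ (p i) * x i κ')) =
          (fun a : Fin N → B => ∑ i, ρ (a i) * x i κ') ∘ (fun a i => a i * p i) := by
        funext a
        simp only [Function.comp_apply, map_mul, mul_assoc]
      rw [h2]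
      refine (hx κ').comp ⟨?_, ?_⟩
      · intro a b hab
        funext i
        exact (hp i).mul_left_injective (congrFun hab i)
      · intro b
        choose p' hp' using fun i => (hp i).exists_left_inv
        refine ⟨fun i => b i * p' i, ?_⟩
        funext i
        simp only
        rw [mul_assoc, hp', mul_one]
    constructor
    · intro a b hab
      funext i κ'
      have h2 := (h1 κ').1 (congrFun hab κ')
      exact congrFun h2 i
    · intro c
      choose a ha using fun κ' => (h1 κ').2 (c κ')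
      refine ⟨fun i κ' => a κ' i, ?_⟩
      funext κ'
      exact ha κ'
  have hA : Function.Bijective (fun (a : Fin N → κ → B) (i : Fin N) => β i (a i)) := by
    constructor
    · intro a b hab
      funext i
      exact (hβ i).1 (congrFun hab i)
    · intro m
      choose a ha using fun i => (hβ i).2 (m i)
      exact ⟨a, funext ha⟩
  have hsum : ∀ (s : Finset (Fin N)) (g : Fin N → κ → C), ∑ i ∈ s, e (g i) = e (∑ i ∈ s, g i) := by
    intro s g
    have h0 : e 0 = 0 := by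
      have := hes 0 0
      rw [add_zero] at this
      exact left_eq_add.mp this
    classical
    induction s using Finset.induction_on with
    | empty => rw [Finset.sum_empty, Finset.sum_empty, h0]
    | insert i s hi ih => rw [Finset.sum_insert hi, Finset.sum_insert hi, hes, ih]
  have hcomp : (fun m : ∀ i, G i => ∑ i, F i (m i)) ∘ (fun (a : Fin N → κ → B) (i : Fin N) => β i (a i)) =
      e ∘ (fun (a : Fin N → κ → B) (κ' : κ) => ∑ i, ρ (a i κ') * (ρ (p i) * x i κ')) := by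
    funext a
    simp only [Function.comp_apply, hF]
    rw [hsum]
    congr 1
    funext κ'
    rw [Finset.sum_apply]
  have h2 := he.comp hT
  rw [← hcomp] at h2
  exact (Function.Bijective.of_comp_iff _ hA).mp h2

end K926.Decomp
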