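import Groth.Agent.CycCov.K926.Decomp
import Groth.Agent.Krr.H495.ExtExist

/-!
# The decomposition of the direct image of the differential forms of a cyclic cover
-/

set_option autoImplicit false
universe u

open CategoryTheory CategoryTheory.Limits AlgebraicGeometry Opposite TopologicalSpace
open scoped TensorProduct
open Groth.Agent.Sga67.Sec Groth.Agent.Sga67.LocBasis Groth.Agent.Sga67.ExtSheaf

namespace K926.Decomp

open K892.RankOne K892.Frames K892.Pair K926.Loc K926.Base K922.Coord K922.DSec K922.LogBasis K922.Univ K922.Chart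
open K926.LogPull K926.Branch K926.ExtPush K926.DivHom K926.Wedge K926.RamForm K926.EigMap
open Groth.Agent.Vancyc.H678.TwistFam

variable {k : Type u} [Field k] {X Y : Scheme.{u}} {π : Y ⟶ X}
  {f : X ⟶ Spec (CommRingCat.of k)} {r : ℕ} {D : Fin r → X.IdealSheafData}
  {ΩX : X.Modules} {dX : OmegaSh.Der f ΩX}
  {ΩY : Y.Modules} {dY : OmegaSh.Der (π ≫ f) ΩY}
  {q : ℕ} {L : X.Modules} {N : ℕ} {α : Fin r → ℕ}
  {s : Coh.structureModule X ⟶ CohB1.tensorPow L N}

/-- **The decomposition.** -/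
theorem main [IsIntegral X] [Smooth f] [IsAlgClosed k] (hdX : OmegaSh.IsUniversal dX)
    (hdY : OmegaSh.IsUniversal dY) (hL : PicF.IsInvertible L) (hN : 0 < N) (hNk : (N : k) ≠ 0)
    (hD : LogNCD.IsNCD D f)
    (hs : CycCov.IsZeroDiv (CohB1.tensorPow L N) s (CycCov.divIdeal D α))
    {R : CycCov.Root L N s π} (hR : CycCov.IsCover R)
    (hdisj : ∀ (x : X) (j j' : Fin r), x ∈ (D j).support → x ∈ (D j').support → j = j')
    {Q : Y.Modules} (hQ : ExtPow.IsExtPow q ΩY Q)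
    (M : Fin N → X.Modules) (η : ∀ i : Fin N, CohB1.tensorMod (CycCov.intPart L D α N i) (M i) ≅ Coh.structureModule X)
    (Λ : ∀ i : Fin N, LogNCD.LogMod dX (CycCov.poleDiv D α N i))
    (Lb : Fin N → X.Modules) (hLb : ∀ i : Fin N, ExtPow.IsExtPow q (Λ i).L (Lb i)) :
    ∃ c : ∀ i : Fin N, CohB1.tensorMod (Lb i) (M i) ⟶ (Scheme.Modules.pushforward π).obj Q,
      Nonempty (IsColimit (Cofan.mk ((Scheme.Modules.pushforward π).obj Q) c)) := by
  have hfin : IsFinite π := hR.1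
  have hY : AffUniv dY := affUniv hdY
  have hMi : ∀ i, PicF.IsInvertible (M i) := fun i =>
    (Groth.Agent.Dix.IdealModCartier.isInvertible_of_isInverseOf ⟨η i⟩).2
  obtain ⟨P, -, φP, hφP⟩ := Groth.Agent.Krr.H495.ExtExist.exists_isExtPow q ΩX (isFinLocFree_omega (f := f) (affUniv hdX))
  obtain ⟨φQ, hφQ⟩ := exists_phi hQ
  choose φL hφL using fun i => exists_phi (hLb i)
  choose E hE using fun i : Fin N => exists_eig (η := η i) (R := R) hL hN hNk hD hs hR (hMi i) i.2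
  choose K hK using fun i => exists_extMap (Λ i).ι φP hφP (φL i) (hφL i)
  obtain ⟨Θ, hΘ⟩ := exists_push π (pb hdX dY) φP hφP φQ hφQ
  choose J hJ using fun i => exists_J (K i) (M i)
  choose S hS using fun i => exists_S Θ (E i)
  choose Φ hΦ using fun i : Fin N => exists_Φ (hdX := hdX) (φP := φP) (φL := φL i) (φQ := φQ) (K := K i) (Θ := Θ) (E := E i)
    (J := J i) (S := S i) hY hL hN hNk hD hs hR hdisj i.2 (hMi i) (hE i) hφP (hφL i) hφQ (hK i) (fun _ => hΘ) (hJ i) (hS i)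
  refine ⟨Φ, ?_⟩
  apply K926.GenHom.isColimit_of_bijective
  intro x O hx
  obtain ⟨V, hxV, hVO, m₀, hm₀⟩ := exists_gens hMi hx
  obtain ⟨d, hxd, hdV, -, hd⟩ := exists_data hL hN hNk hD hs R hR hxV (fun j j' _ _ => hdisj x j j')
  have hne : Nonempty d.U.1 := ⟨⟨x, hxd⟩⟩
  let μ : ∀ i, Sec (M i) d.U.1 := fun i => res (M i) hdV (m₀ i)
  have hμ : ∀ i, Gen (M i) d.U.1 (μ i) := fun i => (hm₀ i).restrict hdV
  obtain ⟨w, hw, hind, hspan⟩ := d.exists_w R hR hN hNk
  obtain ⟨δ, Qc, hδ, hQ, hx⟩ := exists_local hdX hY d hN hR hd hw (w_bijective hind hspan)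
  let B : ∀ i : Fin N, LogBasis (Λ i) (poleChart d.c α N i) := fun i =>
    (exists_logBasis (affUniv hdX) (Λ i) (poleChart d.c α N i)).some
  choose p hp hEp using fun i : Fin N => E_gen (hE i) d (hw i i.2) (hμ i)
  choose x' hx' hx'b using fun I : Set.powersetCard (Fin d.n) q => hx q (emb I) (emb_injective I)
  have hβ : ∀ i, IsLocBasis (fun I : Set.powersetCard (Fin d.n) q => tau (Lb i) (M i) d.U.1
      (wdg (φL i) d.U (B i).b (emb I) ⊗ₜ[Γ(X, d.U.1)] μ i)) := fun i =>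
    isLocBasis_tensor_one (isLocBasis_wdg (hφL i) (B i).isLocBasis) (hμ i)
  have he : IsLocBasis (fun I : Set.powersetCard (Fin d.n) q => wdg φQ (pre π d.U) δ (emb I)) :=
    isLocBasis_wdg hφQ hδ
  refine ⟨d.U.1, hdV.trans hVO, hxd, ?_⟩
  refine bijective_sum (π.app d.U.1).hom (κ := Set.powersetCard (Fin d.n) q) (fun i => appS (Φ i) d.U.1)
    (fun i => comb (fun I : Set.powersetCard (Fin d.n) q => tau (Lb i) (M i) d.U.1
      (wdg (φL i) d.U (B i).b (emb I) ⊗ₜ[Γ(X, d.U.1)] μ i)) le_rfl) (fun i => hβ i d.U.1 le_rfl)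
    (e := fun a => mk' π (comb (fun I : Set.powersetCard (Fin d.n) q => wdg φQ (pre π d.U) δ (emb I)) le_rfl a))
    (he _ le_rfl) (fun a b => congrArg (mk' π) (map_add (comb (fun I : Set.powersetCard (Fin d.n) q =>
      wdg φQ (pre π d.U) δ (emb I)) le_rfl) a b)) (fun i I => x' I i) p hp hx'b ?_
  intro i a
  have h1 : ∀ I : Set.powersetCard (Fin d.n) q, appS (Φ i) d.U.1 (tau (Lb i) (M i) d.U.1
      (wdg (φL i) d.U (B i).b (emb I) ⊗ₜ[Γ(X, d.U.1)] μ i)) =
      mk' π (((π.app d.U.1).hom (p i) * x' I i) • wdg φQ (pre π d.U) δ (emb I)) := fun I =>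
    hΦ i _ _ _ (drel_chart (hK i) hΘ (hJ i) (hS i) d (B i) hQ (hEp i) (emb I) (hx' I i))
  have h2 : ∀ g : Set.powersetCard (Fin d.n) q → Sec Q (π ⁻¹ᵁ d.U.1),
      mk' π (∑ I, g I) = ∑ I, mk' π (g I) := fun _ => rfl
  simp only [comb_apply, map_sum, map_smul, res_self, h1]
  rw [h2]
  refine Finset.sum_congr rfl fun I _ => ?_
  exact congrArg (mk' π) (smul_smul _ _ _)

end K926.Decomp
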