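import Groth.Agent.CycCov.K926.GenHom
import Groth.Agent.LogNCD.K922.Coord

/-!
# Extending a morphism along a generically bijective monomorphism
-/

set_option autoImplicit false

universe u

open CategoryTheory CategoryTheory.Limits AlgebraicGeometry Opposite TopologicalSpace
open Groth.Agent.Sga67.Sec Groth.Agent.Sga67.LocBasis

namespace K926.DivHom

open K922.Coord

variable {X : Scheme.{u}} {A B C : X.Modules}

/-- The module has no torsion for regular functions. -/
def TFm (C : X.Modules) : Prop :=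
  ∀ (U : X.Opens) (h : Γ(X, U)), IsReg U h → ∀ x : Sec C U, h • x = 0 → x = 0

theorem TFm.cancel (hC : TFm C) {U : X.Opens} {h : Γ(X, U)} (hh : IsReg U h) {x y : Sec C U} (hxy : h • x = h • y) :
    x = y := by
  rw [← sub_eq_zero]
  apply hC U h hh
  rw [smul_sub, hxy, sub_self]

/-- The relation "`c = S a / h`, `b = J a / h`". -/
def DRel (J : A ⟶ B) (S : A ⟶ C) (U : X.Opens) (b : Sec B U) (c : Sec C U) : Prop :=
  ∃ (h : Γ(X, U)) (a : Sec A U), IsReg U h ∧ h • b = appS J U a ∧ h • c = appS S U a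

variable {J : A ⟶ B} {S : A ⟶ C}

theorem DRel.unique (hJ : ∀ U, Function.Injective (appS J U)) (hC : TFm C) {U : X.Opens} {b : Sec B U} {c c' : Sec C U}
    (H : DRel J S U b c) (H' : DRel J S U b c') : c = c' := by
  obtain ⟨h, ω, hh, h1, h2⟩ := H
  obtain ⟨h', ω', hh', h1', h2'⟩ := H'
  have e1 : h' • ω = h • ω' := by
    apply hJ U
    rw [map_smul, map_smul, ← h1, ← h1', smul_comm]
  have e3 := congrArg (appS S U) e1
  rw [map_smul, map_smul, ← h2, ← h2', smul_smul, smul_smul, mul_comm h' h] at e3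
  exact hC.cancel (hh.mul hh') e3

theorem DRel.restrict {U V : X.Opens} (h : V ≤ U) {b : Sec B U} {c : Sec C U} (H : DRel J S U b c) :
    DRel J S V (res B h b) (res C h c) := by
  obtain ⟨g, ω, hg, h1, h2⟩ := H
  refine ⟨resO X h g, res A h ω, hg.restrict h, ?_, ?_⟩
  · rw [← res_smul, h1, appS_res]
  · rw [← res_smul, h2, appS_res]

theorem DRel.add {U : X.Opens} {b₁ b₂ : Sec B U} {c₁ c₂ : Sec C U} (H₁ : DRel J S U b₁ c₁)
    (H₂ : DRel J S U b₂ c₂) : DRel J S U (b₁ + b₂) (c₁ + c₂) := by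
  obtain ⟨g₁, ω₁, hg₁, x₁, y₁⟩ := H₁
  obtain ⟨g₂, ω₂, hg₂, x₂, y₂⟩ := H₂
  refine ⟨g₁ * g₂, g₂ • ω₁ + g₁ • ω₂, hg₁.mul hg₂, ?_, ?_⟩
  · rw [smul_add, map_add, map_smul, map_smul, ← x₁, ← x₂, smul_smul, smul_smul, mul_comm g₂ g₁]
  · rw [smul_add, map_add, map_smul, map_smul, ← y₁, ← y₂, smul_smul, smul_smul, mul_comm g₂ g₁]

theorem DRel.smul {U : X.Opens} (r : Γ(X, U)) {b : Sec B U} {c : Sec C U} (H : DRel J S U b c) :
    DRel J S U (r • b) (r • c) := by
  obtain ⟨g, ω, hg, h1, h2⟩ := H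
  refine ⟨g, r • ω, hg, ?_, ?_⟩
  · rw [smul_comm, h1, map_smul]
  · rw [smul_comm, h2, map_smul]

theorem DRel.zero {U : X.Opens} : DRel J S U (0 : Sec B U) (0 : Sec C U) :=
  ⟨1, 0, isReg_one U, by rw [smul_zero, map_zero], by rw [smul_zero, map_zero]⟩

/-- It is enough to divide the elements of a basis. -/
theorem exists_drel {U : X.Opens} {κ : Type*} [Fintype κ] {β : κ → Sec B U} (hβ : IsLocBasis β)
    (H : ∀ k, ∃ c, DRel J S U (β k) c) (b : Sec B U) : ∃ c, DRel J S U b c := by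
  classical
  choose c hc using H
  obtain ⟨a, rfl⟩ := (hβ U le_rfl).2 b
  rw [comb_apply]
  have key : ∀ s : Finset κ, DRel J S U (∑ k ∈ s, a k • res B le_rfl (β k)) (∑ k ∈ s, a k • c k) := by
    intro s
    induction s using Finset.induction_on with
    | empty => exact DRel.zero
    | insert i s hi ih =>
      rw [Finset.sum_insert hi, Finset.sum_insert hi]
      refine DRel.add ?_ ih
      rw [res_self]
      exact (hc i).smul (a i)
  exact ⟨_, key Finset.univ⟩

/-- **Extension of a morphism along a generically bijective monomorphism.** -/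
theorem exists_hom (hJ : ∀ U, Function.Injective (appS J U)) (hC : TFm C)
    (H : ∀ (O : X.Opens) (x : X), x ∈ O → ∃ U : X.Opens, x ∈ U ∧ U ≤ O ∧
      ∀ b : Sec B U, ∃ c, DRel J S U b c) :
    ∃ Φ : B ⟶ C, ∀ (U : X.Opens) (b : Sec B U) (c : Sec C U), DRel J S U b c → appS Φ U b = c := by
  let I := {U : X.Opens // ∀ b : Sec B U, ∃ c, DRel J S U b c}
  let O : I → X.Opens := fun U => U.1
  have hO : Opens.IsBasis (Set.range O) := by
    rw [Opens.isBasis_iff_nbhd]
    intro O x hx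
    obtain ⟨U, hxU, hUO, h1⟩ := H O x hx
    exact ⟨U, ⟨⟨U, h1⟩, rfl⟩, hxU, hUO⟩
  choose Z hZ using fun (U : I) (b : Sec B U.1) => U.2 b
  obtain ⟨ψ, hψ⟩ := exists_hom_of_basis' hO B C
    (fun U =>
      { toFun := fun x => Z U x
        map_add' := fun x y => (hZ U (x + y)).unique hJ hC ((hZ U x).add (hZ U y))
        map_smul' := fun a x => (hZ U (a • x)).unique hJ hC ((hZ U x).smul a) })
    (by
      intro U V h x
      exact (hZ V _).unique hJ hC ((hZ U x).restrict h))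
  refine ⟨ψ, fun U b c hbc => ?_⟩
  apply Groth.Agent.Sga67.Sec.eq_of_locally
  intro x hx
  obtain ⟨V, hxV, hVU, h1⟩ := H U x hx
  refine ⟨V, hVU, hxV, ?_⟩
  rw [← appS_res]
  exact (hψ ⟨V, h1⟩ _).trans ((hZ ⟨V, h1⟩ _).unique hJ hC (hbc.restrict hVU))

/-- Injectivity from diagonal form on local bases. -/
theorem injective_of_diag (H : ∀ (O : X.Opens) (x : X), x ∈ O → ∃ U : X.Opens, x ∈ U ∧ U ≤ O ∧
    ∃ (κ : Type) (_ : Fintype κ) (a : κ → Sec A U) (b : κ → Sec B U) (F : κ → Γ(X, U)),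
      IsLocBasis a ∧ IsLocBasis b ∧ (∀ k, IsReg U (F k)) ∧ ∀ k, appS J U (a k) = F k • b k) (U : X.Opens) :
    Function.Injective (appS J U) := by
  rw [injective_iff_map_eq_zero]
  intro s hs
  apply Groth.Agent.Sga67.Sec.eq_of_locally
  intro x hx
  obtain ⟨V, hxV, hVU, κ, _, a, b, F, ha, hb, hF, hJ⟩ := H U x hx
  refine ⟨V, hVU, hxV, ?_⟩
  obtain ⟨q, hq⟩ := (ha V le_rfl).2 (res A hVU s)
  have h1 : comb b le_rfl (fun k => q k * F k) = 0 := by
    have h2 : appS J V (res A hVU s) = 0 := by rw [appS_res, hs, map_zero]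
    rw [← hq, comb_apply, map_sum] at h2
    rw [comb_apply, ← h2]
    refine Finset.sum_congr rfl fun k _ => ?_
    rw [res_self, res_self, map_smul, hJ, smul_smul]
  have h2 := (hb V le_rfl).1 (h1.trans (map_zero _).symm)
  have h3 : q = 0 := by
    funext k
    have h4 := congrFun h2 k
    simp only [Pi.zero_apply] at h4
    refine hF k V le_rfl (q k) ?_
    rw [resO_self, mul_comm]
    exact h4
  rw [← hq, h3, map_zero, map_zero]

end K926.DivHom
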