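import Groth.Agent.CycCov.K892.Frames

/-!
# Morphisms out of rank one modules from local generators; coproducts from sections
-/

set_option autoImplicit false

universe u

open CategoryTheory CategoryTheory.Limits AlgebraicGeometry Opposite TopologicalSpace
open Groth.Agent.Sga67.Sec Groth.Agent.Sga67.LocBasis

namespace K926.GenHom

open K892.RankOne K892.Frames

variable {X : Scheme.{u}}

/-- Existence of a morphism with prescribed values on local generators. -/
theorem exists_hom_of_gen (M F : X.Modules) (R : ∀ U : X.Opens, Sec M U → Sec F U → Prop)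
    (hex : ∀ (O : X.Opens) (x : X), x ∈ O → ∃ U : X.Opens, x ∈ U ∧ U ≤ O ∧ ∃ m c, Gen M U m ∧ R U m c)
    (hres : ∀ (U V : X.Opens) (h : V ≤ U) m c, R U m c → R V (res M h m) (res F h c))
    (hcomp : ∀ (U : X.Opens) m c m' c' (v : Γ(X, U)), Gen M U m → Gen M U m' → R U m c → R U m' c' →
      m' = v • m → c' = v • c) :
    ∃ φ : M ⟶ F, ∀ (U : X.Opens) m c, Gen M U m → R U m c → appS φ U m = c := by
  classical
  let ι : Type u := {t : Σ U : X.Opens, Sec M U × Sec F U // Gen M t.1 t.2.1 ∧ R t.1 t.2.1 t.2.2}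
  let B : ι → X.Opens := fun t => t.1.1
  have hB : Opens.IsBasis (Set.range B) := by
    rw [Opens.isBasis_iff_nbhd]
    intro O x hx
    obtain ⟨U, hxU, hUO, m, c, hm, hR⟩ := hex O x hx
    exact ⟨U, ⟨⟨⟨U, m, c⟩, hm, hR⟩, rfl⟩, hxU, hUO⟩
  let loc : ∀ i : ι, Sec M (B i) →ₗ[Γ(X, B i)] Sec F (B i) := fun i =>
    (LinearMap.toSpanSingleton Γ(X, B i) (Sec F (B i)) i.1.2.2).comp (coord i.2.1).toLinearMap
  have hloc : ∀ (i : ι) (a : Γ(X, B i)), loc i (a • i.1.2.1) = a • i.1.2.2 := by
    intro i a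
    change coord i.2.1 (a • i.1.2.1) • i.1.2.2 = _
    rw [coord_smul_self]
  obtain ⟨φ, hφ⟩ := exists_hom_of_basis' hB M F loc (by
    rintro ⟨⟨U, m, c⟩, hm, hR⟩ ⟨⟨V, m', c'⟩, hm', hR'⟩ h s
    change V ≤ U at h
    change Gen M U m at hm
    change Gen M V m' at hm'
    change Sec M U at s
    obtain ⟨a, rfl⟩ := hm.bijective.2 s
    obtain ⟨v, hv⟩ := hm'.bijective.2 (res M h m)
    simp only at hv
    have hc := hcomp V m' c' (res M h m) (res F h c) v hm' (hm.restrict h) hR' (hres U V h m c hR) hv.symm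
    have h1 := hloc ⟨⟨U, m, c⟩, hm, hR⟩ a
    have h2 := hloc ⟨⟨V, m', c'⟩, hm', hR'⟩ (resO X h a * v)
    simp only at h1 h2 ⊢
    rw [h1, res_smul, ← hv, smul_smul, res_smul, hc, smul_smul]
    exact h2)
  refine ⟨φ, ?_⟩
  intro U m c hm hR
  have h1 := hφ ⟨⟨U, m, c⟩, hm, hR⟩ ((1 : Γ(X, U)) • m)
  have h2 := hloc ⟨⟨U, m, c⟩, hm, hR⟩ 1
  rw [h2] at h1
  simp only [one_smul] at h1
  exact h1

/-- A finite family of morphisms is a coproduct if the induced maps on sections over arbitrarily small opens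
are bijective. -/
theorem isColimit_of_bijective {n : ℕ} {M : Fin n → X.Modules} {F : X.Modules} (c : ∀ i, M i ⟶ F)
    (H : ∀ (x : X) (U : X.Opens), x ∈ U → ∃ (V : X.Opens), V ≤ U ∧ x ∈ V ∧
      Function.Bijective (fun m : ∀ i, Sec (M i) V => ∑ i, appS (c i) V (m i))) :
    Nonempty (IsColimit (Cofan.mk F c)) := by
  classical
  have : HasFiniteBiproducts X.Modules := Abelian.hasFiniteBiproducts
  let φ : (⨁ M) ⟶ F := biproduct.desc c
  have hφ : IsIso φ := by
    apply isIso_of_bijective
    intro x U hx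
    obtain ⟨V, hVU, hxV, hbij⟩ := H x U hx
    refine ⟨V, hVU, hxV, ?_⟩
    let p : Sec (⨁ M) V → ∀ i, Sec (M i) V := fun s i => appS (biproduct.π M i) V s
    let q : (∀ i, Sec (M i) V) → Sec (⨁ M) V := fun m => ∑ i, appS (biproduct.ι M i) V (m i)
    have hid : ∀ s : Sec (⨁ M) V, q (p s) = s := by
      intro s
      have h1 : ∑ i, biproduct.π M i ≫ biproduct.ι M i = 𝟙 (⨁ M) := biproduct.total
      have h2 : appS (∑ i, biproduct.π M i ≫ biproduct.ι M i) V s = s := by
        rw [h1, appS_id]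
      have h3 : ∀ t : Finset (Fin n), appS (∑ i ∈ t, biproduct.π M i ≫ biproduct.ι M i) V s =
          ∑ i ∈ t, appS (biproduct.ι M i) V (appS (biproduct.π M i) V s) := by
        intro t
        induction t using Finset.induction_on with
        | empty => simp
        | insert a t ha ih => rw [Finset.sum_insert ha, Finset.sum_insert ha, appS_add, ih, appS_comp]
      rw [h3] at h2
      exact h2
    have hpq : ∀ m, p (q m) = m := by
      intro m
      funext j
      change appS (biproduct.π M j) V (∑ i, appS (biproduct.ι M i) V (m i)) = m j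
      rw [map_sum, Finset.sum_eq_single j]
      · rw [← appS_comp, biproduct.ι_π_self, appS_id]
      · intro i _ hij
        rw [← appS_comp, biproduct.ι_π_ne M hij, appS_zero]
      · intro h
        exact absurd (Finset.mem_univ j) h
    have hbp : Function.Bijective p := ⟨fun a b hab => by rw [← hid a, hab, hid],
      fun m => ⟨q m, hpq m⟩⟩
    have hcomp : (appS φ V : Sec (⨁ M) V → Sec F V) =
        (fun m : ∀ i, Sec (M i) V => ∑ i, appS (c i) V (m i)) ∘ p := by
      funext s
      conv_lhs => rw [← hid s]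
      change appS φ V (∑ i, appS (biproduct.ι M i) V (p s i)) = ∑ i, appS (c i) V (p s i)
      rw [map_sum]
      refine Finset.sum_congr rfl fun i _ => ?_
      rw [← appS_comp]
      change appS (biproduct.ι M i ≫ biproduct.desc c) V _ = _
      rw [biproduct.ι_desc]
    rw [hcomp]
    exact hbij.comp hbp
  have h1 : IsColimit (biproduct.bicone M).toCocone := biproduct.isColimit M
  refine ⟨IsColimit.ofIsoColimit h1 (Cocone.ext (@asIso _ _ _ _ φ hφ) ?_)⟩
  rintro ⟨i⟩
  exact biproduct.ι_desc c i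

end K926.GenHom
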