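import Groth.Agent.CycCov.K926.LocZ
import Groth.Agent.CycCov.K926.GenHom
import Groth.Agent.CycCov.K892.Pair

/-!
# Eigenbasis of a normalised cyclic cover on a chart
-/

set_option autoImplicit false
universe u

open CategoryTheory CategoryTheory.Limits AlgebraicGeometry Opposite TopologicalSpace
open Groth.Agent.Fdesc.LocGen

namespace K926.Loc

open K926.Str K926.Base K926.Frame K926.Cov K926.Branch
open Groth.Agent.CurvesC.NodeEt

variable {k : Type u} [Field k] {X Y : Scheme.{u}}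
variable {L : X.Modules} {N : ℕ} {r : ℕ} {D : Fin r → X.IdealSheafData} {α : Fin r → ℕ}
  {s : Coh.structureModule X ⟶ CohB1.tensorPow L N} {π : Y ⟶ X}
  {f : X ⟶ Spec (CommRingCat.of k)}

theorem exists_prod_coord {S : Scheme.{u}} {f : X ⟶ S} {U : X.Opens} {n : ℕ} (c : K922.Chart.Chart f D U n) :
    ∃ T : Finset (Fin n), ∏ j, c.g j = ∏ k ∈ T, c.v k := by
  classical
  have key : ∀ s : Finset (Fin r), ∃ T : Finset (Fin n), ∏ j ∈ s, c.g j = ∏ k ∈ T, c.v k ∧
      ∀ k ∈ T, ∃ j ∈ s, c.e j = some k := by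
    intro s
    induction s using Finset.induction_on with
    | empty => exact ⟨∅, by simp, by simp⟩
    | insert j s hj ih =>
      obtain ⟨T, hT, hT'⟩ := ih
      rw [Finset.prod_insert hj, hT]
      rcases he : c.e j with _ | k
      · refine ⟨T, by rw [c.g_none j he, one_mul], fun k hk => ?_⟩
        obtain ⟨j', hj', h⟩ := hT' k hk
        exact ⟨j', Finset.mem_insert_of_mem hj', h⟩
      · have hk : k ∉ T := fun hk => by
          obtain ⟨j', hj', h⟩ := hT' k hk
          exact hj (c.inj j j' k he h ▸ hj')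
        refine ⟨insert k T, by rw [Finset.prod_insert hk, c.g_some j k he], fun k' hk' => ?_⟩
        rcases Finset.mem_insert.mp hk' with rfl | h
        · exact ⟨j, Finset.mem_insert_self _ _, he⟩
        · obtain ⟨j', hj', h'⟩ := hT' k' h
          exact ⟨j', Finset.mem_insert_of_mem hj', h'⟩
  obtain ⟨T, hT, -⟩ := key Finset.univ
  exact ⟨T, hT⟩

/-- The local equation of the floor divisor. -/
noncomputable def LocData.G (d : LocData f D α s) (i : ℕ) : Γ(X, d.U.1) := ∏ j, d.c.g j ^ (i * α j / N)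

variable [IsIntegral X]

theorem LocData.g_ne_zero (d : LocData f D α s) [hne : Nonempty d.U.1] (j : Fin r) : d.c.g j ≠ 0 := by
  rcases hj : d.c.e j with _ | l
  · rw [d.c.g_none j hj]
    exact one_ne_zero
  · rw [d.c.g_some j l hj]
    exact coord_ne_zero (Set.nonempty_coe_sort.mp hne) d.coord l

theorem LocData.G_ne_zero (d : LocData f D α s) [hne : Nonempty d.U.1] (i : ℕ) : d.G i ≠ 0 :=
  Finset.prod_ne_zero_iff.mpr fun j _ => pow_ne_zero _ (d.g_ne_zero j)

variable [Smooth f] [IsAlgClosed k]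

/-- **The eigenbasis** on a chart. -/
theorem LocData.exists_w (d : LocData f D α s) [hne : Nonempty d.U.1]
    (R : CycCov.Root L N s π) (hR : CycCov.IsCover R) (hN : 0 < N) (hNk : (N : k) ≠ 0) :
    ∃ w : ℕ → Γ(Y, π ⁻¹ᵁ d.U.1), (∀ i < N, (π.app d.U.1).hom (d.G i) * w i = d.t R ^ i) ∧
      (∀ a : ℕ → Γ(X, d.U.1), ∑ i ∈ Finset.range N, (π.app d.U.1).hom (a i) * w i = 0 → ∀ i < N, a i = 0) ∧
      ∀ c : Γ(Y, π ⁻¹ᵁ d.U.1), ∃ a : ℕ → Γ(X, d.U.1), c = ∑ i ∈ Finset.range N, (π.app d.U.1).hom (a i) * w i := by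
  letI := CovSch.alg π d.U.1
  have : IsIntegrallyClosed Γ(X, d.U.1) := isIntegrallyClosed f d.U.2 (Set.nonempty_coe_sort.mp hne)
  obtain ⟨ζ, -, hζ1, hζ2⟩ := exists_zeta (k := k) hN hNk
  obtain ⟨hζ1', hζ2'⟩ := map_zeta (str f d.U.1) hζ1 hζ2
  obtain ⟨T, hT⟩ := exists_prod_coord d.c
  have hB : IsBase Γ(X, d.U.1) (∏ j, d.c.g j) := by
    rw [hT]
    exact isBase d.coord T
  refine (d.isCov R hR hN).exists_basis hN (isUnit_natCast f hNk _) hζ1' hζ2' hB d.G
    (fun i _ => d.G_ne_zero i) (fun i => d.u ^ i * ∏ j, d.c.g j ^ (i * α j % N)) ?_ ?_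
  · intro i _
    refine ((d.hu.pow i).mul_left_dvd).mpr ?_
    rw [← Finset.prod_pow]
    exact Finset.prod_dvd_prod_of_dvd _ _ fun j _ =>
      pow_dvd_pow _ (Nat.le_sub_one_of_lt (Nat.mod_lt _ hN))
  · intro i _
    change (d.u * ∏ j, d.c.g j ^ α j) ^ i = (∏ j, d.c.g j ^ (i * α j / N)) ^ N *
      (d.u ^ i * ∏ j, d.c.g j ^ (i * α j % N))
    rw [mul_pow, mul_left_comm]
    congr 1
    rw [← Finset.prod_pow, ← Finset.prod_pow, ← Finset.prod_mul_distrib]
    refine Finset.prod_congr rfl fun j _ => ?_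
    rw [← pow_mul, ← pow_mul, ← pow_add, mul_comm (α j) i, mul_comm (i * α j / N) N]
    congr 1
    exact (Nat.div_add_mod _ _).symm

end K926.Loc
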