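import Groth.Agent.CycCov.K926.Eig

/-!
# The eigenspace decomposition of the direct image of a normalised cyclic cover
-/

set_option autoImplicit false
universe u

open CategoryTheory CategoryTheory.Limits AlgebraicGeometry Opposite TopologicalSpace
open Groth.Agent.Sga67.Sec Groth.Agent.Sga67.LocBasis

namespace K926.EigMap

open K892.RankOne K892.Frames K892.Pair K926.Loc

variable {X Y : Scheme.{u}}

/-- Sections of the direct image of the structure module are functions. -/
def toY {π : Y ⟶ X} {U : X.Opens} (c : Sec ((Scheme.Modules.pushforward π).obj (Coh.structureModule Y)) U) :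
    Γ(Y, π ⁻¹ᵁ U) := c

def ofY {π : Y ⟶ X} {U : X.Opens} (c : Γ(Y, π ⁻¹ᵁ U)) :
    Sec ((Scheme.Modules.pushforward π).obj (Coh.structureModule Y)) U := c

theorem toY_ofY {π : Y ⟶ X} {U : X.Opens} (c : Γ(Y, π ⁻¹ᵁ U)) : toY (ofY c) = c := rfl

theorem toY_smul {π : Y ⟶ X} {U : X.Opens} (a : Γ(X, U))
    (c : Sec ((Scheme.Modules.pushforward π).obj (Coh.structureModule Y)) U) :
    toY (a • c) = (π.app U).hom a * toY c := rfl

theorem toY_add {π : Y ⟶ X} {U : X.Opens}
    (c c' : Sec ((Scheme.Modules.pushforward π).obj (Coh.structureModule Y)) U) :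
    toY (c + c') = toY c + toY c' := rfl

theorem toY_res {π : Y ⟶ X} {U V : X.Opens} (h : V ≤ U)
    (c : Sec ((Scheme.Modules.pushforward π).obj (Coh.structureModule Y)) U) :
    toY (res _ h c) = resO Y (π.preimage_mono h) (toY c) := rfl

theorem app_resO (π : Y ⟶ X) {U V : X.Opens} (h : V ≤ U) (b : Γ(X, U)) :
    resO Y (π.preimage_mono h) ((π.app U).hom b) = (π.app V).hom (resO X h b) :=
  K926.CovSch.app_ores π h b

variable {k : Type u} [Field k]
variable {L M : X.Modules} {N : ℕ} {r : ℕ} {D : Fin r → X.IdealSheafData} {α : Fin r → ℕ}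
  {s : Coh.structureModule X ⟶ CohB1.tensorPow L N} {π : Y ⟶ X} {i : ℕ}
  (η : CohB1.tensorMod (CycCov.intPart L D α N i) M ≅ Coh.structureModule X)
  (R : CycCov.Root L N s π)

/-- `c` is the image of `m`. -/
def Rel (U : X.Opens) (m : Sec M U)
    (c : Sec ((Scheme.Modules.pushforward π).obj (Coh.structureModule Y)) U) : Prop :=
  ∀ (V : X.affineOpens) (hV : V.1 ≤ U) (e : Sec L V.1) (he : CycCov.IsGen L V.1 e)
    (y : Sec (ClSub.idealMod (CycCov.floorIdeal D α N i)) V.1),
    (π.app V.1).hom (OmegaSh.idealSect (CycCov.floorIdeal D α N i) V.1 y) *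
      resO Y (π.preimage_mono hV) (toY c) =
    (π.app V.1).hom (P η e y (res M hV m)) * R.t V e he ^ i

variable {η R}

theorem Rel.res {U W : X.Opens} (hW : W ≤ U) {m : Sec M U}
    {c : Sec ((Scheme.Modules.pushforward π).obj (Coh.structureModule Y)) U} (h : Rel η R U m c) :
    Rel η R W (res M hW m) (res _ hW c) := by
  intro V hV e he y
  rw [toY_res, resO_resO, res_res]
  exact h V (hV.trans hW) e he y

/-- Transformation of the root under a change of frame. -/
theorem t_frame (R : CycCov.Root L N s π) {V : X.affineOpens} {e e' : Sec L V.1} (he : CycCov.IsGen L V.1 e)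
    (he' : CycCov.IsGen L V.1 e') {b : Γ(X, V.1)} (hb : e' = b • e) :
    R.t V e' he' * (π.app V.1).hom b = R.t V e he := by
  subst hb
  exact R.t_smul V e he b he'

/-- Generator of the floor ideal on a chart. -/
theorem exists_y {f : X ⟶ Spec (CommRingCat.of k)} [IsIntegral X] (d : LocData f D α s) (i : ℕ) :
    ∃ y : Sec (ClSub.idealMod (CycCov.floorIdeal D α N i)) d.U.1,
      OmegaSh.idealSect (CycCov.floorIdeal D α N i) d.U.1 y = d.G i ∧
      Gen (ClSub.idealMod (CycCov.floorIdeal D α N i)) d.U.1 y := by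
  have hI : ∀ (W : X.affineOpens) (h : W.1 ≤ d.U.1), (CycCov.floorIdeal D α N i).ideal W =
      Ideal.span {resO X h (d.G i)} := by
    intro W h
    change (CycCov.divIdeal D (fun j => i * α j / N)).ideal W = _
    rw [K892.Frame.divIdeal_ideal D _ W (fun j => resO X h (d.c.g j)) (fun j => d.c.ideal j W h)]
    unfold LocData.G
    rw [map_prod]
    simp only [map_pow]
  have hreg : K922.Coord.IsReg d.U.1 (d.G i) :=
    K922.Coord.IsReg.prod _ fun j _ => (d.c.isReg_g j).pow _
  obtain ⟨y, hy⟩ := (K922.Quot.exists_idealSect_iff (CycCov.floorIdeal D α N i) d.U (d.G i)).mpr (by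
      have h1 := hI d.U le_rfl
      rw [resO_self] at h1
      rw [h1]
      exact Ideal.mem_span_singleton_self _)
  exact ⟨y, hy, K892.Frame.gen_of_function hy hreg hI⟩

/-- On a chart, `π♯(P(e, y, m)) w` is the image of `m`, where `G_i w = t^i`. -/
theorem rel_of_w {f : X ⟶ Spec (CommRingCat.of k)} [IsIntegral X] (d : LocData f D α s)
    {y : Sec (ClSub.idealMod (CycCov.floorIdeal D α N i)) d.U.1}
    (hy : OmegaSh.idealSect (CycCov.floorIdeal D α N i) d.U.1 y = d.G i)
    (hgy : Gen (ClSub.idealMod (CycCov.floorIdeal D α N i)) d.U.1 y)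
    {w : Γ(Y, π ⁻¹ᵁ d.U.1)} (hw : (π.app d.U.1).hom (d.G i) * w = d.t R ^ i)
    (m : Sec M d.U.1) :
    Rel η R d.U.1 m (ofY ((π.app d.U.1).hom (P η d.e y m) * w)) := by
  intro V hV e' he' y'
  have hge : Gen L d.U.1 d.e := gen_iff.mpr d.he
  obtain ⟨b, hb⟩ := (hge.restrict hV).bijective.2 e'
  obtain ⟨v, rfl⟩ := (hgy.restrict hV).bijective.2 y'
  simp only at hb ⊢
  subst hb
  have he1 : CycCov.IsGen L V.1 (res L hV d.e) := (hge.restrict hV).bijective
  have ht := t_frame R he1 he' rfl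
  have hres : resO Y (π.preimage_mono hV) (d.t R) = R.t V (res L hV d.e) he1 :=
    R.t_res d.U V hV d.e _ he1
  have h2 : resO Y (π.preimage_mono hV) ((π.app d.U.1).hom (P η d.e y m) * w) =
      (π.app V.1).hom (resO X hV (P η d.e y m)) * resO Y (π.preimage_mono hV) w := by
    rw [map_mul]
    exact congrArg (· * resO Y (π.preimage_mono hV) w) (app_resO π hV (P η d.e y m))
  rw [K922.Quot.idealSect_smul, K922.Quot.idealSect_res, hy, P_smul_e, P_smul_y, ← resO_P, toY_ofY, h2]
  simp only [map_mul, map_pow]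
  have h1 : (π.app V.1).hom (resO X hV (d.G i)) * resO Y (π.preimage_mono hV) w =
      ((R.t V (b • res L hV d.e) he') * (π.app V.1).hom b) ^ i := by
    rw [ht, ← hres, ← map_pow, ← hw, map_mul, app_resO]
  calc (π.app V.1).hom v * (π.app V.1).hom (resO X hV (d.G i)) *
        ((π.app V.1).hom (resO X hV (P η d.e y m)) * resO Y (π.preimage_mono hV) w)
      = (π.app V.1).hom v * (π.app V.1).hom (resO X hV (P η d.e y m)) *
        ((π.app V.1).hom (resO X hV (d.G i)) * resO Y (π.preimage_mono hV) w) := by ring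
    _ = _ := by rw [h1]; ring

theorem Rel.smul {U : X.Opens} {m : Sec M U}
    {c : Sec ((Scheme.Modules.pushforward π).obj (Coh.structureModule Y)) U} (h : Rel η R U m c)
    (v : Γ(X, U)) : Rel η R U (v • m) (v • c) := by
  intro V hV e he y
  have h1 := h V hV e he y
  have h2 : resO Y (π.preimage_mono hV) (toY (v • c)) =
      (π.app V.1).hom (resO X hV v) * resO Y (π.preimage_mono hV) (toY c) := by
    rw [toY_smul, map_mul]
    exact congrArg (· * resO Y (π.preimage_mono hV) (toY c)) (app_resO π hV v)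
  rw [h2, res_smul, P_smul_m, map_mul, mul_left_comm, h1]
  ring

section unique

variable {f : X ⟶ Spec (CommRingCat.of k)} [IsIntegral X] [Smooth f]

theorem Rel.unique (hL : PicF.IsInvertible L) (hN : 0 < N) (hD : LogNCD.IsNCD D f)
    (hs : CycCov.IsZeroDiv (CohB1.tensorPow L N) s (CycCov.divIdeal D α))
    (hR : CycCov.IsCover R) {U : X.Opens} {m : Sec M U}
    {c c' : Sec ((Scheme.Modules.pushforward π).obj (Coh.structureModule Y)) U}
    (h : Rel η R U m c) (h' : Rel η R U m c') : c = c' := by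
  apply eq_of_locally
  intro x hx
  obtain ⟨d, hxd, hdU, -⟩ := exists_locData_normalized f hL hD hs hx
  have hne : Nonempty d.U.1 := ⟨⟨x, hxd⟩⟩
  refine ⟨d.U.1, hdU, hxd, ?_⟩
  obtain ⟨y, hy, hgy⟩ := exists_y (N := N) d i
  have he : CycCov.IsGen L d.U.1 d.e := (gen_iff.mpr d.he : Gen L d.U.1 d.e).bijective
  have h1 := h d.U hdU d.e he y
  have h2 := h' d.U hdU d.e he y
  rw [← h2, hy, ← sub_eq_zero, ← mul_sub] at h1
  letI := K926.CovSch.alg π d.U.1
  have h3 := (d.isCov R hR hN).tors (d.G i) _ (d.G_ne_zero i) h1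
  exact sub_eq_zero.mp h3

/-- **The map `M → π_* O_Y`** for an inverse `M` of the integral part. -/
theorem exists_eig [IsAlgClosed k] (hL : PicF.IsInvertible L) (hN : 0 < N) (hNk : (N : k) ≠ 0)
    (hD : LogNCD.IsNCD D f)
    (hs : CycCov.IsZeroDiv (CohB1.tensorPow L N) s (CycCov.divIdeal D α))
    (hR : CycCov.IsCover R) (hM : PicF.IsInvertible M) (hi : i < N) :
    ∃ φ : M ⟶ (Scheme.Modules.pushforward π).obj (Coh.structureModule Y),
      ∀ (U : X.Opens) (m : Sec M U) (c : Sec _ U), Gen M U m → Rel η R U m c → appS φ U m = c := by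
  apply K926.GenHom.exists_hom_of_gen M _ (fun U m c => Rel η R U m c)
  · intro O x hx
    obtain ⟨U₁, hxU₁, hU₁, m, hm⟩ := exists_gen hM O x hx
    obtain ⟨d, hxd, hdU, -⟩ := exists_locData_normalized f hL hD hs hxU₁
    have hne : Nonempty d.U.1 := ⟨⟨x, hxd⟩⟩
    obtain ⟨y, hy, hgy⟩ := exists_y (N := N) d i
    obtain ⟨w, hw, -, -⟩ := d.exists_w R hR hN hNk
    exact ⟨d.U.1, hxd, hdU.trans hU₁, Groth.Agent.Sga67.Sec.res M hdU m, _, hm.restrict hdU,
      rel_of_w d hy hgy (hw i hi) _⟩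
  · intro U V h m c hc
    exact hc.res h
  · intro U m c m' c' v hm hm' h h' hv
    subst hv
    exact h'.unique hL hN hD hs hR (h.smul v)

end unique

/-- Common generators. -/
theorem exists_gens {n : ℕ} {M : Fin n → X.Modules} (hM : ∀ i, PicF.IsInvertible (M i)) {O : X.Opens} {x : X}
    (hx : x ∈ O) : ∃ V : X.Opens, x ∈ V ∧ V ≤ O ∧ ∃ m : ∀ i, Sec (M i) V, ∀ i, Gen (M i) V (m i) := by
  classical
  choose V hxV hVO m hm using fun i => exists_gen (hM i) O x hx
  have hW : ∀ i, (O ⊓ Finset.univ.inf V) ≤ V i := fun i => inf_le_right.trans (Finset.inf_le (Finset.mem_univ i))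
  refine ⟨O ⊓ Finset.univ.inf V, ⟨hx, ?_⟩, inf_le_left, fun i => res (M i) (hW i) (m i), fun i => (hm i).restrict (hW i)⟩
  have h1 : ((Finset.univ.inf V : X.Opens) : Set X) = ⋂ i ∈ (Finset.univ : Finset (Fin n)), (V i : Set X) := by
    rw [Opens.coe_finset_inf, Finset.inf_eq_iInf]
    rfl
  change x ∈ ((Finset.univ.inf V : X.Opens) : Set X)
  rw [h1]
  exact Set.mem_iInter₂.mpr fun i _ => hxV i

/-- **The eigenspace decomposition.** -/
theorem exists_isColimit {f : X ⟶ Spec (CommRingCat.of k)} [IsIntegral X] [Smooth f] [IsAlgClosed k]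
    (hL : PicF.IsInvertible L) (hN : 0 < N) (hNk : (N : k) ≠ 0)
    (hD : LogNCD.IsNCD D f)
    (hs : CycCov.IsZeroDiv (CohB1.tensorPow L N) s (CycCov.divIdeal D α))
    (hR : CycCov.IsCover R) (M : Fin N → X.Modules) (hM : ∀ i, PicF.IsInvertible (M i))
    (η : ∀ i : Fin N, CohB1.tensorMod (CycCov.intPart L D α N i) (M i) ≅ Coh.structureModule X)
    (φ : ∀ i : Fin N, M i ⟶ (Scheme.Modules.pushforward π).obj (Coh.structureModule Y))
    (hφ : ∀ (i : Fin N) (U : X.Opens) (m : Sec (M i) U) (c : Sec _ U), Gen (M i) U m → Rel (η i) R U m c →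
      appS (φ i) U m = c) :
    Nonempty (IsColimit (Cofan.mk ((Scheme.Modules.pushforward π).obj (Coh.structureModule Y)) φ)) := by
  apply K926.GenHom.isColimit_of_bijective
  intro x O hx
  obtain ⟨V, hxV, hVO, m₀, hm₀⟩ := exists_gens hM hx
  obtain ⟨d, hxd, hdV, -⟩ := exists_locData_normalized f hL hD hs hxV
  have hne : Nonempty d.U.1 := ⟨⟨x, hxd⟩⟩
  let m : ∀ i, Sec (M i) d.U.1 := fun i => res (M i) hdV (m₀ i)
  have hm : ∀ i, Gen (M i) d.U.1 (m i) := fun i => (hm₀ i).restrict hdV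
  obtain ⟨w, hw, hind, hspan⟩ := d.exists_w R hR hN hNk
  choose y hy hgy using fun i : ℕ => exists_y (N := N) d i
  let p : Fin N → Γ(X, d.U.1) := fun i => P (η i) d.e (y i) (m i)
  have hge : Gen L d.U.1 d.e := gen_iff.mpr d.he
  have hp : ∀ i, IsUnit (p i) := fun i => isUnit_P (η i) hge (hgy i) (hm i)
  have hval : ∀ i, appS (φ i) d.U.1 (m i) = ofY ((π.app d.U.1).hom (p i) * w i) := fun i =>
    hφ i _ _ _ (hm i) (rel_of_w d (hy i) (hgy i) (hw i i.2) (m i))
  have hsum : ∀ a : Fin N → Γ(X, d.U.1), (∑ i, appS (φ i) d.U.1 (a i • m i)) =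
      ofY (∑ i : Fin N, (π.app d.U.1).hom (a i * p i) * w i) := by
    intro a
    have h1 : ∀ i, appS (φ i) d.U.1 (a i • m i) = ofY ((π.app d.U.1).hom (a i * p i) * w i) := by
      intro i
      rw [map_smul, hval, map_mul, mul_assoc]
      rfl
    rw [Finset.sum_congr rfl fun i _ => h1 i]
    rfl
  refine ⟨d.U.1, hdV.trans hVO, hxd, ?_, ?_⟩
  · intro b b' hbb
    choose a ha using fun i => (hm i).bijective.2 (b i - b' i)
    simp only at ha
    have h1 : (∑ i, appS (φ i) d.U.1 (a i • m i)) = 0 := by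
      simp only [ha, map_sub, Finset.sum_sub_distrib]
      exact sub_eq_zero.mpr hbb
    rw [hsum] at h1
    have h2 : ∑ i ∈ Finset.range N, (π.app d.U.1).hom
        ((fun l => if h : l < N then a ⟨l, h⟩ * p ⟨l, h⟩ else 0) i) * w i = 0 := by
      rw [Finset.sum_range]
      simp only [Fin.is_lt, dite_true, Fin.eta]
      exact h1
    funext i
    have h3 := hind _ h2 i i.2
    simp only [Fin.is_lt, dite_true, Fin.eta] at h3
    have h4 : a i = 0 := (hp i).mul_left_eq_zero.mp h3
    have h5 := ha i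
    rw [h4, zero_smul] at h5
    exact (sub_eq_zero.mp h5.symm)
  · intro c
    obtain ⟨a, ha⟩ := hspan (toY c)
    choose q hq using fun i => (hp i).exists_left_inv
    refine ⟨fun i => (a i * q i) • m i, ?_⟩
    simp only
    rw [hsum]
    change (∑ i : Fin N, (π.app d.U.1).hom (a i * q i * p i) * w i) = toY c
    rw [ha, Finset.sum_range]
    refine Finset.sum_congr rfl fun i _ => ?_
    rw [mul_assoc (a i), hq, mul_one]

end K926.EigMap
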