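import Groth.Agent.Sga67.ExtSheaf

/-!
# Exterior powers of a morphism to a direct image
-/

set_option autoImplicit false

universe u

open CategoryTheory CategoryTheory.Limits AlgebraicGeometry Opposite TopologicalSpace
open Groth.Agent.Sga67.Sec Groth.Agent.Sga67.LocBasis Groth.Agent.Sga67.ExtSheaf

namespace K926.ExtPush

variable {X Y : Scheme.{u}} (π : Y ⟶ X) {E P : X.Modules} {F Q : Y.Modules} {q : ℕ}

/-- Sections of the direct image. -/
def un {F : Y.Modules} {U : X.Opens} (s : Sec ((Scheme.Modules.pushforward π).obj F) U) : Sec F (π ⁻¹ᵁ U) := s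

/-- Sections of the direct image. -/
def mk' {F : Y.Modules} {U : X.Opens} (s : Sec F (π ⁻¹ᵁ U)) : Sec ((Scheme.Modules.pushforward π).obj F) U := s

theorem un_mk' {U : X.Opens} (s : Sec F (π ⁻¹ᵁ U)) : un π (mk' π s) = s := rfl

theorem mk'_un {U : X.Opens} (s : Sec ((Scheme.Modules.pushforward π).obj F) U) : mk' π (un π s) = s := rfl

theorem un_add {U : X.Opens} (s t : Sec ((Scheme.Modules.pushforward π).obj F) U) :
    un π (s + t) = un π s + un π t := rfl

theorem un_smul {U : X.Opens} (a : Γ(X, U)) (s : Sec ((Scheme.Modules.pushforward π).obj F) U) :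
    un π (a • s) = (π.app U).hom a • un π s := rfl

theorem un_res {U V : X.Opens} (h : V ≤ U) (s : Sec ((Scheme.Modules.pushforward π).obj F) U) :
    un π (res _ h s) = res F (π.preimage_mono h) (un π s) := rfl

/-- The preimage of an affine open. -/
abbrev pre [IsAffineHom π] (U : X.affineOpens) : Y.affineOpens := ⟨π ⁻¹ᵁ U.1, U.2.preimage π⟩

/-- The wedge of the images, as an alternating map. -/
noncomputable def alt [IsAffineHom π] (θ : E ⟶ (Scheme.Modules.pushforward π).obj F) (ψ : Phi q F Q) (U : X.affineOpens) :
    (Sec E U.1) [⋀^Fin q]→ₗ[Γ(X, U.1)] (Sec ((Scheme.Modules.pushforward π).obj Q) U.1) where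
  toFun e := mk' π ((ψ (pre π U)).symm (exteriorPower.ιMulti _ q (fun j => un π (appS θ U.1 (e j)))))
  map_update_add' := by
    intro _ e j x y
    have hu : ∀ z, (fun k => un π (appS θ U.1 (Function.update e j z k))) =
        Function.update (fun k => un π (appS θ U.1 (e k))) j (un π (appS θ U.1 z)) := by
      intro z
      exact Function.comp_update (fun z => un π (appS θ U.1 z)) e j z
    change (ψ (pre π U)).symm _ = (ψ (pre π U)).symm _ + (ψ (pre π U)).symm _
    rw [hu, hu, hu, map_add, un_add]
    rw [AlternatingMap.map_update_add, map_add]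
  map_update_smul' := by
    intro _ e j c x
    have hu : ∀ z, (fun k => un π (appS θ U.1 (Function.update e j z k))) =
        Function.update (fun k => un π (appS θ U.1 (e k))) j (un π (appS θ U.1 z)) := by
      intro z
      exact Function.comp_update (fun z => un π (appS θ U.1 z)) e j z
    change (ψ (pre π U)).symm _ = (π.app U.1).hom c • (ψ (pre π U)).symm _
    rw [hu, hu, map_smul, un_smul]
    rw [AlternatingMap.map_update_smul]
    exact (ψ (pre π U)).symm.map_smul _ _
  map_eq_zero_of_eq' := by
    intro e a b hab hne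
    change (ψ (pre π U)).symm _ = 0
    rw [AlternatingMap.map_eq_zero_of_eq _ _ _ hne, map_zero]
    rw [hab]

/-- **The exterior power of a morphism to a direct image.** -/
theorem exists_push [IsAffineHom π] (θ : E ⟶ (Scheme.Modules.pushforward π).obj F) (φ : Phi q E P) (hφ : PhiComp φ)
    (ψ : Phi q F Q) (hψ : PhiComp ψ) :
    ∃ Θ : P ⟶ (Scheme.Modules.pushforward π).obj Q, ∀ (U : X.affineOpens) (e : Fin q → Sec E U.1),
      un π (appS Θ U.1 ((φ U).symm (exteriorPower.ιMulti _ q e))) =
        (ψ (pre π U)).symm (exteriorPower.ιMulti _ q (fun j => un π (appS θ U.1 (e j)))) := by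
  obtain ⟨g, hg⟩ := exists_hom_of_basis' (affineBasis X) P ((Scheme.Modules.pushforward π).obj Q)
    (fun U => (exteriorPower.alternatingMapLinearEquiv (alt π θ ψ U)) ∘ₗ (φ U).toLinearMap)
    (by
      intro U V h s
      refine phi_induction φ U (C := fun s =>
        ((exteriorPower.alternatingMapLinearEquiv (alt π θ ψ V)) ∘ₗ (φ V).toLinearMap) (res P h s) =
        res ((Scheme.Modules.pushforward π).obj Q) h
          (((exteriorPower.alternatingMapLinearEquiv (alt π θ ψ U)) ∘ₗ (φ U).toLinearMap) s)) ?_ ?_ ?_ ?_ s
      · simp only [map_zero]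
      · intro x y hx hy
        rw [map_add, map_add, hx, hy, map_add, map_add]
      · intro a x hx
        rw [res_smul, map_smul, map_smul, hx, res_smul]
      · intro e
        rw [hφ U V h e]
        simp only [LinearMap.comp_apply, LinearEquiv.coe_coe, LinearEquiv.apply_symm_apply,
          exteriorPower.alternatingMapLinearEquiv_apply_ιMulti]
        change (ψ (pre π V)).symm (exteriorPower.ιMulti _ q (fun j => un π (appS θ V.1 (res E h (e j))))) =
          res Q (π.preimage_mono h) ((ψ (pre π U)).symm (exteriorPower.ιMulti _ q (fun j => un π (appS θ U.1 (e j)))))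
        have h1 := hψ (pre π U) (pre π V) (π.preimage_mono h) (fun j => un π (appS θ U.1 (e j)))
        refine Eq.trans ?_ h1.symm
        congr 2
        funext j
        rw [appS_res]
        rfl)
  refine ⟨g, fun U e => ?_⟩
  rw [hg U]
  simp only [LinearMap.comp_apply, LinearEquiv.coe_coe, LinearEquiv.apply_symm_apply,
    exteriorPower.alternatingMapLinearEquiv_apply_ιMulti]
  rfl

end K926.ExtPush
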