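import Groth.Agent.CycCov.K926.Cov
import Mathlib.FieldTheory.KummerExtension
import Mathlib.FieldTheory.IsAlgClosed.AlgebraicClosure

/-!
# Irreducibility of cyclic covers, algebra
-/

set_option autoImplicit false

open Polynomial

namespace K926.Irr

/-- With enough roots of unity, a reducible binomial `X ^ N - a` comes from a power `a = c ^ μ`, `μ ∣ N`, `1 < μ`. -/
theorem exists_pow_of_not_irreducible {K : Type*} [Field K] {N : ℕ} (hN : 0 < N) {ζ : K}
    (hζ : IsPrimitiveRoot ζ N) {a : K} (h : ¬ Irreducible (X ^ N - C a : K[X])) :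
    ∃ μ, 1 < μ ∧ μ ∣ N ∧ ∃ c : K, a = c ^ μ := by
  have hF : (X ^ N - C a : K[X]).Monic := monic_X_pow_sub_C a hN.ne'
  have hdeg : (X ^ N - C a : K[X]).natDegree = N := natDegree_X_pow_sub_C
  have hnu : ¬ IsUnit (X ^ N - C a : K[X]) := by
    intro hu
    have := natDegree_eq_zero_of_isUnit hu
    omega
  obtain ⟨q, hqm, hqi, hqd⟩ := exists_monic_irreducible_factor _ hnu
  have hqN : q.natDegree < N := by
    rcases (natDegree_le_of_dvd hqd hF.ne_zero).lt_or_eq with h1 | h1
    · rwa [hdeg] at h1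
    · exfalso
      apply h
      have h2 : X ^ N - C a = q := eq_of_monic_of_dvd_of_natDegree_le hqm hF hqd h1.ge
      rwa [h2]
  have hq0 : 0 < q.natDegree := hqi.natDegree_pos
  rcases eq_or_ne a 0 with ha | ha
  · refine ⟨N, by omega, dvd_rfl, 0, ?_⟩
    rw [ha, zero_pow hN.ne']
  let E := AlgebraicClosure K
  obtain ⟨θ, hθ⟩ := IsAlgClosed.exists_aeval_eq_zero E q (by
    intro h0
    rw [degree_eq_natDegree hqm.ne_zero] at h0
    have : q.natDegree = 0 := by exact_mod_cast h0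
    omega)
  have hpow : ∀ x : E, aeval x q = 0 → x ^ N = algebraMap K E a := by
    intro x hx
    obtain ⟨g, hg⟩ := hqd
    have h1 : aeval x (X ^ N - C a : K[X]) = 0 := by rw [hg, map_mul, hx, zero_mul]
    simpa [sub_eq_zero] using h1
  have hθN := hpow θ hθ
  have hθ0 : θ ≠ 0 := by
    rintro rfl
    rw [zero_pow hN.ne'] at hθN
    exact ha ((map_eq_zero _).mp hθN.symm)
  have hroot : ∀ x : E, aeval x q = 0 → ∃ c : K, c ≠ 0 ∧ x = algebraMap K E c * θ := by
    intro x hx
    have h1 : (x / θ) ^ N = 1 := by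
      rw [div_pow, hpow x hx, hθN, div_self]
      exact (_root_.map_ne_zero _).mpr ha
    have : NeZero N := ⟨hN.ne'⟩
    have hζE : IsPrimitiveRoot (algebraMap K E ζ) N := hζ.map_of_injective (algebraMap K E).injective
    obtain ⟨i, -, hi⟩ := hζE.eq_pow_of_pow_eq_one h1
    refine ⟨ζ ^ i, pow_ne_zero _ (hζ.ne_zero hN.ne'), ?_⟩
    rw [map_pow, hi, div_mul_cancel₀ _ hθ0]
  -- the product of the roots
  have hprod : ∀ m : Multiset E, (∀ x ∈ m, aeval x q = 0) →
      ∃ c : K, c ≠ 0 ∧ m.prod = algebraMap K E c * θ ^ m.card := by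
    intro m
    induction m using Multiset.induction_on with
    | empty => exact fun _ => ⟨1, one_ne_zero, by simp⟩
    | cons x m ih =>
      intro hm
      obtain ⟨c, hc, hc'⟩ := ih fun x hx => hm x (Multiset.mem_cons_of_mem hx)
      obtain ⟨b, hb, hb'⟩ := hroot x (hm x (Multiset.mem_cons_self x m))
      refine ⟨b * c, mul_ne_zero hb hc, ?_⟩
      rw [Multiset.prod_cons, hc', hb', Multiset.card_cons, map_mul, pow_succ]
      ring
  obtain ⟨c₁, hc₁, hc₁'⟩ := hprod (q.map (algebraMap K E)).roots (by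
    intro x hx
    have := (mem_roots'.mp hx).2
    rwa [IsRoot.def, eval_map_algebraMap] at this)
  have hsplits : (q.map (algebraMap K E)).Splits := IsAlgClosed.splits _
  have hcard : (q.map (algebraMap K E)).roots.card = q.natDegree := by
    rw [← hsplits.natDegree_eq_card_roots, natDegree_map]
  have hcoeff := hsplits.coeff_zero_eq_prod_roots_of_monic (hqm.map _)
  rw [natDegree_map, hc₁', hcard, coeff_map] at hcoeff
  -- `θ ^ d ∈ K`
  have hd : ∃ c : K, θ ^ q.natDegree = algebraMap K E c := by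
    refine ⟨c₁⁻¹ * ((-1) ^ q.natDegree * q.coeff 0), ?_⟩
    have h1 : (algebraMap K E c₁) ≠ 0 := (_root_.map_ne_zero _).mpr hc₁
    rw [map_mul, map_mul, map_pow, map_neg, map_one, hcoeff, map_inv₀]
    have h2 : ((-1 : E) ^ q.natDegree) * (-1) ^ q.natDegree = 1 := by
      rw [← pow_add, ← two_mul, pow_mul]
      norm_num
    rw [← mul_assoc ((-1 : E) ^ q.natDegree), h2, one_mul, ← mul_assoc, inv_mul_cancel₀ h1, one_mul]
  obtain ⟨c₂, hc₂⟩ := hd
  -- Bezout
  have hg : ∃ c : K, θ ^ (Nat.gcd q.natDegree N) = algebraMap K E c := by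
    have h1 := Nat.gcd_eq_gcd_ab q.natDegree N
    refine ⟨c₂ ^ (Nat.gcdA q.natDegree N) * a ^ (Nat.gcdB q.natDegree N), ?_⟩
    rw [← zpow_natCast θ, h1, zpow_add₀ hθ0, zpow_mul, zpow_mul, zpow_natCast, zpow_natCast, hc₂, hθN, map_mul,
      map_zpow₀, map_zpow₀]
  obtain ⟨c, hc⟩ := hg
  obtain ⟨μ, hμ⟩ := Nat.gcd_dvd_right q.natDegree N
  refine ⟨μ, ?_, ⟨_, by rw [mul_comm]; exact hμ⟩, c, ?_⟩
  · by_contra hcon
    have h1 : Nat.gcd q.natDegree N ≤ q.natDegree := Nat.gcd_le_left _ hq0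
    have h2 : μ ≤ 1 := not_lt.mp hcon
    have h3 : N ≤ Nat.gcd q.natDegree N := by
      conv_lhs => rw [hμ]
      exact (Nat.mul_le_mul_left _ h2).trans (by rw [mul_one])
    omega
  · apply (algebraMap K E).injective
    rw [map_pow, ← hc, ← pow_mul, ← hμ, hθN]

section

open K926.Cov

variable {B C : Type*} [CommRing B] [CommRing C] [Algebra B C] {N : ℕ} {f : B} {t : C}

/-- If `X ^ N - f` is irreducible over the fraction field, the cover has no zero divisors. -/
theorem noZeroDivisors_of_irreducible [IsDomain B] (h : IsCov N f t) (hN : 0 < N) {K : Type*} [Field K]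
    [Algebra B K] [IsFractionRing B K] (hirr : Irreducible (X ^ N - Polynomial.C (algebraMap B K f) : K[X]))
    {c c' : C} (hc : c * c' = 0) : c = 0 ∨ c' = 0 := by
  have hm : (X ^ N - Polynomial.C f : B[X]).Monic := monic_X_pow_sub_C f hN.ne'
  have hinj : Function.Injective (algebraMap B K) := IsFractionRing.injective B K
  have hmap : (X ^ N - Polynomial.C f : B[X]).map (algebraMap B K) = X ^ N - Polynomial.C (algebraMap B K f) := by
    simp
  have h0 : aeval t (X ^ N - Polynomial.C f : B[X]) = 0 := by simp [h.pow]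
  have key : ∀ (b : B) (p : B[X]) (x : C), b ≠ 0 → algebraMap B C b * x = aeval t p →
      (X ^ N - Polynomial.C (algebraMap B K f) : K[X]) ∣ p.map (algebraMap B K) → x = 0 := by
    intro b p x hb hx hd
    rw [← hmap, Polynomial.map_dvd_map _ hinj hm] at hd
    obtain ⟨q, rfl⟩ := hd
    rw [map_mul, h0, zero_mul] at hx
    exact h.tors b x hb hx
  obtain ⟨b, hb, p, hp⟩ := h.gen c
  obtain ⟨b', hb', p', hp'⟩ := h.gen c'
  have h1 : aeval t (p * p') = 0 := by
    rw [map_mul, ← hp, ← hp']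
    calc algebraMap B C b * c * (algebraMap B C b' * c')
        = algebraMap B C b * algebraMap B C b' * (c * c') := by ring
      _ = 0 := by rw [hc, mul_zero]
  have h2 := h.chart_injective hN _ h1
  have h3 : (X ^ N - Polynomial.C (algebraMap B K f) : K[X]) ∣
      p.map (algebraMap B K) * p'.map (algebraMap B K) := by
    rw [← hmap, ← Polynomial.map_mul]
    exact (Polynomial.map_dvd_map _ hinj hm).mpr h2
  rcases hirr.prime.dvd_or_dvd h3 with h4 | h4
  · exact Or.inl (key b p c hb hp h4)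
  · exact Or.inr (key b' p' c' hb' hp' h4)

/-- A cover with zero divisors comes from a power. -/
theorem exists_pow_of_zero_divisors [IsDomain B] [IsIntegrallyClosed B] (h : IsCov N f t) (hN : 0 < N)
    {K : Type*} [Field K] [Algebra B K] [IsFractionRing B K] {ζ : K} (hζ : IsPrimitiveRoot ζ N)
    (hz : ∃ c c' : C, c * c' = 0 ∧ c ≠ 0 ∧ c' ≠ 0) : ∃ μ, 1 < μ ∧ μ ∣ N ∧ ∃ b : B, f = b ^ μ := by
  obtain ⟨c, c', hcc, hc, hc'⟩ := hz
  obtain ⟨μ, hμ1, hμN, b, hb⟩ := exists_pow_of_not_irreducible hN hζ (a := algebraMap B K f) (fun hirr => by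
    rcases noZeroDivisors_of_irreducible h hN hirr hcc with h1 | h1
    · exact hc h1
    · exact hc' h1)
  refine ⟨μ, hμ1, hμN, ?_⟩
  obtain ⟨b₀, hb₀⟩ := IsIntegrallyClosed.exists_algebraMap_eq_of_isIntegral_pow (R := B) (x := b) (n := μ) (by omega)
    (by rw [← hb]; exact isIntegral_algebraMap)
  refine ⟨b₀, IsFractionRing.injective B K ?_⟩
  rw [map_pow, hb₀, hb]

/-- A power gives zero divisors. -/
theorem exists_zero_divisors [IsDomain B] (h : IsCov N f t) {μ : ℕ} (hN : 0 < N) (hμ : 1 < μ) (hμN : μ ∣ N) {b : B}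
    (hb : f = b ^ μ) : ∃ c c' : C, c * c' = 0 ∧ c ≠ 0 ∧ c' ≠ 0 := by
  obtain ⟨e, he⟩ := hμN
  have he0 : 0 < e := Nat.pos_of_ne_zero (by rintro rfl; omega)
  let p : B[X] := X ^ e - Polynomial.C b
  let q : B[X] := ∑ i ∈ Finset.range μ, (X ^ e) ^ i * (Polynomial.C b) ^ (μ - 1 - i)
  have hqp : q * p = X ^ N - Polynomial.C f := by
    have h1 := (Commute.all (X ^ e : B[X]) (Polynomial.C b)).geom_sum₂_mul μ
    rw [← pow_mul, mul_comm e μ, ← he, ← map_pow, ← hb] at h1
    exact h1
  have hm : (X ^ N - Polynomial.C f : B[X]).Monic := monic_X_pow_sub_C f hN.ne'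
  have hp : p.Monic := monic_X_pow_sub_C b he0.ne'
  have hp0 : p ≠ 0 := hp.ne_zero
  have hq0 : q ≠ 0 := by
    intro h0
    rw [h0, zero_mul] at hqp
    exact hm.ne_zero hqp.symm
  have hpd : p.natDegree = e := natDegree_X_pow_sub_C
  have hsum : q.natDegree + e = N := by
    rw [← hpd, ← natDegree_mul hq0 hp0, hqp, natDegree_X_pow_sub_C]
  have heN : e < N := by rw [he]; exact (Nat.lt_mul_iff_one_lt_left he0).mpr hμ
  refine ⟨aeval t q, aeval t p, ?_, ?_, ?_⟩
  · rw [← map_mul, hqp]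
    simp [h.pow]
  · intro h0
    refine hq0 (h.indep q ?_ h0)
    rw [degree_eq_natDegree hq0]
    exact_mod_cast (by omega : q.natDegree < N)
  · intro h0
    refine hp0 (h.indep p ?_ h0)
    rw [degree_eq_natDegree hp0, hpd]
    exact_mod_cast heN

end

end K926.Irr
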