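import Groth.Agent.CycCov.K926.Irr
import Groth.Agent.CycCov.K926.EigMap

/-!
# Irreducibility of cyclic covers
-/

set_option autoImplicit false
universe u

open CategoryTheory CategoryTheory.Limits AlgebraicGeometry Opposite TopologicalSpace
open Groth.Agent.Sga67.Sec Groth.Agent.Sga67.LocBasis

namespace K926.IrrSch

open K892.RankOne K892.Frames K926.Loc K926.Base K926.Irr

variable {k : Type u} [Field k] {X Y : Scheme.{u}}
  {L : X.Modules} {N : ℕ} {r : ℕ} {D : Fin r → X.IdealSheafData} {α : Fin r → ℕ}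
  {s : Coh.structureModule X ⟶ CohB1.tensorPow L N} {π : Y ⟶ X}
  {f : X ⟶ Spec (CommRingCat.of k)}

theorem resO_injective [IsIntegral X] {U V : X.Opens} (h : V ≤ U) (hV : (V : Set X).Nonempty) :
    Function.Injective (resO X h) := K926.CovSch.ores_injective h hV

/-- Restriction of sections of an invertible module on an integral scheme is injective. -/
theorem res_eq_zero [IsIntegral X] {M : X.Modules} (hM : PicF.IsInvertible M) {U V : X.Opens} (h : V ≤ U)
    (hV : (V : Set X).Nonempty) {m : Sec M U} (hm : res M h m = 0) : m = 0 := by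
  apply eq_of_locally
  intro x hx
  obtain ⟨W, hxW, hWU, e, he⟩ := exists_gen hM U x hx
  refine ⟨W, hWU, hxW, ?_⟩
  obtain ⟨a, ha⟩ := he.bijective.2 (res M hWU m)
  simp only at ha
  have hne : ((W ⊓ V : X.Opens) : Set X).Nonempty :=
    nonempty_preirreducible_inter W.2 V.2 ⟨x, hxW⟩ hV
  have h1 : resO X (inf_le_left : W ⊓ V ≤ W) a • res M (inf_le_left : W ⊓ V ≤ W) e = 0 := by
    rw [← res_smul, ha, res_res]
    have h2 : res M (inf_le_left.trans hWU : W ⊓ V ≤ U) m = res M inf_le_right (res M h m) := by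
      rw [res_res]
    rw [h2, hm, map_zero]
  have h3 : resO X (inf_le_left : W ⊓ V ≤ W) a = 0 := by
    apply (he.restrict inf_le_left).bijective.1
    simp only
    rw [h1, zero_smul]
  have h4 : a = 0 := by
    apply resO_injective inf_le_left hne
    rw [h3, map_zero]
  rw [map_zero, ← ha, h4, zero_smul]

/-- The preimage of a nonempty open is dense in the cover. -/
theorem dense_preimage [IsIntegral X] [Smooth f] (hL : PicF.IsInvertible L) (hN : 0 < N)
    (hD : LogNCD.IsNCD D f)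
    (hs : CycCov.IsZeroDiv (CohB1.tensorPow L N) s (CycCov.divIdeal D α))
    (R : CycCov.Root L N s π) (hR : CycCov.IsCover R) {V : X.Opens} (hV : (V : Set X).Nonempty) :
    Dense ((π ⁻¹ᵁ V : Y.Opens) : Set Y) := by
  have hfin : IsFinite π := hR.1
  have hred : AlgebraicGeometry.IsReduced Y := K926.CovSch.isReduced_of_normal hR.2.1
  rw [dense_iff_inter_open]
  rintro O hO ⟨y, hy⟩
  obtain ⟨d, hyd, -, -⟩ := exists_locData_normalized f hL hD hs (O := ⊤) (x := π y) trivial
  have hne : Nonempty d.U.1 := ⟨⟨_, hyd⟩⟩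
  have hπU : IsAffineOpen (π ⁻¹ᵁ d.U.1) := d.U.2.preimage π
  obtain ⟨c, hcO, hyc⟩ := hπU.exists_basicOpen_le (V := ⟨O, hO⟩) ⟨y, hy⟩ hyd
  obtain ⟨x, hxU, hxV⟩ := nonempty_preirreducible_inter d.U.1.2 V.2 ⟨_, hyd⟩ hV
  obtain ⟨b, hbV, hxb⟩ := d.U.2.exists_basicOpen_le (V := V) ⟨x, hxV⟩ hxU
  have hb : b ≠ 0 := by
    rintro rfl
    simp at hxb
  by_contra hempty
  rw [Set.not_nonempty_iff_eq_empty] at hempty
  have h1 : Y.basicOpen ((π.app d.U.1).hom b * c) = ⊥ := by
    rw [Scheme.basicOpen_mul, ← Scheme.preimage_basicOpen]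
    ext z
    simp only [SetLike.mem_coe, Opens.mem_inf, Opens.coe_bot, Set.mem_empty_iff_false, iff_false, not_and]
    intro hz hzc
    have : z ∈ O ∩ ((π ⁻¹ᵁ V : Y.Opens) : Set Y) := ⟨hcO hzc, hbV hz⟩
    rw [hempty] at this
    exact this
  rw [basicOpen_eq_bot_iff] at h1
  let _ := K926.CovSch.alg π d.U.1
  have h2 : c = 0 := (d.isCov R hR hN).tors b c hb h1
  rw [h2] at hyc
  simp at hyc

theorem one_ne_zero_of_isCov {B C : Type*} [CommRing B] [CommRing C] [Algebra B C] [Nontrivial B] {N : ℕ} {f : B} {t : C}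
    (h : K926.Cov.IsCov N f t) (hN : 0 < N) : (1 : C) ≠ 0 := by
  intro h0
  have h1 := h.indep 1 (by
    rw [Polynomial.degree_one]
    exact_mod_cast hN) (by rw [map_one, h0])
  exact one_ne_zero h1

/-- The preimage of a nonempty chart is nonempty. -/
theorem preimage_nonempty (d : LocData f D α s) [hne : Nonempty d.U.1] [IsIntegral X] (hN : 0 < N)
    (R : CycCov.Root L N s π) (hR : CycCov.IsCover R) : ((π ⁻¹ᵁ d.U.1 : Y.Opens) : Set Y).Nonempty := by
  let _ := K926.CovSch.alg π d.U.1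
  have h1 := one_ne_zero_of_isCov (d.isCov R hR hN) hN
  by_contra h
  rw [Set.not_nonempty_iff_eq_empty] at h
  have h2 : (π ⁻¹ᵁ d.U.1 : Y.Opens) = ⊥ := Opens.ext h
  have h3 : Subsingleton Γ(Y, π ⁻¹ᵁ d.U.1) := by
    rw [h2]
    infer_instance
  exact h1 (Subsingleton.elim _ _)

/-- The cover is irreducible if the algebra of one chart is a domain. -/
theorem irreducibleSpace_of_isDomain [IsIntegral X] [Smooth f] (hL : PicF.IsInvertible L) (hN : 0 < N)
    (hD : LogNCD.IsNCD D f)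
    (hs : CycCov.IsZeroDiv (CohB1.tensorPow L N) s (CycCov.divIdeal D α))
    (R : CycCov.Root L N s π) (hR : CycCov.IsCover R) {V : X.Opens} (hVa : IsAffineOpen V)
    (hV : (V : Set X).Nonempty) (hπne : ((π ⁻¹ᵁ V : Y.Opens) : Set Y).Nonempty)
    (hdom : IsDomain Γ(Y, π ⁻¹ᵁ V)) : IrreducibleSpace Y := by
  have hfin : IsFinite π := hR.1
  have hπV : IsAffineOpen (π ⁻¹ᵁ V) := hVa.preimage π
  have hd := dense_preimage hL hN hD hs R hR hV
  have h1 : IsAffine (π ⁻¹ᵁ V : Y.Opens) := hπV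
  have h2 : IsDomain Γ((π ⁻¹ᵁ V : Y.Opens).toScheme, ⊤) :=
    ((π ⁻¹ᵁ V).topIso.commRingCatIsoToRingEquiv.toMulEquiv).isDomain Γ(Y, π ⁻¹ᵁ V)
  have hnep : Nonempty (π ⁻¹ᵁ V : Y.Opens).toScheme := hπne.to_subtype
  have h3 : IsIntegral (π ⁻¹ᵁ V : Y.Opens).toScheme := isIntegral_of_isAffine_of_isDomain _
  have h4 : IrreducibleSpace (π ⁻¹ᵁ V : Y.Opens).toScheme := inferInstance
  have h5 : IsIrreducible ((π ⁻¹ᵁ V : Y.Opens) : Set Y) := by
    have h6 := (IrreducibleSpace.isIrreducible_univ (π ⁻¹ᵁ V : Y.Opens).toScheme).image (π ⁻¹ᵁ V).ι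
      (π ⁻¹ᵁ V).ι.continuous.continuousOn
    rwa [Set.image_univ, Scheme.Opens.range_ι] at h6
  have h7 := h5.closure
  rw [hd.closure_eq] at h7
  exact { isPreirreducible_univ := h7.2
          toNonempty := h7.1.to_type }

/-- A chart of an irreducible cover is a domain. -/
theorem isDomain_of_irreducibleSpace [IrreducibleSpace Y]
    (R : CycCov.Root L N s π) (hR : CycCov.IsCover R) {V : X.Opens} 
    (hV : ((π ⁻¹ᵁ V : Y.Opens) : Set Y).Nonempty) : IsDomain Γ(Y, π ⁻¹ᵁ V) := by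
  have hred : AlgebraicGeometry.IsReduced Y := K926.CovSch.isReduced_of_normal hR.2.1
  have : IsIntegral Y := isIntegral_of_irreducibleSpace_of_isReduced Y
  have : Nonempty (π ⁻¹ᵁ V : Y.Opens) := hV.to_subtype
  infer_instance

end K926.IrrSch
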