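import Groth.Agent.CycCov.K926.IrrSch

/-!
# Extending a root of the section of a cyclic cover
-/

set_option autoImplicit false
universe u

open CategoryTheory CategoryTheory.Limits AlgebraicGeometry Opposite TopologicalSpace
open Groth.Agent.Sga67.Sec Groth.Agent.Sga67.LocBasis

namespace K926.IrrSch

open K892.RankOne K892.Frames K926.Loc K926.Base K926.Irr K922.Quot K922.DSec

variable {k : Type u} [Field k] {X : Scheme.{u}}
  {L : X.Modules} {N : ℕ} {r : ℕ} {D : Fin r → X.IdealSheafData} {α : Fin r → ℕ}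
  {s : Coh.structureModule X ⟶ CohB1.tensorPow L N}
  {f : X ⟶ Spec (CommRingCat.of k)}

theorem isInvertible_tensorPow (hL : PicF.IsInvertible L) (n : ℕ) : PicF.IsInvertible (CohB1.tensorPow L n) := by
  rw [Groth.Agent.Fdesc.LocGen.isInvertible_iff]
  intro x
  obtain ⟨V, e, hxV, he⟩ := (Groth.Agent.Fdesc.LocGen.isInvertible_iff L).mp hL x
  exact ⟨V, _, hxV, K926.Frame.isGen_lp he n⟩

/-- A root in the function field of a function on a smooth scheme extends. -/
theorem exists_extend [IsIntegral X] [Smooth f] {V W : X.Opens} (hV : IsAffineOpen V) (h : W ≤ V)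
    (hW : (W : Set X).Nonempty) {μ : ℕ} (hμ : 0 < μ) (a : Γ(X, V)) (c : Γ(X, W))
    (hc : c ^ μ = resO X h a) : ∃ b : Γ(X, V), resO X h b = c := by
  have hne : (V : Set X).Nonempty := hW.mono h
  have : Nonempty V := hne.to_subtype
  have : Nonempty W := hW.to_subtype
  have hic : IsIntegrallyClosed Γ(X, V) := isIntegrallyClosed f hV hne
  have hfr : IsFractionRing Γ(X, V) X.functionField := functionField_isFractionRing_of_isAffineOpen X V hV
  have hcomp : ∀ b : Γ(X, V), X.germToFunctionField W (resO X h b) = X.germToFunctionField V b := by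
    intro b
    exact TopCat.Presheaf.germ_res_apply X.presheaf (homOfLE h) _ _ b
  have hinj : Function.Injective (X.germToFunctionField W) := Scheme.germToFunctionField_injective X W
  obtain ⟨b, hb⟩ := IsIntegrallyClosed.exists_algebraMap_eq_of_isIntegral_pow (R := Γ(X, V)) (K := X.functionField)
    (x := X.germToFunctionField W c) (n := μ) hμ (by
      rw [← map_pow, hc, hcomp]
      exact isIntegral_algebraMap)
  refine ⟨b, hinj ?_⟩
  rw [hcomp]
  exact hb

/-- Comparison of two frames of a tensor power. -/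
theorem coord_change {U : X.Opens} {e e₀ : Sec L U} {v : Γ(X, U)} (hv : e₀ = v • e) (he : Gen L U e) (n : ℕ) {a b : Γ(X, U)}
    (h : a • CycCov.lpow L U e n = b • CycCov.lpow L U e₀ n) : a = b * v ^ n := by
  apply (Gen.lpow he n).bijective.1
  simp only
  rw [h, hv, lpow_smul, smul_smul]

theorem val_res (s : Coh.structureModule X ⟶ CohB1.tensorPow L N) {U V : X.Opens} (h : V ≤ U) :
    res _ h (SecTwist.val s U) = SecTwist.val s V :=
  Groth.Agent.Fdesc.LocGen.res_sec s h

theorem val_coord_res {s : Coh.structureModule X ⟶ CohB1.tensorPow L N} {U V : X.Opens} (h : V ≤ U) {e : Sec L U}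
    {a : Γ(X, U)} (ha : SecTwist.val s U = a • CycCov.lpow L U e N) :
    SecTwist.val s V = resO X h a • CycCov.lpow L V (res L h e) N := by
  rw [← val_res s h, ha, Groth.Agent.Sga67.Sec.res_smul, res_lpow]

theorem exists_section [IsIntegral X] [Smooth f] (hL : PicF.IsInvertible L)
    {U₀ : X.Opens} (hU₀ : (U₀ : Set X).Nonempty) {e₀ : Sec L U₀} {f₀ : Γ(X, U₀)}
    (hf₀ : SecTwist.val s U₀ = f₀ • CycCov.lpow L U₀ e₀ N) {μ : ℕ} (hμ : 0 < μ) {n : ℕ} (hn : n * μ = N) {c₀ : Γ(X, U₀)}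
    (hc₀ : f₀ = c₀ ^ μ) :
    ∃ s' : Coh.structureModule X ⟶ CohB1.tensorPow L n,
        ∀ (U : X.Opens), (U : Set X).Nonempty → ∀ (e : Sec L U), Gen L U e →
          ∀ a b : Γ(X, U), SecTwist.val s U = a • CycCov.lpow L U e N →
            SecTwist.val s' U = b • CycCov.lpow L U e n → a = b ^ μ := by
  have hF : PicF.IsInvertible (CohB1.tensorPow L n) := isInvertible_tensorPow hL n
  have hinter : ∀ U : X.Opens, (U : Set X).Nonempty → ((U ⊓ U₀ : X.Opens) : Set X).Nonempty := fun U hU =>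
    nonempty_preirreducible_inter U.2 U₀.2 hU hU₀
  obtain ⟨φ, hφ⟩ := K926.GenHom.exists_hom_of_gen (Coh.structureModule X) (CohB1.tensorPow L n)
    (fun U m c => ∀ (W : X.Opens) (hW : W ≤ U) (hW₀ : W ≤ U₀),
      res _ hW c = resO X hW (toO m) • res _ hW₀ (c₀ • CycCov.lpow L U₀ e₀ n)) (by
    intro O x hx
    obtain ⟨V', hxV', hV'O, e', he'⟩ := exists_gen hL O x hx
    obtain ⟨V, hVa, hxV, hVV'⟩ := exists_isAffineOpen_mem_and_subset (U := V') hxV'
    let e : Sec L V := res L hVV' e'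
    have he : Gen L V e := he'.restrict hVV'
    have hVne : (V : Set X).Nonempty := ⟨x, hxV⟩
    have hne := hinter V hVne
    have hWV : V ⊓ U₀ ≤ V := inf_le_left
    have hWU₀ : V ⊓ U₀ ≤ U₀ := inf_le_right
    obtain ⟨v, hv⟩ := (he.restrict hWV).bijective.2 (res L hWU₀ e₀)
    simp only at hv
    obtain ⟨fV, hfV⟩ := (Gen.lpow he N).bijective.2 (SecTwist.val s V)
    simp only at hfV
    have h1 := val_coord_res hWV hfV.symm
    rw [val_coord_res hWU₀ hf₀] at h1
    have h2 := coord_change hv.symm (he.restrict hWV) N h1.symm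
    obtain ⟨b, hb⟩ := exists_extend (f := f) hVa hWV hne hμ fV (resO X hWU₀ c₀ * v ^ n) (by
      rw [h2, hc₀, map_pow, mul_pow, ← pow_mul, hn])
    refine ⟨V, hxV, hVV'.trans hV'O, one X V, b • CycCov.lpow L V e n, gen_iff.mpr
      (Groth.Agent.Fdesc.LocGen.isGen_one V), ?_⟩
    intro W hW hW₀
    have hWW : W ≤ V ⊓ U₀ := le_inf hW hW₀
    have h3 : res _ hWV (b • CycCov.lpow L V e n) = res _ hWU₀ (c₀ • CycCov.lpow L U₀ e₀ n) := by
      rw [Groth.Agent.Sga67.Sec.res_smul, Groth.Agent.Sga67.Sec.res_smul, res_lpow, res_lpow, hb, ← hv,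
        lpow_smul, smul_smul]
    have h4 := congrArg (res _ hWW) h3
    rw [Groth.Agent.Sga67.Sec.res_res, Groth.Agent.Sga67.Sec.res_res] at h4
    rw [h4, toO_one, map_one, _root_.one_smul]) (by
    intro U V h m c hR W hW hW₀
    rw [Groth.Agent.Sga67.Sec.res_res, toO_res, resO_resO]
    exact hR W (hW.trans h) hW₀) (by
    intro U m c m' c' v _ _ hR hR' hm
    by_cases hU : (U : Set X).Nonempty
    · rw [← sub_eq_zero]
      refine res_eq_zero hF (inf_le_left : U ⊓ U₀ ≤ U) (hinter U hU) ?_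
      rw [map_sub, Groth.Agent.Sga67.Sec.res_smul, hR' (U ⊓ U₀) inf_le_left inf_le_right,
        hR (U ⊓ U₀) inf_le_left inf_le_right, hm, toO_smul, map_mul, mul_smul, sub_self]
    · apply eq_of_locally
      intro x hx
      exact absurd ⟨x, hx⟩ hU)
  refine ⟨φ, ?_⟩
  intro U hU e he a b ha hb
  have hne := hinter U hU
  have hWU : U ⊓ U₀ ≤ U := inf_le_left
  have hWU₀ : U ⊓ U₀ ≤ U₀ := inf_le_right
  obtain ⟨v, hv⟩ := (he.restrict hWU).bijective.2 (res L hWU₀ e₀)
  simp only at hv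
  have h1 := val_coord_res hWU ha
  rw [val_coord_res hWU₀ hf₀] at h1
  have h2 := coord_change hv.symm (he.restrict hWU) N h1.symm
  have h3 : appS φ (U ⊓ U₀) (one X (U ⊓ U₀)) = res _ hWU₀ (c₀ • CycCov.lpow L U₀ e₀ n) := by
    refine hφ (U ⊓ U₀) _ _ (gen_iff.mpr (Groth.Agent.Fdesc.LocGen.isGen_one _)) ?_
    intro W hW hW₀
    rw [Groth.Agent.Sga67.Sec.res_res, toO_one, map_one, _root_.one_smul]
  have h4 : SecTwist.val φ (U ⊓ U₀) = appS φ (U ⊓ U₀) (one X (U ⊓ U₀)) := rfl
  have h5 := val_coord_res (s := φ) hWU hb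
  rw [h4, h3, Groth.Agent.Sga67.Sec.res_smul, res_lpow] at h5
  have h6 := coord_change hv.symm (he.restrict hWU) n h5.symm
  apply resO_injective hWU hne
  rw [map_pow, h6, h2, hc₀, map_pow, mul_pow, ← pow_mul, hn]

/-- A basis of the sections of an invertible module over a nonempty open is a frame on a smaller nonempty open. -/
theorem exists_gen_restrict [IsIntegral X] (hL : PicF.IsInvertible L) {U : X.Opens} (hU : (U : Set X).Nonempty) {e : Sec L U}
    (he : CycCov.IsGen L U e) : ∃ (W : X.Opens) (h : W ≤ U), (W : Set X).Nonempty ∧ Gen L W (res L h e) := by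
  obtain ⟨x, hx⟩ := hU
  have : Nonempty U := ⟨⟨x, hx⟩⟩
  obtain ⟨V, hxV, hVU, e', he'⟩ := exists_gen hL U x hx
  have : Nonempty V := ⟨⟨x, hxV⟩⟩
  obtain ⟨v, hv⟩ := he'.bijective.2 (res L hVU e)
  simp only at hv
  have hv0 : v ≠ 0 := by
    rintro rfl
    rw [zero_smul] at hv
    have h1 : e = 0 := res_eq_zero hL hVU ⟨x, hxV⟩ hv.symm
    have h2 : (0 : Γ(X, U)) = 1 := he.1 (by
      simp only
      rw [h1, smul_zero, smul_zero])
    exact one_ne_zero h2.symm
  have hle : X.basicOpen v ≤ V := X.basicOpen_le v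
  refine ⟨X.basicOpen v, hle.trans hVU, ?_, ?_⟩
  · rw [Set.nonempty_iff_ne_empty]
    intro h0
    exact hv0 ((basicOpen_eq_bot_iff v).mp (Opens.ext h0))
  · have h1 : res L (hle.trans hVU) e = resO X hle v • res L hle e' := by
      rw [← Groth.Agent.Sga67.Sec.res_smul, hv, Groth.Agent.Sga67.Sec.res_res]
    rw [h1]
    have h2 : IsUnit (resO X hle v) := RingedSpace.isUnit_res_basicOpen _ v
    exact gen_iff.mpr ((gen_iff.mp (he'.restrict hle)).unit_smul h2)

end K926.IrrSch
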