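import Groth.Agent.CycCov.K926.Base
import Groth.Agent.CycCov.K926.CovSch
import Groth.Agent.CycCov.K926.Branch
import Groth.Agent.LogNCD.K922.Chart
import Groth.Agent.Divis.IdealComap

/-!
# Local data of a cyclic cover of a smooth scheme along a normal crossing divisor
-/

set_option autoImplicit false
universe u

open CategoryTheory CategoryTheory.Limits AlgebraicGeometry Opposite TopologicalSpace
open Groth.Agent.Fdesc.LocGen

namespace K926.Loc

open K926.Str K926.Base K926.Frame K926.Cov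
open Groth.Agent.CurvesC.NodeEt

variable {k : Type u} [Field k] {X : Scheme.{u}}

theorem eq_top_of_nonempty (V : (Spec (CommRingCat.of k)).Opens) (x : Spec (CommRingCat.of k)) (hx : x ∈ V) :
    V = ⊤ := by
  have : Subsingleton (Spec (CommRingCat.of k)) := inferInstanceAs (Subsingleton (PrimeSpectrum k))
  ext y
  simp only [SetLike.mem_coe, Opens.coe_top, Set.mem_univ, iff_true]
  rwa [Subsingleton.elim y x]

/-- Coordinates in the sense of `K922.Coord.IsCoord` are étale coordinates on small affine opens. -/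
theorem exists_isCoord_res {f : X ⟶ Spec (CommRingCat.of k)} {U : X.Opens} {n : ℕ} {v : Fin n → Γ(X, U)}
    (hv : K922.Coord.IsCoord f U v) {x : X} {O : X.Opens} (hO : O ≤ U) (hx : x ∈ O) :
    ∃ (W : X.affineOpens) (h : W.1 ≤ U), W.1 ≤ O ∧ x ∈ W.1 ∧
      IsCoord f W.1 (fun j => ores h (v j)) := by
  obtain ⟨W, h, V, e, hWO, hxW, het⟩ := hv x O hO hx
  refine ⟨W, h, hWO, hxW, ?_⟩
  have hV : V.1 = ⊤ := eq_top_of_nonempty V.1 (f x) (e hxW)
  rw [isCoord_iff]
  obtain ⟨V, hVa⟩ := V
  subst hV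
  exact het

theorem isCoord_ores {f : X ⟶ Spec (CommRingCat.of k)} {U W : X.affineOpens} (h : W.1 ≤ U.1) {n : ℕ}
    {v : Fin n → Γ(X, U.1)} (hv : IsCoord f U.1 v) : IsCoord f W.1 (fun j => ores h (v j)) := by
  have h1 : IsCoord f U.1 (fun j : ULift.{u} (Fin n) => v j.down) := hv.reindex Equiv.ulift
  have h2 := IsCoord.res f U.2 W.2 h _ h1
  exact h2.reindex (Equiv.ulift.symm : Fin n ≃ ULift.{u} (Fin n))

/-- Local data: an affine open with a frame of `L`, étale coordinates adapted to the divisor, and the local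
equation of the section `s`. -/
structure LocData (f : X ⟶ Spec (CommRingCat.of k)) {r : ℕ} (D : Fin r → X.IdealSheafData) (α : Fin r → ℕ)
    {L : X.Modules} {N : ℕ} (s : Coh.structureModule X ⟶ CohB1.tensorPow L N) where
  U : X.affineOpens
  e : Γ(L, U.1)
  he : IsGen e
  n : ℕ
  c : K922.Chart.Chart f D U.1 n
  coord : IsCoord f U.1 c.v
  u : Γ(X, U.1)
  hu : IsUnit u
  hs : sec s U.1 = (u * ∏ j, c.g j ^ α j) • lp e N

variable {L : X.Modules} {N : ℕ} {r : ℕ} {D : Fin r → X.IdealSheafData} {α : Fin r → ℕ}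
  {s : Coh.structureModule X ⟶ CohB1.tensorPow L N}

/-- Restriction of local data. -/
noncomputable def LocData.restrict {f : X ⟶ Spec (CommRingCat.of k)} (d : LocData f D α s)
    (W : X.affineOpens) (h : W.1 ≤ d.U.1) : LocData f D α s where
  U := W
  e := res L h d.e
  he := d.he.res h
  n := d.n
  c := d.c.restrict h
  coord := isCoord_ores h d.coord
  u := ores h d.u
  hu := d.hu.map _
  hs := by
    have h1 := coord_res h d.hs
    rw [h1, map_mul, map_prod]
    refine congrArg (fun q => (ores h d.u * q) • lp (res L h d.e) N) ?_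
    refine Finset.prod_congr rfl fun j _ => ?_
    rw [map_pow]
    rfl

/-- Existence of local data in a chart. -/
theorem exists_locData' (f : X ⟶ Spec (CommRingCat.of k)) [IsIntegral X]
    (hL : PicF.IsInvertible L)
    (hs : CycCov.IsZeroDiv (CohB1.tensorPow L N) s (CycCov.divIdeal D α)) {U₁ : X.Opens} {n : ℕ}
    (c : K922.Chart.Chart f D U₁ n) {x : X} (hxU₁ : x ∈ U₁) :
    ∃ d : LocData f D α s, x ∈ d.U.1 ∧ d.U.1 ≤ U₁ ∧ ∀ j, c.e j = none → d.c.e j = none := by
  obtain ⟨U₂, e, hxU₂, hU₂, hU₂a, he⟩ := Groth.Agent.Ega2.TensGen.exists_affine_gen hL x hxU₁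
  obtain ⟨W, hWU₁, hWU₂, hxW, hcoord⟩ := exists_isCoord_res c.coord hU₂ hxU₂
  obtain ⟨f', hf'⟩ := exists_coord (he.res hWU₂) s
  have : Nonempty W.1 := ⟨⟨x, hxW⟩⟩
  have h1 := span_coord hs W (he.res hWU₂) hf'
  have h2 : (CycCov.divIdeal D α).ideal W = Ideal.span {∏ j, (c.restrict hWU₁).g j ^ α j} := by
    unfold CycCov.divIdeal
    have h3 : ∀ t : Finset (Fin r), (∏ j ∈ t, D j ^ α j).ideal W =
        Ideal.span {∏ j ∈ t, (c.restrict hWU₁).g j ^ α j} := by
      classical
      intro t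
      induction t using Finset.induction_on with
      | empty =>
        rw [Finset.prod_empty, Finset.prod_empty, Ideal.span_singleton_one]
        rfl
      | insert i t hi ih =>
        rw [Finset.prod_insert hi, Finset.prod_insert hi, Scheme.IdealSheafData.ideal_mul, Pi.mul_apply, ih,
          Scheme.IdealSheafData.ideal_pow, Pi.pow_apply, c.ideal i W hWU₁, Ideal.span_singleton_pow,
          Ideal.span_singleton_mul_span_singleton]
        rfl
    exact h3 Finset.univ
  rw [h2, Ideal.span_singleton_eq_span_singleton] at h1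
  obtain ⟨u, hu⟩ := h1.symm
  refine ⟨⟨W, _, he.res hWU₂, n, c.restrict hWU₁, hcoord, u, u.isUnit, ?_⟩, hxW, hWU₁,
    fun j hj => hj⟩
  rw [hf', ← hu, mul_comm]

/-- Normalise a chart at a point: components missing the point get the equation `1`. -/
theorem exists_normalized {S : Scheme.{u}} {f : X ⟶ S} {U : X.Opens} {n : ℕ} (c : K922.Chart.Chart f D U n)
    {x : X} (hx : x ∈ U) :
    ∃ (W : X.Opens) (h : W ≤ U) (c' : K922.Chart.Chart f D W n), x ∈ W ∧
      (∀ j, c'.v j = ores h (c.v j)) ∧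
      (∀ j, (x ∉ (D j).support → c'.e j = none) ∧ (x ∈ (D j).support → c'.e j = c.e j)) ∧
      ∀ j, (x ∉ (D j).support → c'.g j = 1) ∧ (x ∈ (D j).support → c'.g j = ores h (c.g j)) := by
  classical
  let Z : Set X := ⋃ i : {i : Fin r // x ∉ (D i).support}, ((D i).support : Set X)
  have hZ : IsClosed Z := isClosed_iUnion_of_finite fun i => (D i).support.isClosed
  let W : X.Opens := U ⊓ ⟨Zᶜ, hZ.isOpen_compl⟩
  have hxW : x ∈ W := ⟨hx, fun h => by
    obtain ⟨i, hi⟩ := Set.mem_iUnion.mp h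
    exact i.2 hi⟩
  have hWU : W ≤ U := inf_le_left
  refine ⟨W, hWU, ⟨fun j => ores hWU (c.v j), fun j => if x ∈ (D j).support then c.e j else none,
    fun j => if x ∈ (D j).support then ores hWU (c.g j) else 1, c.coord.restrict hWU, ?_, ?_, ?_, ?_⟩, hxW,
    fun j => rfl, fun j => ⟨fun h => if_neg h, fun h => if_pos h⟩,
    fun j => ⟨fun h => if_neg h, fun h => if_pos h⟩⟩
  · intro i j l hi hj
    split_ifs at hi hj
    exact c.inj i j l hi hj
  · intro i hi
    by_cases h : x ∈ (D i).support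
    · rw [if_pos h] at hi ⊢
      rw [c.g_none i hi, map_one]
    · rw [if_neg h]
  · intro i l hi
    by_cases h : x ∈ (D i).support
    · rw [if_pos h] at hi ⊢
      rw [c.g_some i l hi]
    · rw [if_neg h] at hi
      cases hi
  · intro i V hV
    by_cases h : x ∈ (D i).support
    · rw [if_pos h, c.ideal i V (hV.trans hWU)]
      congr 2
      exact (Groth.Agent.Sga67.Sec.resO_resO hWU hV (c.g i)).symm
    · rw [if_neg h, map_one, Ideal.span_singleton_one]
      apply K922.Chart.ideal_eq_top_of_disjoint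
      intro y hy hyi
      exact (hV hy).2 (Set.mem_iUnion.mpr ⟨⟨i, h⟩, hyi⟩)

/-- Local data normalised at a point. -/
theorem exists_locData_normalized (f : X ⟶ Spec (CommRingCat.of k)) [Smooth f] [IsIntegral X]
    (hL : PicF.IsInvertible L) (hD : LogNCD.IsNCD D f)
    (hs : CycCov.IsZeroDiv (CohB1.tensorPow L N) s (CycCov.divIdeal D α)) {O : X.Opens} {x : X} (hx : x ∈ O) :
    ∃ d : LocData f D α s, x ∈ d.U.1 ∧ d.U.1 ≤ O ∧ ∀ j, x ∉ (D j).support → d.c.e j = none := by
  obtain ⟨U₁, n, c, hxU₁, hU₁⟩ := K922.Chart.exists_chart hD hx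
  obtain ⟨W, hWU, c', hxW, -, h2, -⟩ := exists_normalized c hxU₁
  obtain ⟨d, hxd, hd⟩ := exists_locData' f hL hs c' hxW
  exact ⟨d, hxd, hd.1.trans (hWU.trans hU₁), fun j hj => hd.2 j ((h2 j).1 hj)⟩

end K926.Loc
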