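import Groth.Agent.CycCov.K926.LocB

/-!
# Charts of the cover
-/

set_option autoImplicit false
universe u

open CategoryTheory CategoryTheory.Limits AlgebraicGeometry Opposite TopologicalSpace
open Groth.Agent.Fdesc.LocGen

namespace K926.Loc

open K926.Str K926.Base K926.Frame K926.Cov K926.Branch
open Groth.Agent.CurvesC.NodeEt

variable {k : Type u} [Field k] {X Y : Scheme.{u}}

theorem isCoord922 {p : Y ⟶ Spec (CommRingCat.of k)} {V : Y.affineOpens} {n : ℕ} {v : Fin n → Γ(Y, V.1)}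
    (hv : IsCoord p V.1 v) : K922.Coord.IsCoord p V.1 v := by
  rw [isCoord_iff] at hv
  exact K922.Coord.isCoord_of_ring p V ⟨⊤, isAffineOpen_top _⟩ (le_pre p V.1) v hv

/-- A chart of the reduced family from powers of coordinates. -/
noncomputable def mkChart {p : Y ⟶ Spec (CommRingCat.of k)} {r : ℕ} (I : Fin r → Y.IdealSheafData)
    {V : Y.affineOpens} {n : ℕ} (v : Fin n → Γ(Y, V.1)) (hv : IsCoord p V.1 v)
    (e : Fin r → Option (Fin n)) (g : Fin r → Γ(Y, V.1))
    (inj : ∀ i j k, e i = some k → e j = some k → i = j)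
    (g_none : ∀ i, e i = none → g i = 1) (g_some : ∀ i k, e i = some k → g i = v k)
    (ex : Fin r → ℕ) (hex : ∀ j, 0 < ex j) (hI : ∀ j, (I j).ideal V = Ideal.span {g j ^ ex j}) :
    K922.Chart.Chart p (fun j => (I j).radical) V.1 n where
  v := v
  e := e
  g := g
  coord := isCoord922 hv
  inj := inj
  g_none := g_none
  g_some := g_some
  ideal j V' h := by
    rw [Scheme.IdealSheafData.radical_ideal]
    have h1 : (I j).ideal V' = Ideal.span {ores h (g j) ^ ex j} := by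
      rw [← (I j).map_ideal h, hI j, Ideal.map_span, Set.image_singleton, map_pow]
      rfl
    have h2 : (Ideal.span {ores h (g j)}).IsRadical := by
      rcases hj : e j with _ | c
      · rw [g_none j hj, map_one, Ideal.span_singleton_one]
        intro a _
        exact Submodule.mem_top
      · rw [g_some j c hj]
        exact isRadical_coord_one (isCoord_ores h hv) c
    rw [h1, ← Ideal.span_singleton_pow, Ideal.radical_pow _ (hex j).ne', h2.radical]
    rfl

/-- **Charts at all points give a normal crossing divisor.** -/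
theorem isNCD_of_charts {p : Y ⟶ Spec (CommRingCat.of k)} {r : ℕ} {I : Fin r → Y.IdealSheafData}
    (h : ∀ y : Y, ∃ (V : Y.affineOpens) (n : ℕ) (_ : K922.Chart.Chart p I V.1 n), y ∈ V.1) :
    LogNCD.IsNCD I p := by
  intro y _
  obtain ⟨V, n, c, hyV⟩ := h y
  obtain ⟨W₁, hW₁, c₁, hyW₁, -, h2, -⟩ := exists_normalized c hyV
  obtain ⟨W, hWW₁, -, hyW, hcoord⟩ := exists_isCoord_res c₁.coord (le_refl _) hyW₁
  set c₂ := c₁.restrict hWW₁ with hc₂
  have hsome : ∀ i : LogNCD.Through I y, ∃ j, c₂.e i.1 = some j := by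
    intro i
    by_contra hcon
    push Not at hcon
    have h3 : c₂.e i.1 = none := Option.eq_none_iff_forall_ne_some.mpr hcon
    have h4 := c₂.ideal i.1 W le_rfl
    rw [c₂.g_none i.1 h3, map_one, Ideal.span_singleton_one] at h4
    exact K922.Chart.notMem_support_of_ideal_eq_top _ W h4 y hyW i.2
  choose e he using hsome
  have hcu : IsCoord p W.1 (fun j : ULift.{u} (Fin n) => c₂.v j.down) :=
    IsCoord.reindex (v := c₂.v) Equiv.ulift hcoord
  have hsect : ∀ (U : Y.affineOpens) (hU : U.1 ≤ W.1) (b : Γ(Y, W.1)),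
      LogNCD.sectOn W.1 hU (W.1.topIso.inv b) = Groth.Agent.Sga67.Sec.resO Y hU b := by
    intro U hU b
    rw [LogNCD.sectOn_apply]
    exact congrArg (Y.presheaf.map (homOfLE hU).op) (congr($(W.1.topIso.inv_hom_id) b))
  refine ⟨W.1, hyW, n, fun j => W.1.topIso.inv (c₂.v j.down), e, ?_, hcu.homOfVector p W.2, ?_, ?_⟩
  · intro i j hij
    have h3 := he i
    rw [hij] at h3
    exact Subtype.ext (c₂.inj _ _ _ h3 (he j))
  · intro i U hU
    rw [c₂.ideal i.1 U hU, hsect, c₂.g_some i.1 _ (he i)]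
  · intro i hi U hU
    rw [c₂.ideal i U hU, c₂.g_none i ((h2 i).1 hi), map_one, Ideal.span_singleton_one]

section cover

variable {L : X.Modules} {N : ℕ} {r : ℕ} {D : Fin r → X.IdealSheafData} {α : Fin r → ℕ}
  {s : Coh.structureModule X ⟶ CohB1.tensorPow L N} {π : Y ⟶ X}
  {f : X ⟶ Spec (CommRingCat.of k)}

/-- The root in the frame of the local data. -/
noncomputable abbrev LocData.t (d : LocData f D α s) (R : CycCov.Root L N s π) : Γ(Y, π ⁻¹ᵁ d.U.1) :=
  R.t ⟨d.U.1, d.U.2⟩ d.e (isGen_of_isGen d.he)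

/-- The local equation. -/
noncomputable abbrev LocData.f' (d : LocData f D α s) : Γ(X, d.U.1) := d.u * ∏ j, d.c.g j ^ α j

theorem isUnit_natCast (f : X ⟶ Spec (CommRingCat.of k)) {N : ℕ} (hNk : (N : k) ≠ 0) (U : X.Opens) : IsUnit ((N : ℕ) : Γ(X, U)) := by
  have := (isUnit_iff_ne_zero.mpr hNk).map (str f U)
  rwa [map_natCast] at this

theorem isUnit_natCast_of_dvd (f : X ⟶ Spec (CommRingCat.of k)) {N : ℕ} (hNk : (N : k) ≠ 0) {e : ℕ} (he : e ∣ N) (U : X.Opens) :
    IsUnit ((e : ℕ) : Γ(X, U)) := by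
  obtain ⟨m, rfl⟩ := he
  rw [Nat.cast_mul] at hNk
  exact isUnit_natCast f (left_ne_zero_of_mul hNk) U

theorem LocData.isCov [IsIntegral X] (d : LocData f D α s) [hne : Nonempty d.U.1]
    (R : CycCov.Root L N s π) (hR : CycCov.IsCover R) (hN : 0 < N) :
    letI := CovSch.alg π d.U.1
    IsCov N d.f' (d.t R) :=
  CovSch.isCov R hR hN d.U.2 (Set.nonempty_coe_sort.mp hne) d.he d.hs

variable [IsIntegral X] [Smooth f] [IsAlgClosed k]

/-- **Unramified charts.** -/
theorem LocData.unram (d : LocData f D α s) [hne : Nonempty d.U.1]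
    (R : CycCov.Root L N s π) (hR : CycCov.IsCover R) (hN : 0 < N) (hNk : (N : k) ≠ 0)
    {u h : Γ(X, d.U.1)} (hu : IsUnit u) (hh : h ≠ 0) (hf : d.f' = u * h ^ N) :
    letI := CovSch.alg π d.U.1
    ∃ (y : Γ(Y, π ⁻¹ᵁ d.U.1)) (hy : y ^ N = algebraMap Γ(X, d.U.1) _ u),
      algebraMap Γ(X, d.U.1) _ h * y = d.t R ∧ Function.Bijective (toC₁ u N y hy) := by
  letI := CovSch.alg π d.U.1
  have : IsIntegrallyClosed Γ(X, d.U.1) := isIntegrallyClosed f d.U.2 (Set.nonempty_coe_sort.mp hne)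
  obtain ⟨ζ, -, hζ1, hζ2⟩ := exists_zeta (k := k) hN hNk
  obtain ⟨hζ1', hζ2'⟩ := map_zeta (str f d.U.1) hζ1 hζ2
  exact K926.Branch.IsCov.exists_unram (d.isCov R hR hN) hN (isUnit_natCast f hNk _) hζ1' hζ2' hu hh
    (isBase d.coord ∅) hf

/-- **Ramified charts.** -/
theorem LocData.ram (d : LocData f D α s) [hne : Nonempty d.U.1]
    (R : CycCov.Root L N s π) (hR : CycCov.IsCover R) (hN : 0 < N) (hNk : (N : k) ≠ 0)
    {u : Γ(X, d.U.1)} (hu : IsUnit u) {c : Fin d.n} {α₀ e m a i₀ m₀ : ℕ} (hf : d.f' = u * d.c.v c ^ α₀)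
    (ha : Arith N α₀ e m a i₀ m₀) :
    letI := CovSch.alg π d.U.1
    ∃ (y z : Γ(Y, π ⁻¹ᵁ d.U.1)) (hy : y ^ e = algebraMap Γ(X, d.U.1) _ u)
      (hz : z ^ m = y ^ i₀ * algebraMap Γ(X, d.U.1) _ (d.c.v c)),
      algebraMap Γ(X, d.U.1) _ (d.c.v c ^ a) * y = d.t R ^ m ∧
      algebraMap Γ(X, d.U.1) _ (d.c.v c ^ m₀) * z = d.t R ^ i₀ ∧
      Function.Bijective (toC u (d.c.v c) e m i₀ y z hy hz) := by
  letI := CovSch.alg π d.U.1
  have : IsIntegrallyClosed Γ(X, d.U.1) := isIntegrallyClosed f d.U.2 (Set.nonempty_coe_sort.mp hne)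
  obtain ⟨ζ, -, hζ1, hζ2⟩ := exists_zeta (k := k) hN hNk
  obtain ⟨hζ1', hζ2'⟩ := map_zeta (str f d.U.1) hζ1 hζ2
  have hB := isBase (f := f) d.coord {c}
  rw [Finset.prod_singleton] at hB
  exact K926.Branch.IsCov.exists_branch (d.isCov R hR hN) hN (isUnit_natCast f hNk _) hζ1' hζ2' hu
    (coord_ne_zero (Set.nonempty_coe_sort.mp hne) d.coord c) hB hf ha

/-- In an unramified chart the cover is étale. -/
theorem LocData.etale_app (d : LocData f D α s) [hne : Nonempty d.U.1]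
    (R : CycCov.Root L N s π) (hR : CycCov.IsCover R) (hN : 0 < N) (hNk : (N : k) ≠ 0)
    {u h : Γ(X, d.U.1)} (hu : IsUnit u) (hh : h ≠ 0) (hf : d.f' = u * h ^ N) :
    (π.app d.U.1).hom.Etale := by
  letI := CovSch.alg π d.U.1
  obtain ⟨y, hy, -, hbij⟩ := d.unram R hR hN hNk hu hh hf
  have h1 := Groth.Agent.Pi1.H390.T1KumRing.etale_of hN.ne' u hu (isUnit_natCast f hNk _)
  have h2 := etale_comp h1 (RingHom.Etale.of_bijective hbij)
  have h3 : (toC₁ u N y hy).comp (AdjoinRoot.of (Groth.Agent.Pi1.H390.T1KumRing.pol N u)) =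
      (π.app d.U.1).hom := by
    ext b
    exact toC₁_of u N y hy b
  rwa [h3] at h2

/-- The pull-back of the coordinates are coordinates in an unramified chart. -/
theorem LocData.coord_unram (d : LocData f D α s) [hne : Nonempty d.U.1]
    (R : CycCov.Root L N s π) (hR : CycCov.IsCover R) (hN : 0 < N) (hNk : (N : k) ≠ 0)
    {u h : Γ(X, d.U.1)} (hu : IsUnit u) (hh : h ≠ 0) (hf : d.f' = u * h ^ N) :
    IsCoord (π ≫ f) (π ⁻¹ᵁ d.U.1) (fun j => (π.app d.U.1).hom (d.c.v j)) := by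
  have h1 := etale_comp d.coord (d.etale_app R hR hN hNk hu hh hf)
  unfold IsCoord
  convert h1 using 1
  apply MvPolynomial.ringHom_ext
  · intro a
    simp only [MvPolynomial.eval₂Hom_C, RingHom.comp_apply]
    have h2 := str_comp π f d.U.1 (π ⁻¹ᵁ d.U.1) le_rfl
    rw [← Scheme.Hom.app_eq_appLE] at h2
    exact (congr($h2 a)).symm
  · intro j
    simp

end cover

end K926.Loc
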