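import Groth.Agent.CycCov.K926.LogIso
import Groth.Agent.VarietyB.ProjForm

/-!
# Logarithmic forms of a cyclic cover
-/

set_option autoImplicit false
universe u

open CategoryTheory CategoryTheory.Limits AlgebraicGeometry Opposite TopologicalSpace
open Groth.Agent.Sga67.Sec Groth.Agent.Sga67.LocBasis

namespace K926.LogPull

open K892.RankOne K892.Frames K926.Loc K926.Base K922.Coord K922.DSec K922.LogBasis K922.Univ
open K911.LogBC

theorem smooth_of_nhds {Y S : Scheme.{u}} (p : Y ⟶ S) 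
    (h : ∀ y : Y, ∃ V : Y.Opens, y ∈ V ∧ Smooth (V.ι ≫ p)) : Smooth p := by
  have h1 := smooth_ι_of_nhds p (⊤ : Y.Opens) (fun y _ => by
    obtain ⟨V, hyV, hV⟩ := h y
    exact ⟨V, hyV, le_top, hV⟩)
  have h2 : p = Y.topIso.inv ≫ ((⊤ : Y.Opens).ι ≫ p) := by
    rw [← Scheme.topIso_hom, Iso.inv_hom_id_assoc]
  rw [h2]
  infer_instance

variable {k : Type u} [Field k] {X Y : Scheme.{u}} {π : Y ⟶ X}
  {f : X ⟶ Spec (CommRingCat.of k)} {r : ℕ} {D : Fin r → X.IdealSheafData}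
  {L : X.Modules} {N : ℕ} {α : Fin r → ℕ}
  {s : Coh.structureModule X ⟶ CohB1.tensorPow L N}

theorem Fac.coordY {d : LocData f D α s}
    {c' : K922.Chart.Chart (π ≫ f) (fun j => ((D j).comap π).radical) (π ⁻¹ᵁ d.U.1) d.n} (_ : Fac d π c') :
    K922.Coord.IsCoord (π ≫ f) (π ⁻¹ᵁ d.U.1) c'.v := c'.coord

variable [IsIntegral X] [Smooth f] [IsAlgClosed k]

/-- The cover is smooth if the components are disjoint. -/
theorem smooth_cover (hL : PicF.IsInvertible L) (hN : 0 < N) (hNk : (N : k) ≠ 0)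
    (hD : LogNCD.IsNCD D f)
    (hs : CycCov.IsZeroDiv (CohB1.tensorPow L N) s (CycCov.divIdeal D α))
    (R : CycCov.Root L N s π) (hR : CycCov.IsCover R)
    (hdisj : ∀ (x : X) (j j' : Fin r), x ∈ (D j).support → x ∈ (D j').support → j = j') : Smooth (π ≫ f) := by
  have hfin : IsFinite π := hR.1
  apply smooth_of_nhds
  intro y
  obtain ⟨d, hxd, -, -, hd⟩ := exists_data hL hN hNk hD hs R hR (O := ⊤) (x := π y) trivial
    (fun j j' _ _ => hdisj (π y) j j')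
  have hne : Nonempty d.U.1 := ⟨⟨_, hxd⟩⟩
  refine ⟨π ⁻¹ᵁ d.U.1, hxd, ?_⟩
  rcases hd with h | ⟨j₀, c, e, m, a, i₀, m₀, y, z, h⟩
  · exact IsCoord.smooth (d.U.2.preimage π) h.coord
  · exact IsCoord.smooth (d.U.2.preimage π) h.coord

variable {ΩX : X.Modules} {dX : OmegaSh.Der f ΩX} (hdX : OmegaSh.IsUniversal dX)
  {ΩY : Y.Modules} {dY : OmegaSh.Der (π ≫ f) ΩY} (hdY : OmegaSh.IsUniversal dY)
  (ΛX : LogNCD.LogMod dX D) (ΛY : LogNCD.LogMod dY (fun j => ((D j).comap π).radical))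

omit [IsAlgClosed k] in
/-- No torsion for functions of the base. -/
theorem tF_of_isFinLocFree (hL : PicF.IsInvertible L) (hN : 0 < N) 
    (hD : LogNCD.IsNCD D f)
    (hs : CycCov.IsZeroDiv (CohB1.tensorPow L N) s (CycCov.divIdeal D α))
    (R : CycCov.Root L N s π) (hR : CycCov.IsCover R) {F : Y.Modules} (hF : FlatMod.IsFinLocFree F) : TF π F :=
  fun _ _ hh _ hx => K926.RegY.eq_zero_of_smul hF (K926.RegY.isReg_app hL hN hD hs R hR hh) hx

include hdX hdY in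
/-- **`π^* Ω¹_X(log D) = Ω¹_Y(log π^* D)`.** -/
theorem nonempty_iso (hL : PicF.IsInvertible L) (hN : 0 < N) (hNk : (N : k) ≠ 0)
    (hD : LogNCD.IsNCD D f)
    (hs : CycCov.IsZeroDiv (CohB1.tensorPow L N) s (CycCov.divIdeal D α))
    (R : CycCov.Root L N s π) (hR : CycCov.IsCover R)
    (hdisj : ∀ (x : X) (j j' : Fin r), x ∈ (D j).support → x ∈ (D j').support → j = j')
    (hΔ : LogNCD.IsNCD (fun j : Fin r => ((D j).comap π).radical) (π ≫ f)) :
    Nonempty ((Scheme.Modules.pullback π).obj ΛX.L ≅ ΛY.L) := by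
  have hfin : IsFinite π := hR.1
  have hsm : Smooth (π ≫ f) := smooth_cover hL hN hNk hD hs R hR hdisj
  have hTF : TF π ΛY.L := tF_of_isFinLocFree hL hN hD hs R hR (isFinLocFree (affUniv hdY) hΔ ΛY)
  have hfac : ∀ (O : X.Opens) (x : X), x ∈ O → ∃ (d : LocData f D α s)
      (c' : K922.Chart.Chart (π ≫ f) (fun j => ((D j).comap π).radical) (π ⁻¹ᵁ d.U.1) d.n),
      x ∈ d.U.1 ∧ d.U.1 ≤ O ∧ Fac d π c' := by
    intro O x hx
    obtain ⟨d, hxd, hdO, -, hd⟩ := exists_data hL hN hNk hD hs R hR hx (fun j j' _ _ => hdisj x j j')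
    rcases hd with h | ⟨j₀, c, e, m, a, i₀, m₀, y, z, h⟩
    · obtain ⟨c', hc'⟩ := h.exists_fac
      exact ⟨d, c', hxd, hdO, hc'⟩
    · obtain ⟨c', hc'⟩ := h.exists_fac
      exact ⟨d, c', hxd, hdO, hc'⟩
  obtain ⟨ψ, hψ⟩ := exists_hom (hdX := hdX) (dY := dY) (ΛX := ΛX) hTF (by
    intro O x hx
    obtain ⟨d, c', hxd, hdO, hc'⟩ := hfac O x hx
    exact ⟨d.U.1, hxd, hdO, exists_rel d hc'⟩)
  let g : (Scheme.Modules.pullback π).obj ΛX.L ⟶ ΛY.L := Groth.Agent.Krr.H487.LocBasisPull.adj π ψ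
  have hg : IsIso g := by
    apply isIso_of_bijective
    intro y O hy
    obtain ⟨d, c', hxd, -, hc'⟩ := hfac ⊤ (π y) trivial
    obtain ⟨B⟩ := exists_logBasis (affUniv hdX) ΛX d.c
    obtain ⟨B'⟩ := exists_logBasis (U := d.V π) (affUniv hdY) ΛY c'
    refine ⟨O ⊓ π ⁻¹ᵁ d.U.1, inf_le_left, ⟨hy, hxd⟩, ?_⟩
    refine bijective_of_mem_range g (V := π ⁻¹ᵁ d.U.1)
      (Groth.Agent.Krr.H487.LocBasisPull.isLocBasis_pbS π B.isLocBasis) (c := B'.b) B'.isLocBasis ?_ inf_le_right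
    intro l
    have h1 := span_range (hdX := hdX) (affUniv hdY) hTF d hc' hψ (LinearMap.range (appS g (π ⁻¹ᵁ d.U.1))) (by
      intro x
      exact ⟨_, Groth.Agent.Krr.H487.LocBasisPull.adj_pbS π ψ x⟩)
    rw [h1]
    exact Submodule.mem_top
  exact ⟨asIso g⟩

end K926.LogPull
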