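import Groth.Agent.CycCov.K926.LogPull

/-!
# Pull-back of logarithmic forms to the cover: local computation
-/

set_option autoImplicit false
universe u

open CategoryTheory CategoryTheory.Limits AlgebraicGeometry Opposite TopologicalSpace
open Groth.Agent.Sga67.Sec Groth.Agent.Sga67.LocBasis

namespace K926.LogPull

open K892.RankOne K892.Frames K926.Loc K926.Base K922.Coord K922.DSec K922.LogBasis K922.Univ
open K911.LogBC

theorem dS_pow {X S : Scheme.{u}} {f : X ⟶ S} {Ω : X.Modules} (d : OmegaSh.Der f Ω) (U : X.Opens) (a : Γ(X, U)) (n : ℕ) :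
    dS d U (a ^ (n + 1)) = ((n + 1 : ℕ) * a ^ n) • dS d U a := by
  induction n with
  | zero => simp
  | succ n ih =>
    rw [pow_succ, dS_mul, ih, smul_smul, ← add_smul]
    congr 1
    push_cast
    ring

/-- The derivative of `w * g ^ (n + 1)`. -/
theorem dS_mul_pow {X S : Scheme.{u}} {f : X ⟶ S} {Ω : X.Modules} (d : OmegaSh.Der f Ω) (U : X.Opens) (w g : Γ(X, U)) (n : ℕ) :
    dS d U (w * g ^ (n + 1)) = (w * ((n + 1 : ℕ) * g ^ n)) • dS d U g + g ^ (n + 1) • dS d U w := by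
  rw [dS_mul, dS_pow, smul_smul]

variable {k : Type u} [Field k] {X Y : Scheme.{u}} {π : Y ⟶ X}
  {f : X ⟶ Spec (CommRingCat.of k)} {r : ℕ} {D : Fin r → X.IdealSheafData}
  {ΩX : X.Modules} {dX : OmegaSh.Der f ΩX} {hdX : OmegaSh.IsUniversal dX}
  {ΩY : Y.Modules} {dY : OmegaSh.Der (π ≫ f) ΩY}
  {L : X.Modules} {N : ℕ} {α : Fin r → ℕ}
  {s : Coh.structureModule X ⟶ CohB1.tensorPow L N}
  {ΛX : LogNCD.LogMod dX D} {ΛY : LogNCD.LogMod dY (fun j => ((D j).comap π).radical)}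

/-- Log differential of a pulled-back equation. -/
theorem exists_dlog [IsAffineHom π] (d : LocData f D α s)
    {c' : K922.Chart.Chart (π ≫ f) (fun j => ((D j).comap π).radical) (π ⁻¹ᵁ d.U.1) d.n} (hc : Fac d π c')
    {dl' : Fin r → Sec ΛY.L (π ⁻¹ᵁ d.U.1)}
    (hdl' : ∀ j, c'.g j • dl' j = appS ΛY.ι _ (dS dY _ (c'.g j))) (j : Fin r) :
    ∃ (w w' : Γ(Y, π ⁻¹ᵁ d.U.1)) (b : Γ(X, d.U.1)) (e m : ℕ), w' * w = 1 ∧ (e : k) ≠ 0 ∧ (m : k) ≠ 0 ∧
      w ^ e = (π.app d.U.1).hom b ∧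
      (π.app d.U.1).hom (d.c.g j) • ((m : Γ(Y, π ⁻¹ᵁ d.U.1)) • dl' j + w' • appS ΛY.ι _ (dS dY _ w)) =
        appS ΛY.ι _ (dS dY _ ((π.app d.U.1).hom (d.c.g j))) := by
  obtain ⟨w, b, e, m, hw, he, hm, hwe, hg⟩ := hc.fac j
  obtain ⟨w', hw'⟩ := hw.exists_left_inv
  refine ⟨w, w', b, e, m, hw', he, hm, hwe, ?_⟩
  obtain ⟨n, rfl⟩ : ∃ n, m = n + 1 := ⟨m - 1, by
    have : m ≠ 0 := by
      rintro rfl
      simp at hm
    omega⟩
  rw [hg, dS_mul_pow, map_add, map_smul, map_smul, ← hdl', smul_add, smul_smul, smul_smul, smul_smul]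
  congr 1
  · congr 1
    rw [pow_succ]
    ring
  · congr 1
    calc w * c'.g j ^ (n + 1) * w' = (w' * w) * c'.g j ^ (n + 1) := by ring
      _ = _ := by rw [hw', one_mul]

theorem chart_ideal {S : Scheme.{u}} {f : X ⟶ S} {U : X.affineOpens} {n : ℕ} {D : Fin r → X.IdealSheafData}
    (c : K922.Chart.Chart f D U.1 n) (j : Fin r) : (D j).ideal U = Ideal.span {c.g j} := by
  have := c.ideal j U le_rfl
  rwa [resO_self] at this

/-- The rule on the preimage of a chart. -/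
theorem ruleY [IsAffineHom π] (ΛY : LogNCD.LogMod dY (fun j => ((D j).comap π).radical)) (d : LocData f D α s)
    (c' : K922.Chart.Chart (π ≫ f) (fun j => ((D j).comap π).radical) (π ⁻¹ᵁ d.U.1) d.n) :
    ∃ dl' : Fin r → Sec ΛY.L (π ⁻¹ᵁ d.U.1),
      (∀ i, c'.g i • dl' i = appS ΛY.ι (π ⁻¹ᵁ d.U.1) (dS dY (π ⁻¹ᵁ d.U.1) (c'.g i))) ∧
      Submodule.span Γ(Y, π ⁻¹ᵁ d.U.1) (Set.range (appS ΛY.ι (π ⁻¹ᵁ d.U.1)) ∪ Set.range dl') = ⊤ := by
  obtain ⟨-, dl', h1', h2', -⟩ := rule ΛY (d.V π) c'.g (chart_ideal (U := d.V π) c')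
  exact ⟨dl', h1', h2'⟩

theorem exists_rel [IsAffineHom π] (d : LocData f D α s)
    {c' : K922.Chart.Chart (π ≫ f) (fun j => ((D j).comap π).radical) (π ⁻¹ᵁ d.U.1) d.n} (hc : Fac d π c')
    (x : Sec ΛX.L d.U.1) : ∃ y, Rel hdX dY ΛX ΛY d.U.1 x y := by
  obtain ⟨dl', h1', -⟩ := ruleY ΛY d c'
  obtain ⟨-, dl, h1, h2, -⟩ := rule ΛX d.U d.c.g (chart_ideal d.c)
  have hx : x ∈ Submodule.span Γ(X, d.U.1) (Set.range (appS ΛX.ι d.U.1) ∪ Set.range dl) := by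
    rw [h2]; trivial
  induction hx using Submodule.span_induction with
  | mem x hx =>
    rcases hx with ⟨ω, rfl⟩ | ⟨i, rfl⟩
    · exact ⟨_, rel_ι ω⟩
    · obtain ⟨w, w', b, e, m, hw', he, hm, hwe, hy⟩ := exists_dlog d hc h1' i
      refine ⟨(m : Γ(Y, π ⁻¹ᵁ d.U.1)) • dl' i + w' • appS ΛY.ι _ (dS dY _ w), d.c.g i, dS dX _ (d.c.g i),
        d.c.isReg_g i, h1 i, ?_⟩
      rw [hy, pbF_d]
  | zero => exact ⟨0, 1, 0, isReg_one _, by rw [smul_zero, map_zero], by rw [smul_zero, map_zero, map_zero]⟩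
  | add x y _ _ hx hy =>
    obtain ⟨x', hx'⟩ := hx
    obtain ⟨y', hy'⟩ := hy
    exact ⟨_, hx'.add hy'⟩
  | smul a x _ hx =>
    obtain ⟨x', hx'⟩ := hx
    exact ⟨_, hx'.smul a⟩

/-- The pull-back of log forms generates the log forms of the cover. -/
theorem span_range [IsAffineHom π] (hY : AffUniv dY) (hTF : TF π ΛY.L) (d : LocData f D α s)
    {c' : K922.Chart.Chart (π ≫ f) (fun j => ((D j).comap π).radical) (π ⁻¹ᵁ d.U.1) d.n} (hc : Fac d π c')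
    {ψ : ΛX.L ⟶ (Scheme.Modules.pushforward π).obj ΛY.L}
    (hψ : ∀ (U : X.Opens) (ω : Sec ΩX U),
      (show Sec ΛY.L (π ⁻¹ᵁ U) from appS ψ U (appS ΛX.ι U ω)) = appS ΛY.ι (π ⁻¹ᵁ U) (pbF hdX dY U ω))
    (S : Submodule Γ(Y, π ⁻¹ᵁ d.U.1) (Sec ΛY.L (π ⁻¹ᵁ d.U.1)))
    (hS : ∀ x : Sec ΛX.L d.U.1, (show Sec ΛY.L (π ⁻¹ᵁ d.U.1) from appS ψ d.U.1 x) ∈ S) : S = ⊤ := by
  obtain ⟨dl', h1', h2'⟩ := ruleY ΛY d c'
  obtain ⟨-, dl, h1, h2, -⟩ := rule ΛX d.U d.c.g (chart_ideal d.c)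
  have hb : ∀ b : Γ(X, d.U.1), appS ΛY.ι (π ⁻¹ᵁ d.U.1) (dS dY _ ((π.app d.U.1).hom b)) ∈ S := by
    intro b
    have h3 := hS (appS ΛX.ι _ (dS dX _ b))
    rw [hψ, pbF_d] at h3
    exact h3
  have hw : ∀ (w w' : Γ(Y, π ⁻¹ᵁ d.U.1)) (b : Γ(X, d.U.1)) (e : ℕ), w' * w = 1 → (e : k) ≠ 0 →
      w ^ e = (π.app d.U.1).hom b → appS ΛY.ι (π ⁻¹ᵁ d.U.1) (dS dY _ w) ∈ S := by
    intro w w' b e hw' he hwe
    obtain ⟨n, rfl⟩ : ∃ n, e = n + 1 := ⟨e - 1, by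
      have : e ≠ 0 := by
        rintro rfl
        simp at he
      omega⟩
    obtain ⟨q, hq⟩ := (isUnit_natCast (π ≫ f) he (π ⁻¹ᵁ d.U.1)).exists_left_inv
    have h3 := hb b
    rw [← hwe, dS_pow, map_smul] at h3
    have h4 := S.smul_mem (q * w' ^ n) h3
    rw [smul_smul] at h4
    have h5 : q * w' ^ n * ((n + 1 : ℕ) * w ^ n) = 1 := by
      calc q * w' ^ n * ((n + 1 : ℕ) * w ^ n) = (q * ((n + 1 : ℕ) : Γ(Y, π ⁻¹ᵁ d.U.1))) * (w' * w) ^ n := by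
            rw [mul_pow]; ring
        _ = 1 := by rw [hq, hw', one_pow, mul_one]
    rwa [h5, _root_.one_smul] at h4
  have hdl : ∀ j, dl' j ∈ S := by
    intro j
    obtain ⟨w, w', b, e, m, hw', he, hm, hwe, hy⟩ := exists_dlog d hc h1' j
    have h3 : (show Sec ΛY.L (π ⁻¹ᵁ d.U.1) from appS ψ d.U.1 (dl j)) =
        (m : Γ(Y, π ⁻¹ᵁ d.U.1)) • dl' j + w' • appS ΛY.ι _ (dS dY _ w) := by
      rw [← sub_eq_zero]
      apply hTF d.U.1 (d.c.g j) (d.c.isReg_g j)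
      rw [smul_sub, hy, sub_eq_zero, ← pbF_d hdX, ← hψ, ← h1, map_smul]
      rfl
    have h4 := hS (dl j)
    rw [h3] at h4
    have h5 := S.sub_mem h4 (S.smul_mem w' (hw w w' b e hw' he hwe))
    rw [add_sub_cancel_right] at h5
    obtain ⟨q, hq⟩ := (isUnit_natCast (π ≫ f) hm (π ⁻¹ᵁ d.U.1)).exists_left_inv
    have h6 := S.smul_mem q h5
    rwa [smul_smul, hq, _root_.one_smul] at h6
  have hv : ∀ l, appS ΛY.ι (π ⁻¹ᵁ d.U.1) (dS dY _ (c'.v l)) ∈ S := by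
    intro l
    rcases hc.v l with h3 | ⟨j, h3⟩
    · rw [h3]
      exact hb _
    · rw [← h3]
      have h4 := S.smul_mem (c'.g j) (hdl j)
      rw [h1' j] at h4
      exact h4
  rw [eq_top_iff]
  rw [← h2', Submodule.span_le]
  rintro _ (⟨ω, rfl⟩ | ⟨i, rfl⟩)
  · obtain ⟨a, rfl⟩ := ((c'.coord.isLocBasis hY) _ le_rfl).2 ω
    rw [comb_apply, map_sum]
    refine S.sum_mem fun l _ => ?_
    rw [map_smul, res_self]
    exact S.smul_mem _ (hv l)
  · exact hdl i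

/-- A morphism between modules with local bases of the same size is bijective if a basis is in the image. -/
theorem bijective_of_mem_range {M F : Y.Modules} (g : M ⟶ F) {V : Y.Opens} {n : ℕ} {b : Fin n → Sec M V}
    (hb : IsLocBasis b) {c : Fin n → Sec F V} (hc : IsLocBasis c)
    (H : ∀ l, c l ∈ LinearMap.range (appS g V)) {W : Y.Opens} (hW : W ≤ V) : Function.Bijective (appS g W) := by
  classical
  have hsurj : Function.Surjective (appS g W) := by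
    intro x
    obtain ⟨a, rfl⟩ := (hc W hW).2 x
    choose y hy using H
    refine ⟨∑ l, a l • res M hW (y l), ?_⟩
    rw [map_sum, comb_apply]
    refine Finset.sum_congr rfl fun l _ => ?_
    rw [map_smul, appS_res, hy]
  refine ⟨?_, hsurj⟩
  let eb := LinearEquiv.ofBijective (comb b hW) (hb W hW)
  let ec := LinearEquiv.ofBijective (comb c hW) (hc W hW)
  let φ : (Fin n → Γ(Y, W)) →ₗ[Γ(Y, W)] (Fin n → Γ(Y, W)) :=
    ec.symm.toLinearMap ∘ₗ (appS g W) ∘ₗ eb.toLinearMap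
  have hφ : Function.Surjective φ := ec.symm.surjective.comp (hsurj.comp eb.surjective)
  have hφi := OrzechProperty.injective_of_surjective_endomorphism φ hφ
  intro x y hxy
  have h1 : φ (eb.symm x) = φ (eb.symm y) := by
    simp only [φ, LinearMap.comp_apply, LinearEquiv.coe_coe, LinearEquiv.apply_symm_apply, hxy]
  exact eb.symm.injective (hφi h1)

end K926.LogPull
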