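import Groth.Agent.CycCov.K926.RegY
import Groth.Agent.CycCov.K926.DataFac
import Groth.Agent.Vanish.K911.LogModBC

/-!
# Pull-back of logarithmic forms to the cover
-/

set_option autoImplicit false
universe u

open CategoryTheory CategoryTheory.Limits AlgebraicGeometry Opposite TopologicalSpace
open Groth.Agent.Sga67.Sec Groth.Agent.Sga67.LocBasis

namespace K926.LogPull

open K892.RankOne K892.Frames K926.Loc K926.Base K922.Coord K922.DSec K922.LogBasis K922.Univ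
open K911.LogBC

variable {k : Type u} [Field k] {X Y : Scheme.{u}} {π : Y ⟶ X}
  {f : X ⟶ Spec (CommRingCat.of k)} {r : ℕ} {D : Fin r → X.IdealSheafData}
  {D' : Fin r → Y.IdealSheafData}
  {ΩX : X.Modules} {dX : OmegaSh.Der f ΩX} (hdX : OmegaSh.IsUniversal dX)
  {ΩY : Y.Modules} (dY : OmegaSh.Der (π ≫ f) ΩY)

/-- The pull-back of forms `Ω_X ⟶ π_* Ω_Y`. -/
noncomputable abbrev pb : ΩX ⟶ (Scheme.Modules.pushforward π).obj ΩY :=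
  tau (Category.comp_id (π ≫ f)) hdX dY

/-- The pull-back of forms on sections. -/
noncomputable abbrev pbF (U : X.Opens) : Sec ΩX U →+ Sec ΩY (π ⁻¹ᵁ U) :=
  tauS (Category.comp_id (π ≫ f)) hdX dY U

theorem pbF_smul (U : X.Opens) (a : Γ(X, U)) (s : Sec ΩX U) :
    pbF hdX dY U (a • s) = (π.app U).hom a • pbF hdX dY U s := tauS_smul _ _ _ _ _ _

theorem pbF_d (U : X.Opens) (a : Γ(X, U)) :
    pbF hdX dY U (dS dX U a) = dS dY (π ⁻¹ᵁ U) ((π.app U).hom a) := tauS_d _ _ _ _ _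

theorem pbF_res {U V : X.Opens} (h : V ≤ U) (s : Sec ΩX U) :
    pbF hdX dY V (res ΩX h s) = res ΩY (π.preimage_mono h) (pbF hdX dY U s) := tauS_res _ _ _ _ _ _

/-- Everything in `π♯`-regular functions acts without torsion. -/
def TF (π : Y ⟶ X) (F : Y.Modules) : Prop :=
  ∀ (U : X.Opens) (h : Γ(X, U)), IsReg U h → ∀ x : Sec F (π ⁻¹ᵁ U), (π.app U).hom h • x = 0 → x = 0

variable (ΛX : LogNCD.LogMod dX D) (ΛY : LogNCD.LogMod dY D')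

/-- `y` is the pull-back of the log form `x`. -/
def Rel (U : X.Opens) (x : Sec ΛX.L U) (y : Sec ΛY.L (π ⁻¹ᵁ U)) : Prop :=
  ∃ (h : Γ(X, U)) (ω : Sec ΩX U), IsReg U h ∧ h • x = appS ΛX.ι U ω ∧
    (π.app U).hom h • y = appS ΛY.ι (π ⁻¹ᵁ U) (pbF hdX dY U ω)

variable {hdX dY ΛX ΛY}

theorem Rel.unique (hTF : TF π ΛY.L) {U : X.Opens} {x : Sec ΛX.L U} {y y' : Sec ΛY.L (π ⁻¹ᵁ U)}
    (H : Rel hdX dY ΛX ΛY U x y) (H' : Rel hdX dY ΛX ΛY U x y') : y = y' := by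
  obtain ⟨h, ω, hh, h1, h2⟩ := H
  obtain ⟨h', ω', hh', h1', h2'⟩ := H'
  have e1 : h' • ω = h • ω' := by
    apply ι_injective ΛX U
    rw [map_smul, map_smul, ← h1, ← h1', smul_comm]
  have e2 := congrArg (pbF hdX dY U) e1
  rw [pbF_smul, pbF_smul] at e2
  have e3 := congrArg (appS ΛY.ι (π ⁻¹ᵁ U)) e2
  rw [map_smul, map_smul, ← h2, ← h2'] at e3
  rw [← sub_eq_zero]
  apply hTF U (h * h') (hh.mul hh')
  rw [map_mul, mul_smul, smul_sub, smul_sub, sub_eq_zero, ← e3, smul_comm]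

theorem Rel.restrict {U V : X.Opens} (h : V ≤ U) 
    {x : Sec ΛX.L U} {y : Sec ΛY.L (π ⁻¹ᵁ U)} (H : Rel hdX dY ΛX ΛY U x y) :
    Rel hdX dY ΛX ΛY V (res ΛX.L h x) (res ΛY.L (π.preimage_mono h) y) := by
  obtain ⟨g, ω, hg, h1, h2⟩ := H
  refine ⟨resO X h g, res ΩX h ω, hg.restrict h, ?_, ?_⟩
  · rw [← res_smul, h1, appS_res]
  · have h3 : (π.app V).hom (resO X h g) = resO Y (π.preimage_mono h) ((π.app U).hom g) :=
      (K926.EigMap.app_resO π h g).symm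
    rw [h3, ← res_smul, h2, pbF_res, appS_res]

theorem Rel.add {U : X.Opens} {x₁ x₂ : Sec ΛX.L U}
    {y₁ y₂ : Sec ΛY.L (π ⁻¹ᵁ U)} (H₁ : Rel hdX dY ΛX ΛY U x₁ y₁)
    (H₂ : Rel hdX dY ΛX ΛY U x₂ y₂) : Rel hdX dY ΛX ΛY U (x₁ + x₂) (y₁ + y₂) := by
  obtain ⟨g₁, ω₁, hg₁, a₁, b₁⟩ := H₁
  obtain ⟨g₂, ω₂, hg₂, a₂, b₂⟩ := H₂
  refine ⟨g₁ * g₂, g₂ • ω₁ + g₁ • ω₂, hg₁.mul hg₂, ?_, ?_⟩
  · rw [smul_add, map_add, map_smul, map_smul, ← a₁, ← a₂, smul_smul, smul_smul, mul_comm g₂ g₁]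
  · rw [smul_add, map_add, map_add, pbF_smul, pbF_smul, map_smul, map_smul, ← b₁, ← b₂, smul_smul, smul_smul,
      map_mul, mul_comm ((π.app U).hom g₂)]

theorem Rel.smul {U : X.Opens} (a : Γ(X, U)) {x : Sec ΛX.L U}
    {y : Sec ΛY.L (π ⁻¹ᵁ U)} (H : Rel hdX dY ΛX ΛY U x y) :
    Rel hdX dY ΛX ΛY U (a • x) ((π.app U).hom a • y) := by
  obtain ⟨g, ω, hg, a₁, b₁⟩ := H
  refine ⟨g, a • ω, hg, ?_, ?_⟩
  · rw [smul_comm, a₁, map_smul]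
  · rw [smul_comm, b₁, pbF_smul, map_smul]

theorem rel_ι {U : X.Opens} (ω : Sec ΩX U) :
    Rel hdX dY ΛX ΛY U (appS ΛX.ι U ω) (appS ΛY.ι (π ⁻¹ᵁ U) (pbF hdX dY U ω)) :=
  ⟨1, ω, isReg_one U, by rw [_root_.one_smul], by rw [map_one, _root_.one_smul]⟩

/-- Existence of the pull-back from local existence. -/
theorem exists_hom (hTF : TF π ΛY.L)
    (H : ∀ (O : X.Opens) (x : X), x ∈ O → ∃ U : X.Opens, x ∈ U ∧ U ≤ O ∧
      ∀ x : Sec ΛX.L U, ∃ y, Rel hdX dY ΛX ΛY U x y) :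
    ∃ ψ : ΛX.L ⟶ (Scheme.Modules.pushforward π).obj ΛY.L, ∀ (U : X.Opens) (ω : Sec ΩX U),
      (show Sec ΛY.L (π ⁻¹ᵁ U) from appS ψ U (appS ΛX.ι U ω)) = appS ΛY.ι (π ⁻¹ᵁ U) (pbF hdX dY U ω) := by
  let I := {U : X.Opens // ∀ x : Sec ΛX.L U, ∃ y, Rel hdX dY ΛX ΛY U x y}
  let B : I → X.Opens := fun U => U.1
  have hB : Opens.IsBasis (Set.range B) := by
    rw [Opens.isBasis_iff_nbhd]
    intro O x hx
    obtain ⟨U, hxU, hUO, h1⟩ := H O x hx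
    exact ⟨U, ⟨⟨U, h1⟩, rfl⟩, hxU, hUO⟩
  choose Z hZ using fun (U : I) (x : Sec ΛX.L U.1) => U.2 x
  obtain ⟨ψ, hψ⟩ := exists_hom_of_basis' hB ΛX.L ((Scheme.Modules.pushforward π).obj ΛY.L)
    (fun U =>
      { toFun := fun x => Z U x
        map_add' := fun x y => (hZ U (x + y)).unique hTF ((hZ U x).add (hZ U y))
        map_smul' := fun a x => (hZ U (a • x)).unique hTF ((hZ U x).smul a) })
    (by
      intro U V h x
      exact (hZ V _).unique hTF ((hZ U x).restrict h))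
  refine ⟨ψ, fun U ω => ?_⟩
  apply Groth.Agent.Sga67.Sec.eq_of_locally
  intro y hy
  obtain ⟨V, hxV, hVU, h1⟩ := H U (π y) hy
  refine ⟨π ⁻¹ᵁ V, π.preimage_mono hVU, hxV, ?_⟩
  have h2 : (show Sec ΛY.L (π ⁻¹ᵁ V) from appS ψ V (res ΛX.L hVU (appS ΛX.ι U ω))) =
      Z ⟨V, h1⟩ (res ΛX.L hVU (appS ΛX.ι U ω)) := hψ ⟨V, h1⟩ _
  have h3 : res ΛY.L (π.preimage_mono hVU) (show Sec ΛY.L (π ⁻¹ᵁ U) from appS ψ U (appS ΛX.ι U ω)) =
      (show Sec ΛY.L (π ⁻¹ᵁ V) from appS ψ V (res ΛX.L hVU (appS ΛX.ι U ω))) :=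
    (appS_res ψ hVU _).symm
  rw [h3, h2]
  refine (hZ ⟨V, h1⟩ _).unique hTF ?_
  rw [← appS_res, ← appS_res, ← pbF_res]
  exact rel_ι _

end K926.LogPull
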