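import Groth.Agent.CycCov.K926.Branch

/-!
# Multiplication by the branch coordinate on the eigenbasis
-/

set_option autoImplicit false
universe u

open Finset

namespace K926.Branch

variable {N α e m a i₀ m₀ : ℕ}

theorem Arith.dvd_iff (ha : Arith N α e m a i₀ m₀) (i : ℕ) : N ∣ ((i + i₀) % N) * α ↔ m ∣ i * a + 1 := by
  have h1 : N ∣ ((i + i₀) % N) * α ↔ N ∣ (i + i₀) * α := by
    constructor
    · intro h
      have h2 := Nat.mod_add_div (i + i₀) N
      rw [← h2, add_mul, mul_assoc]
      exact dvd_add h (dvd_mul_right _ _)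
    · intro h
      have h2 := Nat.mod_add_div (i + i₀) N
      rw [← h2, add_mul, mul_assoc] at h
      exact (Nat.dvd_add_left (dvd_mul_right _ _)).mp h
  have h2 : (i + i₀) * a = i * a + 1 + m₀ * m := by rw [add_mul, ha.h0]; ring
  rw [h1, ha.hα, ha.hN, ← mul_assoc, Nat.mul_dvd_mul_iff_right ha.he, h2]
  exact (Nat.dvd_add_left (dvd_mul_left _ _))

theorem Arith.div_eq (ha : Arith N α e m a i₀ m₀) (i : ℕ) :
    m₀ + i * α / N + (if N ∣ ((i + i₀) % N) * α then 1 else 0) = (i + i₀) / N * α + ((i + i₀) % N) * α / N := by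
  have hm0 : 0 < m := by have := ha.hm; omega
  have hN0 : 0 < N := by rw [ha.hN]; exact Nat.mul_pos hm0 ha.he
  have hdiv : ∀ x, x * α / N = x * a / m := by
    intro x
    rw [ha.hα, ha.hN, ← mul_assoc, Nat.mul_div_mul_right _ _ ha.he]
  have h1 : (i + i₀) / N * α + ((i + i₀) % N) * α / N = (i + i₀) * α / N := by
    conv_rhs => rw [← Nat.mod_add_div (i + i₀) N, add_mul, mul_assoc, Nat.add_mul_div_left _ _ hN0]
    rw [add_comm]
  have h2 : (i + i₀) * a = i * a + 1 + m₀ * m := by rw [add_mul, ha.h0]; ring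
  rw [h1, hdiv, hdiv, h2, Nat.add_mul_div_right _ _ hm0, Nat.succ_div]
  simp only [ha.dvd_iff i]
  omega

variable {B C : Type u} [CommRing B] [CommRing C] [Algebra B C]

/-- **Multiplication by `z`.** -/
theorem z_mul_w [IsDomain B] {w : ℕ → C} {g u : B} (hg : g ≠ 0)
    (tors : ∀ (b : B) (c : C), b ≠ 0 → algebraMap B C b * c = 0 → c = 0)
    {t z : C} (ht : t ^ N = algebraMap B C (u * g ^ α))
    (hw : ∀ i < N, algebraMap B C (g ^ (i * α / N)) * w i = t ^ i)
    (ha : Arith N α e m a i₀ m₀) (hz : algebraMap B C (g ^ m₀) * z = t ^ i₀) {i : ℕ} (hi : i < N) :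
    z * w i = algebraMap B C (u ^ ((i + i₀) / N) * (if N ∣ ((i + i₀) % N) * α then g else 1)) * w ((i + i₀) % N) := by
  have hN0 : 0 < N := by omega
  rw [← sub_eq_zero]
  apply tors (g ^ (m₀ + i * α / N)) _ (pow_ne_zero _ hg)
  rw [mul_sub, sub_eq_zero]
  have h1 : algebraMap B C (g ^ (m₀ + i * α / N)) * (z * w i) = t ^ (i + i₀) := by
    rw [pow_add, map_mul, pow_add t, ← hz, ← hw i hi]
    ring
  have h2 := hw _ (Nat.mod_lt (i + i₀) hN0)
  have h3 : g ^ (m₀ + i * α / N) * (if N ∣ ((i + i₀) % N) * α then g else 1) =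
      g ^ ((i + i₀) / N * α) * g ^ (((i + i₀) % N) * α / N) := by
    rw [← pow_add, ← ha.div_eq i]
    split_ifs with h
    · rw [pow_succ]
    · rw [mul_one, add_zero]
  calc algebraMap B C (g ^ (m₀ + i * α / N)) * (z * w i) = t ^ (i + i₀) := h1
    _ = t ^ (N * ((i + i₀) / N)) * t ^ ((i + i₀) % N) := by rw [← pow_add, Nat.div_add_mod]
    _ = algebraMap B C (u ^ ((i + i₀) / N) * (g ^ ((i + i₀) / N * α) * g ^ (((i + i₀) % N) * α / N))) *
        w ((i + i₀) % N) := by
      rw [pow_mul, ht, ← h2, mul_comm ((i + i₀) / N) α]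
      simp only [map_mul, map_pow, mul_pow, pow_mul]
      ring
    _ = algebraMap B C (u ^ ((i + i₀) / N) *
        (g ^ (m₀ + i * α / N) * (if N ∣ ((i + i₀) % N) * α then g else 1))) * w ((i + i₀) % N) := by
      rw [h3]
    _ = _ := by
      rw [map_mul, map_mul, map_mul]
      ring

/-- Eigenbasis as a bijection. -/
theorem bijective_of_eigenbasis {w : ℕ → C}
    (hind : ∀ a : ℕ → B, ∑ i ∈ range N, algebraMap B C (a i) * w i = 0 → ∀ i < N, a i = 0)
    (hspan : ∀ c : C, ∃ a : ℕ → B, c = ∑ i ∈ range N, algebraMap B C (a i) * w i) :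
    Function.Bijective (fun a : Fin N → B => ∑ i, algebraMap B C (a i) * w i) := by
  constructor
  · intro a b hab
    have h1 : ∑ i ∈ range N, algebraMap B C ((fun l => if h : l < N then a ⟨l, h⟩ - b ⟨l, h⟩ else 0) i) * w i = 0 := by
      rw [Finset.sum_range]
      simp only [Fin.is_lt, dite_true, Fin.eta, map_sub, sub_mul, Finset.sum_sub_distrib]
      exact sub_eq_zero.mpr hab
    funext i
    have h2 := hind _ h1 i i.2
    simp only [Fin.is_lt, dite_true, Fin.eta] at h2
    exact sub_eq_zero.mp h2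
  · intro c
    obtain ⟨a, rfl⟩ := hspan c
    exact ⟨fun i => a i, (Finset.sum_range (fun i => algebraMap B C (a i) * w i)).symm⟩

/-- **The shifted eigenbasis.** -/
theorem exists_shift [IsDomain B] {w : ℕ → C} {g u : B} (hg : g ≠ 0) (hu : IsUnit u)
    (tors : ∀ (b : B) (c : C), b ≠ 0 → algebraMap B C b * c = 0 → c = 0)
    {t z q : C} (ht : t ^ N = algebraMap B C (u * g ^ α))
    (hw : ∀ i < N, algebraMap B C (g ^ (i * α / N)) * w i = t ^ i)
    (ha : Arith N α e m a i₀ m₀) (hz : algebraMap B C (g ^ m₀) * z = t ^ i₀)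
    (hbij : Function.Bijective (fun a : Fin N → B => ∑ i, algebraMap B C (a i) * w i))
    (hq : q * z = algebraMap B C g) :
    ∃ x : Fin N → C, (∀ i : Fin N, algebraMap B C (if N ∣ i * α then 1 else g) * x i = w i * q) ∧
      Function.Bijective (fun a : Fin N → B => ∑ i, algebraMap B C (a i) * x i) := by
  have hm0 : 0 < m := by have := ha.hm; omega
  have hN0 : 0 < N := by rw [ha.hN]; exact Nat.mul_pos hm0 ha.he
  have hi₀ : i₀ < N := ha.hi.trans_le (by rw [ha.hN]; exact Nat.le_mul_of_pos_right _ ha.he)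
  have : NeZero N := ⟨hN0.ne'⟩
  obtain ⟨u', hu'⟩ := hu.exists_left_inv
  have hzreg : ∀ c : C, z * c = 0 → c = 0 := by
    intro c hc
    apply tors g c hg
    rw [← hq, mul_assoc, hc, mul_zero]
  let σ : Fin N ≃ Fin N := Equiv.addRight ⟨i₀, hi₀⟩
  have hσ : ∀ i : Fin N, ((σ i : Fin N) : ℕ) = (i + i₀) % N := fun i => Fin.val_add _ _
  let ε : Fin N → ℕ := fun i => (i + i₀) / N
  refine ⟨fun i => algebraMap B C (u' ^ ε (σ.symm i)) * w (σ.symm i), ?_, ?_⟩
  · intro i'
    obtain ⟨i, rfl⟩ := σ.surjective i'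
    simp only [Equiv.symm_apply_apply]
    have h1 := z_mul_w hg tors ht hw ha hz i.2
    rw [← hσ i] at h1
    have h2 : algebraMap B C (u' ^ ε i) * (z * w i) =
        algebraMap B C (if N ∣ ((σ i : Fin N) : ℕ) * α then g else 1) * w (σ i : Fin N) := by
      rw [h1, map_mul, ← mul_assoc, ← mul_assoc, ← map_mul, ← mul_pow, hu', one_pow, map_one, one_mul]
    rw [← sub_eq_zero]
    apply hzreg
    rw [mul_sub, sub_eq_zero]
    split_ifs at h2 ⊢ with h
    · rw [map_one, one_mul]
      calc z * (algebraMap B C (u' ^ ε i) * w i) = algebraMap B C (u' ^ ε i) * (z * w i) := by ring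
        _ = algebraMap B C g * w (σ i : Fin N) := h2
        _ = z * (w (σ i : Fin N) * q) := by rw [← hq]; ring
    · rw [map_one, one_mul] at h2
      calc z * (algebraMap B C g * (algebraMap B C (u' ^ ε i) * w i))
          = algebraMap B C g * (algebraMap B C (u' ^ ε i) * (z * w i)) := by ring
        _ = z * (w (σ i : Fin N) * q) := by rw [h2, ← hq]; ring
  · let ψ : (Fin N → B) → (Fin N → B) := fun a i => a (σ i) * u' ^ ε i
    have hψ : Function.Bijective ψ := by
      constructor
      · intro a b hab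
        funext i'
        obtain ⟨i, rfl⟩ := σ.surjective i'
        have h1 := congrFun hab i
        simp only [ψ] at h1
        exact ((IsUnit.of_mul_eq_one _ hu').pow _).mul_left_injective h1
      · intro b
        refine ⟨fun i' => b (σ.symm i') * u ^ ε (σ.symm i'), ?_⟩
        funext i
        simp only [ψ, Equiv.symm_apply_apply]
        rw [mul_assoc, ← mul_pow, mul_comm u u', hu', one_pow, mul_one]
    have hcomp : (fun a : Fin N → B => ∑ i, algebraMap B C (a i) * (algebraMap B C (u' ^ ε (σ.symm i)) * w (σ.symm i))) =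
        (fun a : Fin N → B => ∑ i, algebraMap B C (a i) * w i) ∘ ψ := by
      funext a
      rw [Function.comp_apply, ← σ.sum_comp]
      refine Finset.sum_congr rfl fun i _ => ?_
      simp only [ψ, Equiv.symm_apply_apply]
      rw [map_mul, mul_assoc]
    rw [hcomp]
    exact hbij.comp hψ

end K926.Branch
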