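import Groth.Agent.CycCov.K926.LogIso
import Groth.Agent.CycCov.K926.Perm
import Groth.Agent.CycCov.K926.Eig

/-!
# Differential forms on the charts of a cyclic cover
-/

set_option autoImplicit false
universe u

open CategoryTheory CategoryTheory.Limits AlgebraicGeometry Opposite TopologicalSpace
open Groth.Agent.Sga67.Sec Groth.Agent.Sga67.LocBasis

namespace K926.RamForm

open K892.RankOne K892.Frames K926.Loc K926.Base K922.Coord K922.DSec K922.LogBasis K922.Univ K922.Chart
open K926.LogPull K926.Branch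

theorem isLocBasis_of_mem_span {Y : Scheme.{u}} {M : Y.Modules} {V : Y.Opens} {n : ℕ} {b c : Fin n → Sec M V}
    (hb : IsLocBasis b) (H : ∀ l, b l ∈ Submodule.span Γ(Y, V) (Set.range c)) : IsLocBasis c := by
  intro W hW
  have hsurj : Function.Surjective (comb c hW) := by
    rw [← LinearMap.range_eq_top, eq_top_iff]
    have h1 : ∀ l, res M hW (b l) ∈ LinearMap.range (comb c hW) := by
      intro l
      refine Submodule.span_induction (p := fun x _ => res M hW x ∈ LinearMap.range (comb c hW)) ?_ ?_ ?_ ?_ (H l)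
      · rintro _ ⟨j, rfl⟩
        classical
        refine ⟨Pi.single j 1, ?_⟩
        rw [comb_apply, Finset.sum_eq_single j]
        · simp
        · intro j' _ hj
          simp [hj]
        · simp
      · rw [map_zero]
        exact Submodule.zero_mem _
      · intro x y _ _ hx hy
        rw [map_add]
        exact Submodule.add_mem _ hx hy
      · intro a x _ hx
        rw [res_smul]
        exact Submodule.smul_mem _ _ hx
    rintro x -
    obtain ⟨a, rfl⟩ := (hb W hW).2 x
    rw [comb_apply]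
    exact Submodule.sum_mem _ fun l _ => Submodule.smul_mem _ _ (h1 l)
  refine ⟨?_, hsurj⟩
  let eb := LinearEquiv.ofBijective (comb b hW) (hb W hW)
  let φ : (Fin n → Γ(Y, W)) →ₗ[Γ(Y, W)] (Fin n → Γ(Y, W)) := eb.symm.toLinearMap ∘ₗ (comb c hW)
  have hφ : Function.Surjective φ := eb.symm.surjective.comp hsurj
  have hφi := OrzechProperty.injective_of_surjective_endomorphism φ hφ
  intro x y hxy
  apply hφi
  simp only [φ, LinearMap.comp_apply, hxy]

theorem dS_pow' {X S : Scheme.{u}} {f : X ⟶ S} {Ω : X.Modules} (d : OmegaSh.Der f Ω) (U : X.Opens) (a : Γ(X, U)) (n : ℕ) :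
    dS d U (a ^ n) = ((n : Γ(X, U)) * a ^ (n - 1)) • dS d U a := by
  rcases n with _ | n
  · rw [pow_zero, dS_one]
    simp
  · rw [dS_pow]
    rfl

variable {k : Type u} [Field k] {X Y : Scheme.{u}} {π : Y ⟶ X}
  {f : X ⟶ Spec (CommRingCat.of k)} {r : ℕ} {D : Fin r → X.IdealSheafData}
  {ΩX : X.Modules} {dX : OmegaSh.Der f ΩX} (hdX : OmegaSh.IsUniversal dX)
  {ΩY : Y.Modules} {dY : OmegaSh.Der (π ≫ f) ΩY} (hY : AffUniv dY)
  {L : X.Modules} {N : ℕ} {α : Fin r → ℕ}
  {s : Coh.structureModule X ⟶ CohB1.tensorPow L N}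

/-- The chart of the pole divisor. -/
noncomputable def poleChart {n : ℕ} {U : X.Opens} (c : Chart f D U n) (α : Fin r → ℕ) (N i : ℕ) :
    Chart f (CycCov.poleDiv D α N i) U n where
  v := c.v
  e j := if N ∣ i * α j then none else c.e j
  g j := if N ∣ i * α j then 1 else c.g j
  coord := c.coord
  inj a b l ha hb := by
    split_ifs at ha hb
    exact c.inj a b l ha hb
  g_none j hj := by
    split_ifs at hj ⊢ with h
    · rfl
    · exact c.g_none j hj
  g_some j l hj := by
    split_ifs at hj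
    rename_i h
    rw [if_neg h]
    exact c.g_some j l hj
  ideal j V hV := by
    change (if N ∣ i * α j then ⊤ else D j : X.IdealSheafData).ideal V = _
    split_ifs with h
    · rw [map_one, Ideal.span_singleton_one]
      rfl
    · exact c.ideal j V hV

include hdX hY in
/-- Forms on a ramified chart. -/
theorem exists_form [IsAffineHom π] {d : LocData f D α s} {R : CycCov.Root L N s π} {j₀ : Fin r} {c : Fin d.n}
    {e m a i₀ m₀ : ℕ} {y z : Γ(Y, π ⁻¹ᵁ d.U.1)} (h : IsRam d R j₀ c e m a i₀ m₀ y z) :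
    ∃ (δ : Fin d.n → Sec ΩY (π ⁻¹ᵁ d.U.1)) (q : Γ(Y, π ⁻¹ᵁ d.U.1)), IsLocBasis δ ∧
      q * z = (π.app d.U.1).hom (d.c.v c) ∧ q • δ c = dS dY _ ((π.app d.U.1).hom (d.c.v c)) ∧
      ∀ l, l ≠ c → δ l = dS dY _ ((π.app d.U.1).hom (d.c.v l)) := by
  obtain ⟨y', hy'⟩ := h.isUnit_y.exists_left_inv
  have hm1 : m - 1 + 1 = m := by have := h.arith.hm; omega
  set vc := (π.app d.U.1).hom (d.c.v c) with hvc
  have hvz : vc = y' ^ i₀ * z ^ m := by
    rw [h.hz, ← mul_assoc, ← mul_pow, hy', one_pow, one_mul]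
  let δc : Sec ΩY (π ⁻¹ᵁ d.U.1) := (m : Γ(Y, π ⁻¹ᵁ d.U.1)) • dS dY _ z - ((i₀ : Γ(Y, π ⁻¹ᵁ d.U.1)) * z * y') • dS dY _ y
  have hδc : (y' ^ i₀ * z ^ (m - 1)) • δc = dS dY _ vc := by
    have h1 : dS dY _ (z ^ m) = dS dY _ (y ^ i₀ * vc) := by rw [h.hz]
    rw [dS_mul, dS_pow', dS_pow'] at h1
    have h2 : dS dY _ vc = y' ^ i₀ • (((m : Γ(Y, π ⁻¹ᵁ d.U.1)) * z ^ (m - 1)) • dS dY _ z -
        vc • ((i₀ : Γ(Y, π ⁻¹ᵁ d.U.1)) * y ^ (i₀ - 1)) • dS dY _ y) := by
      rw [h1, add_sub_cancel_right, smul_smul, ← mul_pow, hy', one_pow, _root_.one_smul]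
    have h3 : (i₀ : Γ(Y, π ⁻¹ᵁ d.U.1)) * y ^ (i₀ - 1) * vc = (i₀ : Γ(Y, π ⁻¹ᵁ d.U.1)) * (z ^ (m - 1) * z * y') := by
      rcases Nat.eq_zero_or_pos i₀ with hi | hi
      · simp [hi]
      · rw [mul_assoc]
        congr 1
        have h4 : z ^ (m - 1) * z = y ^ i₀ * vc := by rw [← pow_succ, hm1, h.hz]
        have h5 : y ^ i₀ = y ^ (i₀ - 1) * y := by rw [← pow_succ, Nat.sub_add_cancel hi]
        rw [h4, h5]
        calc y ^ (i₀ - 1) * vc = y ^ (i₀ - 1) * vc * (y' * y) := by rw [hy', mul_one]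
          _ = _ := by ring
    rw [h2, smul_smul vc, smul_sub, smul_sub, smul_smul, smul_smul, smul_smul, smul_smul]
    congr 1
    · congr 1
      ring
    · congr 1
      calc y' ^ i₀ * z ^ (m - 1) * ((i₀ : Γ(Y, π ⁻¹ᵁ d.U.1)) * z * y')
          = y' ^ i₀ * ((i₀ : Γ(Y, π ⁻¹ᵁ d.U.1)) * (z ^ (m - 1) * z * y')) := by ring
        _ = _ := by rw [← h3]; ring
  let δ : Fin d.n → Sec ΩY (π ⁻¹ᵁ d.U.1) := Function.update (fun l => dS dY _ ((π.app d.U.1).hom (d.c.v l))) c δc
  have hδne : ∀ l, l ≠ c → δ l = dS dY _ ((π.app d.U.1).hom (d.c.v l)) := fun l hl => Function.update_of_ne hl _ _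
  have hδe : δ c = δc := Function.update_self _ _ _
  refine ⟨δ, y' ^ i₀ * z ^ (m - 1), ?_, ?_, by rw [hδe, hδc], hδne⟩
  · have hbas := (isCoord922 (V := d.V π) h.coord).isLocBasis hY
    refine isLocBasis_of_mem_span (V := π ⁻¹ᵁ d.U.1) hbas ?_
    set S := Submodule.span Γ(Y, π ⁻¹ᵁ d.U.1) (Set.range δ) with hS
    have hδS : ∀ l, δ l ∈ S := fun l => Submodule.subset_span ⟨l, rfl⟩
    have hv : ∀ l, dS dY _ ((π.app d.U.1).hom (d.c.v l)) ∈ S := by
      intro l
      by_cases hl : l = c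
      · subst hl
        rw [← hvc, ← hδc, ← hδe]
        exact S.smul_mem _ (hδS _)
      · rw [← hδne l hl]
        exact hδS l
    have hb : ∀ b : Γ(X, d.U.1), dS dY _ ((π.app d.U.1).hom b) ∈ S := by
      intro b
      obtain ⟨q, hq⟩ := ((d.c.coord.isLocBasis (affUniv hdX)) _ le_rfl).2 (dS dX _ b)
      rw [← pbF_d hdX, ← hq, comb_apply, map_sum]
      refine S.sum_mem fun l _ => ?_
      rw [res_self, pbF_smul, pbF_d]
      exact S.smul_mem _ (hv l)
    have hyS : dS dY _ y ∈ S := by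
      have h1 := hb d.u
      rw [← h.hy, dS_pow'] at h1
      obtain ⟨p, hp⟩ := (isUnit_natCast (π ≫ f) h.hek (π ⁻¹ᵁ d.U.1)).exists_left_inv
      have h2 := S.smul_mem (p * y' ^ (e - 1)) h1
      rw [smul_smul] at h2
      have h3 : p * y' ^ (e - 1) * ((e : Γ(Y, π ⁻¹ᵁ d.U.1)) * y ^ (e - 1)) = 1 := by
        calc p * y' ^ (e - 1) * ((e : Γ(Y, π ⁻¹ᵁ d.U.1)) * y ^ (e - 1)) =
              (p * (e : Γ(Y, π ⁻¹ᵁ d.U.1))) * (y' * y) ^ (e - 1) := by rw [mul_pow]; ring
          _ = 1 := by rw [hp, hy', one_pow, mul_one]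
      rwa [h3, _root_.one_smul] at h2
    have hzS : dS dY _ z ∈ S := by
      obtain ⟨p, hp⟩ := (isUnit_natCast (π ≫ f) h.hmk (π ⁻¹ᵁ d.U.1)).exists_left_inv
      have h1 : (m : Γ(Y, π ⁻¹ᵁ d.U.1)) • dS dY _ z ∈ S := by
        have h2 : (m : Γ(Y, π ⁻¹ᵁ d.U.1)) • dS dY _ z = δc + ((i₀ : Γ(Y, π ⁻¹ᵁ d.U.1)) * z * y') • dS dY _ y := by
          simp only [δc]
          rw [sub_add_cancel]
        rw [h2]
        refine S.add_mem ?_ (S.smul_mem _ hyS)
        rw [← hδe]
        exact hδS c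
      have h2 := S.smul_mem p h1
      rwa [smul_smul, hp, _root_.one_smul] at h2
    intro l
    by_cases hl : l = c
    · subst hl
      change dS dY _ (Function.update (fun j => (π.app d.U.1).hom (d.c.v j)) l z l) ∈ S
      rw [Function.update_self]
      exact hzS
    · change dS dY _ (Function.update (fun j => (π.app d.U.1).hom (d.c.v j)) c z l) ∈ S
      rw [Function.update_of_ne hl]
      exact hv l
  · rw [hvz, mul_assoc, ← pow_succ, hm1]

theorem fac_poleChart {n : ℕ} {U : X.Opens} (c : Chart f D U n) (α : Fin r → ℕ) (N i : ℕ) (l : Fin n) :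
    fac (poleChart c α N i) l = open Classical in if ∃ j, ¬ N ∣ i * α j ∧ c.e j = some l then c.v l else 1 := by
  classical
  unfold fac
  have h1 : (∃ j, (poleChart c α N i).e j = some l) ↔ ∃ j, ¬ N ∣ i * α j ∧ c.e j = some l := by
    constructor
    · rintro ⟨j, hj⟩
      change (if N ∣ i * α j then none else c.e j) = some l at hj
      split_ifs at hj with h
      exact ⟨j, h, hj⟩
    · rintro ⟨j, h, hj⟩
      refine ⟨j, ?_⟩
      change (if N ∣ i * α j then none else c.e j) = some l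
      rw [if_neg h, hj]
  simp only [h1]
  rfl

/-- The product over an injective family of a function equal to `1` outside `c`. -/
theorem prod_eq_ite {R : Type*} [CommMonoid R] {n q : ℕ} (ε : Fin q → Fin n) (hε : Function.Injective ε) (F : Fin n → R)
    (c : Fin n) (hF : ∀ l, l ≠ c → F l = 1) : ∏ j, F (ε j) = open Classical in if ∃ j, ε j = c then F c else 1 := by
  classical
  split_ifs with h
  · obtain ⟨j, hj⟩ := h
    rw [Finset.prod_eq_single j]
    · rw [hj]
    · intro j' _ hj'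
      apply hF
      intro h1
      exact hj' (hε (h1.trans hj.symm))
    · intro h1
      exact absurd (Finset.mem_univ j) h1
  · refine Finset.prod_eq_one fun j _ => hF _ fun h1 => h ⟨j, h1⟩

include hdX hY in
/-- **The local data of the decomposition.** -/
theorem exists_local [IsAffineHom π] [IsIntegral X] (d : LocData f D α s) [hne : Nonempty d.U.1] {R : CycCov.Root L N s π} (hN : 0 < N)
    (hR : CycCov.IsCover R)
    (hd : IsUnr d π ∨ ∃ j₀ c e m a i₀ m₀ y z, IsRam d R j₀ c e m a i₀ m₀ y z) {w : ℕ → Γ(Y, π ⁻¹ᵁ d.U.1)}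
    (hw : ∀ i < N, (π.app d.U.1).hom (d.G i) * w i = d.t R ^ i)
    (hbij : Function.Bijective (fun a : Fin N → Γ(X, d.U.1) => ∑ i, (π.app d.U.1).hom (a i) * w i)) :
    ∃ (δ : Fin d.n → Sec ΩY (π ⁻¹ᵁ d.U.1)) (Q : Fin d.n → Γ(Y, π ⁻¹ᵁ d.U.1)), IsLocBasis δ ∧
      (∀ l, Q l • δ l = dS dY _ ((π.app d.U.1).hom (d.c.v l))) ∧
      ∀ (q : ℕ) (ε : Fin q → Fin d.n), Function.Injective ε → ∃ x : Fin N → Γ(Y, π ⁻¹ᵁ d.U.1),
        (∀ i : Fin N, (π.app d.U.1).hom (∏ j, fac (poleChart d.c α N i) (ε j)) * x i = w i * ∏ j, Q (ε j)) ∧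
        Function.Bijective (fun a : Fin N → Γ(X, d.U.1) => ∑ i, (π.app d.U.1).hom (a i) * x i) := by
  classical
  rcases hd with h | ⟨j₀, c, e, m, a, i₀, m₀, y, z, h⟩
  · refine ⟨_, fun _ => 1, (isCoord922 (V := d.V π) h.coord).isLocBasis hY, fun l => _root_.one_smul _ _, ?_⟩
    intro q ε _
    refine ⟨fun i => w i, fun i => ?_, hbij⟩
    rw [Finset.prod_eq_one, Finset.prod_eq_one]
    · rw [map_one, one_mul, mul_one]
    · intro _ _
      rfl
    · intro j _
      rw [fac_poleChart, if_neg]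
      rintro ⟨j', h1, h2⟩
      apply h1
      refine Dvd.dvd.mul_left (h.dvd j' ?_) _
      rw [h2]
      exact Option.some_ne_none _
  · obtain ⟨δ, q₀, hδ, hqz, hqδ, hδne⟩ := exists_form hdX hY h
    refine ⟨δ, fun l => if l = c then q₀ else 1, hδ, ?_, ?_⟩
    · intro l
      change (if l = c then q₀ else 1) • δ l = _
      split_ifs with hl
      · rw [hl, hqδ]
      · rw [hδne l hl, _root_.one_smul]
    · intro q ε hε
      let _ := K926.CovSch.alg π d.U.1
      have hcov := d.isCov R hR hN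
      have hg0 : d.c.v c ≠ 0 := by
        rw [← d.c.g_some j₀ c h.hj]
        exact d.g_ne_zero j₀
      have hG : ∀ i, d.G i = d.c.v c ^ (i * α j₀ / N) := by
        intro i
        unfold LocData.G
        rw [Finset.prod_eq_single j₀]
        · rw [d.c.g_some j₀ c h.hj]
        · intro j _ hj
          rcases hj' : d.c.e j with _ | l
          · rw [d.c.g_none j hj', one_pow]
          · rw [h.other j hj (by rw [hj']; exact Option.some_ne_none l), mul_zero, Nat.zero_div, pow_zero]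
        · intro h'
          exact absurd (Finset.mem_univ j₀) h'
      have hF : ∀ (i : ℕ) (l : Fin d.n), l ≠ c → fac (poleChart d.c α N i) l = 1 := by
        intro i l hl
        rw [fac_poleChart, if_neg]
        rintro ⟨j', h1, h2⟩
        apply h1
        have h3 : j' ≠ j₀ := by
          rintro rfl
          rw [h.hj] at h2
          exact hl (Option.some_injective _ h2).symm
        rw [h.other j' h3 (by rw [h2]; exact Option.some_ne_none _), mul_zero]
        exact dvd_zero N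
      have hFc : ∀ i : ℕ, fac (poleChart d.c α N i) c = if N ∣ i * α j₀ then 1 else d.c.v c := by
        intro i
        rw [fac_poleChart]
        by_cases hi : N ∣ i * α j₀
        · rw [if_pos hi, if_neg]
          rintro ⟨j', h1, h2⟩
          have h3 : j' = j₀ := d.c.inj _ _ _ h2 h.hj
          rw [h3] at h1
          exact h1 hi
        · rw [if_neg hi, if_pos ⟨j₀, hi, h.hj⟩]
      by_cases hc : ∃ j, ε j = c
      · obtain ⟨x, hx, hxb⟩ := exists_shift (B := Γ(X, d.U.1)) (C := Γ(Y, π ⁻¹ᵁ d.U.1)) (w := w) (g := d.c.v c) (u := d.u)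
          hg0 d.hu hcov.tors (t := d.t R) (z := z) (q := q₀) (by
            rw [hcov.pow, h.hf]) (fun i hi => by
            rw [← hG]
            exact hw i hi) h.arith h.hzt hbij hqz
        refine ⟨x, fun i => ?_, hxb⟩
        rw [prod_eq_ite ε hε _ c (hF i), prod_eq_ite ε hε _ c (fun l hl => if_neg hl), if_pos hc, if_pos hc, if_pos rfl,
          hFc i]
        exact hx i
      · refine ⟨fun i => w i, fun i => ?_, hbij⟩
        rw [prod_eq_ite ε hε _ c (hF i), prod_eq_ite ε hε _ c (fun l hl => if_neg hl), if_neg hc, if_neg hc, map_one,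
          one_mul, mul_one]

end K926.RamForm
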