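import Groth.Agent.CycCov.K926.IrrSch

/-!
# Functions of the base are regular on the cover
-/

set_option autoImplicit false
universe u

open CategoryTheory CategoryTheory.Limits AlgebraicGeometry Opposite TopologicalSpace
open Groth.Agent.Sga67.Sec Groth.Agent.Sga67.LocBasis

namespace K926.RegY

open K892.RankOne K892.Frames K926.Loc K926.Base K922.Coord

variable {k : Type u} [Field k] {X Y : Scheme.{u}}
  {L : X.Modules} {N : ℕ} {r : ℕ} {D : Fin r → X.IdealSheafData} {α : Fin r → ℕ}
  {s : Coh.structureModule X ⟶ CohB1.tensorPow L N} {π : Y ⟶ X}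
  {f : X ⟶ Spec (CommRingCat.of k)}

theorem isReg_of_ne_zero [IsIntegral X] {U : X.Opens} {h : Γ(X, U)} (hh : h ≠ 0) : IsReg U h := by
  intro V hV a ha
  by_cases hne : (V : Set X).Nonempty
  · have : Nonempty V := hne.to_subtype
    rcases mul_eq_zero.mp ha with h1 | h1
    · exact absurd ((map_eq_zero_iff _ (K926.IrrSch.resO_injective hV hne)).mp h1) hh
    · exact h1
  · have h3 : V = ⊥ := TopologicalSpace.Opens.ext (Set.not_nonempty_iff_eq_empty.mp hne)
    have h4 : Subsingleton Γ(X, V) := by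
      rw [h3]
      infer_instance
    exact Subsingleton.elim _ _

theorem ne_zero_of_isReg {U : X.Opens} {h : Γ(X, U)} (hh : IsReg U h) (hU : (U : Set X).Nonempty) : h ≠ 0 := by
  rintro rfl
  have : Nonempty U := hU.to_subtype
  have h1 := hh U le_rfl 1 (by rw [map_zero, zero_mul])
  exact one_ne_zero h1

/-- Regular functions of the base pull back to regular functions on the cover. -/
theorem isReg_app [IsIntegral X] [Smooth f] (hL : PicF.IsInvertible L) (hN : 0 < N)
    (hD : LogNCD.IsNCD D f)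
    (hs : CycCov.IsZeroDiv (CohB1.tensorPow L N) s (CycCov.divIdeal D α))
    (R : CycCov.Root L N s π) (hR : CycCov.IsCover R) {U : X.Opens} {h : Γ(X, U)} (hh : IsReg U h) :
    IsReg (π ⁻¹ᵁ U) ((π.app U).hom h) := by
  have hred : AlgebraicGeometry.IsReduced Y := K926.CovSch.isReduced_of_normal hR.2.1
  intro W hW a ha
  rw [← basicOpen_eq_bot_iff]
  by_contra hne
  have h1 : ((Y.basicOpen a : Y.Opens) : Set Y).Nonempty := by
    rw [Set.nonempty_iff_ne_empty]
    intro h0
    exact hne (Opens.ext h0)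
  obtain ⟨y, hy⟩ := h1
  have hyU : π y ∈ U := hW (Y.basicOpen_le a hy)
  have hUne : (U : Set X).Nonempty := ⟨_, hyU⟩
  have hh0 := ne_zero_of_isReg hh hUne
  have hne' : ((X.basicOpen h : X.Opens) : Set X).Nonempty := by
    rw [Set.nonempty_iff_ne_empty]
    intro h0
    exact hh0 ((basicOpen_eq_bot_iff h).mp (Opens.ext h0))
  have hd := K926.IrrSch.dense_preimage hL hN hD hs R hR hne'
  obtain ⟨z, hz, hz'⟩ := hd.inter_open_nonempty _ (Y.basicOpen a).2 ⟨y, hy⟩
  have h2 : z ∈ Y.basicOpen (resO Y hW ((π.app U).hom h) * a) := by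
    rw [Scheme.basicOpen_mul]
    refine ⟨?_, hz⟩
    have h3 : Y.basicOpen (resO Y hW ((π.app U).hom h)) = W ⊓ Y.basicOpen ((π.app U).hom h) :=
      Scheme.basicOpen_res Y ((π.app U).hom h) (homOfLE hW).op
    rw [h3]
    refine ⟨Y.basicOpen_le a hz, ?_⟩
    rw [← Scheme.preimage_basicOpen]
    exact hz'
  rw [ha, Scheme.basicOpen_zero] at h2
  exact h2

/-- Finite locally free modules have no torsion for regular functions. -/
theorem eq_zero_of_smul {F : Y.Modules} (hF : FlatMod.IsFinLocFree F) {W : Y.Opens} {h : Γ(Y, W)} (hh : IsReg W h)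
    {x : Sec F W} (hx : h • x = 0) : x = 0 := by
  apply eq_of_locally
  intro y hy
  obtain ⟨V, hVW, hyV, n, b, hb⟩ := Groth.Agent.Sga67.TensorOps.exists_basis_nhd hF hy
  refine ⟨V, hVW, hyV, ?_⟩
  obtain ⟨a, ha⟩ := (hb V le_rfl).2 (res F hVW x)
  have h1 : comb b le_rfl (resO Y hVW h • a) = 0 := by
    rw [map_smul, ha, ← res_smul, hx, map_zero]
  have h2 := (hb V le_rfl).1 (h1.trans (map_zero _).symm)
  have h3 : a = 0 := by
    funext j
    exact hh V hVW (a j) (congrFun h2 j)
  rw [← ha, h3, map_zero, map_zero]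

end K926.RegY
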