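import Groth.Prelude.Def_LogNCD
import Groth.Agent.Pi1.H411.Chart
import Groth.Agent.CurvesC.NodeEt

/-!
# Étale coordinates on affine opens of a scheme over a field
-/

set_option autoImplicit false
universe u

open CategoryTheory CategoryTheory.Limits AlgebraicGeometry Opposite TopologicalSpace

namespace K926.Str

variable {k : Type u} [Field k] {X : Scheme.{u}}

theorem le_pre {S : Scheme.{u}} (f : X ⟶ S) (V : X.Opens) : V ≤ f ⁻¹ᵁ ⊤ := fun _ _ => trivial

/-- The structure map `k → Γ(X, V)`. -/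
noncomputable def str (f : X ⟶ Spec (CommRingCat.of k)) (V : X.Opens) : k →+* Γ(X, V) :=
  (f.appLE ⊤ V (le_pre f V)).hom.comp (Scheme.ΓSpecIso (CommRingCat.of k)).inv.hom

theorem res_comp_str (f : X ⟶ Spec (CommRingCat.of k)) {V W : X.Opens} (h : W ≤ V) :
    (X.presheaf.map (homOfLE h).op).hom.comp (str f V) = str f W := by
  unfold str
  rw [← RingHom.comp_assoc, ← CommRingCat.hom_comp, Scheme.Hom.appLE_map]

theorem str_comp {Y : Scheme.{u}} (π : Y ⟶ X) (f : X ⟶ Spec (CommRingCat.of k)) (V : X.Opens)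
    (W : Y.Opens) (h : W ≤ π ⁻¹ᵁ V) :
    (π.appLE V W h).hom.comp (str f V) = str (π ≫ f) W := by
  unfold str
  rw [← RingHom.comp_assoc, ← CommRingCat.hom_comp, Scheme.Hom.appLE_comp_appLE]

/-- `v` are étale coordinates on the affine open `V`. -/
def IsCoord (f : X ⟶ Spec (CommRingCat.of k)) (V : X.Opens) {σ : Type*} (v : σ → Γ(X, V)) : Prop :=
  (MvPolynomial.eval₂Hom (str f V) v).Etale

theorem eval₂Hom_str (f : X ⟶ Spec (CommRingCat.of k)) (V : X.Opens) {σ : Type*}
    (v : σ → Γ(X, V)) :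
    MvPolynomial.eval₂Hom (str f V) v =
      (MvPolynomial.eval₂Hom (f.appLE ⊤ V (le_pre f V)).hom v).comp
        (MvPolynomial.mapEquiv σ (Scheme.ΓSpecIso (CommRingCat.of k)).symm.commRingCatIsoToRingEquiv).toRingHom := by
  apply MvPolynomial.ringHom_ext
  · intro r
    simp only [MvPolynomial.eval₂Hom_C, RingHom.comp_apply]
    simp [str]
    rfl
  · intro j
    simp

theorem isCoord_iff (f : X ⟶ Spec (CommRingCat.of k)) (V : X.Opens) {σ : Type*}
    (v : σ → Γ(X, V)) :
    IsCoord f V v ↔ (MvPolynomial.eval₂Hom (f.appLE ⊤ V (le_pre f V)).hom v).Etale := by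
  unfold IsCoord
  rw [eval₂Hom_str]
  set e := MvPolynomial.mapEquiv σ (Scheme.ΓSpecIso (CommRingCat.of k)).symm.commRingCatIsoToRingEquiv
  constructor
  · intro h
    have h1 := Groth.Agent.CurvesC.NodeEt.etale_comp
      (RingHom.Etale.of_bijective (f := e.symm.toRingHom) e.symm.bijective) h
    rw [RingHom.comp_assoc] at h1
    convert h1 using 1
    ext x <;> simp
  · intro h
    exact Groth.Agent.CurvesC.NodeEt.etale_comp
      (RingHom.Etale.of_bijective (f := e.toRingHom) e.bijective) h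

/-- Coordinates indexed by `Fin n` in the sense of `NodeEt.IsEtaleCoord`. -/
noncomputable abbrev algk (f : X ⟶ Spec (CommRingCat.of k)) (V : X.Opens) : Algebra k Γ(X, V) :=
  (str f V).toAlgebra

theorem isCoord_iff_isEtaleCoord (f : X ⟶ Spec (CommRingCat.of k)) (V : X.Opens) {n : ℕ}
    (v : Fin n → Γ(X, V)) :
    IsCoord f V v ↔ letI := algk f V; Groth.Agent.CurvesC.NodeEt.IsEtaleCoord k v := Iff.rfl

theorem IsCoord.reindex {f : X ⟶ Spec (CommRingCat.of k)} {V : X.Opens} {σ : Type*} {τ : Type*}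
    (ε : τ ≃ σ) {v : σ → Γ(X, V)} (h : IsCoord f V v) : IsCoord f V (fun j => v (ε j)) := by
  have h1 := Groth.Agent.CurvesC.NodeEt.etale_comp
    (RingHom.Etale.of_bijective (f := (MvPolynomial.renameEquiv k ε).toRingEquiv.toRingHom)
      (MvPolynomial.renameEquiv k ε).bijective) h
  unfold IsCoord
  convert h1 using 1
  apply MvPolynomial.ringHom_ext
  · intro r
    simp
  · intro j
    simp

/-- Coordinates from an étale morphism to affine space. -/
theorem IsCoord.of_homOfVector (f : X ⟶ Spec (CommRingCat.of k)) {V W : X.Opens}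
    (hV : IsAffineOpen V) (h : V ≤ W) {σ : Type u} (v : σ → Γ(W, ⊤))
    (hE : Etale (AffineSpace.homOfVector (W.ι ≫ f) v)) :
    IsCoord f V (fun j => LogNCD.sectOn W h (v j)) := by
  rw [isCoord_iff]
  exact Groth.Agent.Pi1.H411.Chart.etale_eval₂Hom_appLE f ⊤ (isAffineOpen_top _) V hV (le_pre f V) W h v hE

/-- Étale morphisms to affine space from coordinates. -/
theorem IsCoord.homOfVector (f : X ⟶ Spec (CommRingCat.of k)) {V : X.Opens}
    (hV : IsAffineOpen V) {σ : Type u} (v : σ → Γ(X, V)) (h : IsCoord f V v) :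
    Etale (AffineSpace.homOfVector (V.ι ≫ f) (fun j => V.topIso.inv (v j))) := by
  have : IsAffine (V : Scheme.{u}) := hV
  apply Groth.Agent.Pi1.H413.SecChart.etale_homOfVector_of_isAffine
  rw [isCoord_iff] at h
  have h3 : MvPolynomial.eval₂Hom (V.ι ≫ f).appTop.hom (fun j => V.topIso.inv (v j)) =
      V.topIso.inv.hom.comp (MvPolynomial.eval₂Hom (f.appLE ⊤ V (le_pre f V)).hom v) := by
    apply MvPolynomial.ringHom_ext
    · intro r
      simp only [MvPolynomial.eval₂Hom_C, RingHom.comp_apply]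
      have h5 : V.ι.appTop ≫ V.topIso.hom = X.presheaf.map (homOfLE (le_top : V ≤ ⊤)).op := by
        rw [Scheme.Opens.ι_appTop, Scheme.Opens.topIso_hom]
        exact (X.presheaf.map_comp _ _).symm
      have h6 : f.appTop ≫ X.presheaf.map (homOfLE (le_top : V ≤ ⊤)).op =
        f.appLE ⊤ V (le_pre f V) := rfl
      have h4 : (V.ι ≫ f).appTop = f.appLE ⊤ V (le_pre f V) ≫ V.topIso.inv := by
        rw [← h6, ← h5, Scheme.Hom.comp_appTop]
        simp only [Category.assoc, Iso.hom_inv_id, Category.comp_id]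
      exact congr($(h4) r)
    · intro j
      simp
  rw [h3]
  exact (RingHom.Etale.respectsIso).1 _ V.topIso.symm.commRingCatIsoToRingEquiv h

/-- Coordinates restrict to smaller affine opens. -/
theorem IsCoord.res (f : X ⟶ Spec (CommRingCat.of k)) {V W : X.Opens}
    (hV : IsAffineOpen V) (hW : IsAffineOpen W) (h : W ≤ V) {σ : Type u} (v : σ → Γ(X, V))
    (hv : IsCoord f V v) : IsCoord f W (fun j => X.presheaf.map (homOfLE h).op (v j)) := by
  have h1 := IsCoord.of_homOfVector f hW h _ (hv.homOfVector f hV)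
  convert h1 using 2 with j
  rw [LogNCD.sectOn_apply]
  exact congrArg (X.presheaf.map (homOfLE h).op) (congr($(V.topIso.inv_hom_id) (v j))).symm

end K926.Str
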