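import Groth.Agent.CycCov.K926.RamForm
import Groth.Agent.CycCov.K926.ExtPush
import Groth.Agent.CycCov.K926.DivHom
import Groth.Agent.CycCov.K926.EigMap
import Groth.Agent.CycCov.K926.LogFin
import Groth.Agent.Vancyc.H678.TwistFam

/-!
# Wedges of logarithmic forms and their pull-back
-/

set_option autoImplicit false
universe u

open CategoryTheory CategoryTheory.Limits AlgebraicGeometry Opposite TopologicalSpace
open scoped TensorProduct
open Groth.Agent.Sga67.Sec Groth.Agent.Sga67.LocBasis Groth.Agent.Sga67.ExtSheaf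

namespace K926.Wedge

open K892.RankOne K892.Frames K926.Loc K926.Base K922.Coord K922.DSec K922.LogBasis K922.Univ K922.Chart
open K926.LogPull K926.Branch K926.ExtPush K926.DivHom

variable {k : Type u} [Field k] {X Y : Scheme.{u}} {π : Y ⟶ X}
  {f : X ⟶ Spec (CommRingCat.of k)} {r : ℕ} {D' : Fin r → X.IdealSheafData}
  {ΩX : X.Modules} {dX : OmegaSh.Der f ΩX} {hdX : OmegaSh.IsUniversal dX}
  {ΩY : Y.Modules} {dY : OmegaSh.Der (π ≫ f) ΩY}
  {q : ℕ} {P Lb M : X.Modules} {Q : Y.Modules} {Λ : LogNCD.LogMod dX D'}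
  {φP : Phi q ΩX P} {φL : Phi q Λ.L Lb} {φQ : Phi q ΩY Q}

/-- The wedge of a family of sections. -/
noncomputable def wdg {X : Scheme.{u}} {E P : X.Modules} (φ : Phi q E P) (U : X.affineOpens) {n : ℕ} (b : Fin n → Sec E U.1)
    (ε : Fin q → Fin n) : Sec P U.1 := (φ U).symm (exteriorPower.ιMulti Γ(X, U.1) q (fun j => b (ε j)))

theorem wdg_smul {X : Scheme.{u}} {E P : X.Modules} (φ : Phi q E P) (U : X.affineOpens) {n : ℕ} (b : Fin n → Sec E U.1)
    (F : Fin n → Γ(X, U.1)) (ε : Fin q → Fin n) : wdg φ U (fun l => F l • b l) ε = (∏ j, F (ε j)) • wdg φ U b ε := by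
  unfold wdg
  rw [AlternatingMap.map_smul_univ (exteriorPower.ιMulti Γ(X, U.1) q) (fun j => F (ε j)) (fun j => b (ε j)), map_smul]

/-- The inclusion of forms without poles on wedges. -/
theorem K_wdg {K : P ⟶ Lb} (hK : ∀ (U : X.affineOpens) (s : Sec P U.1),
      φL U (appS K U.1 s) = exteriorPower.map q (appS Λ.ι U.1) (φP U s)) {U : X.affineOpens} {n : ℕ} {c : Chart f D' U.1 n}
    (B : LogBasis Λ c) (ε : Fin q → Fin n) :
    appS K U.1 (wdg φP U (fun l => dS dX U.1 (c.v l)) ε) = (∏ j, fac c (ε j)) • wdg φL U B.b ε := by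
  rw [← wdg_smul]
  apply (φL U).injective
  rw [hK]
  unfold wdg
  rw [LinearEquiv.apply_symm_apply, LinearEquiv.apply_symm_apply, exteriorPower.map_apply_ιMulti]
  congr 1
  funext j
  exact (fac_smul B (ε j)).symm

/-- The pull-back on wedges. -/
theorem Θ_wdg [IsAffineHom π] {Θ : P ⟶ (Scheme.Modules.pushforward π).obj Q}
    (hΘ : ∀ (U : X.affineOpens) (e : Fin q → Sec ΩX U.1),
      un π (appS Θ U.1 ((φP U).symm (exteriorPower.ιMulti _ q e))) =
        (φQ (pre π U)).symm (exteriorPower.ιMulti _ q (fun j => un π (appS (pb hdX dY) U.1 (e j)))))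
    {U : X.affineOpens} {n : ℕ} {v : Fin n → Γ(X, U.1)} {δ : Fin n → Sec ΩY (π ⁻¹ᵁ U.1)} {Qc : Fin n → Γ(Y, π ⁻¹ᵁ U.1)}
    (hQ : ∀ l, Qc l • δ l = dS dY _ ((π.app U.1).hom (v l))) (ε : Fin q → Fin n) :
    un π (appS Θ U.1 (wdg φP U (fun l => dS dX U.1 (v l)) ε)) = (∏ j, Qc (ε j)) • wdg φQ (pre π U) δ ε := by
  refine Eq.trans ?_ (wdg_smul φQ (pre π U) δ Qc ε)
  unfold wdg
  rw [hΘ]
  congr 2
  funext j
  exact (pbF_d hdX dY U.1 (v (ε j))).trans (hQ (ε j)).symm

/-- The tensor product of a morphism with the identity on the right. -/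
theorem exists_J (K : P ⟶ Lb) (M : X.Modules) : ∃ J : CohB1.tensorMod P M ⟶ CohB1.tensorMod Lb M,
    ∀ (U : X.Opens) (p : Sec P U) (m : Sec M U),
      appS J U (tau P M U (p ⊗ₜ[Γ(X, U)] m)) = tau Lb M U (appS K U p ⊗ₜ[Γ(X, U)] m) := by
  have hB : Opens.IsBasis (Set.range (fun U : X.Opens => U)) := by
    rw [Set.range_id']
    exact Opens.isBasis_iff_nbhd.mpr (fun {U x} hx => ⟨U, trivial, hx, le_rfl⟩)
  obtain ⟨J, hJ⟩ := exists_tensor_hom hB P M (CohB1.tensorMod Lb M)
    (fun U => (tau Lb M U) ∘ₗ (TensorProduct.map (appS K U) LinearMap.id)) (by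
      intro U V h p m
      simp only [LinearMap.comp_apply, TensorProduct.map_tmul, LinearMap.id_apply]
      rw [appS_res, ← tres_tmul, tau_tres])
  refine ⟨J, fun U p m => ?_⟩
  rw [hJ U]
  rfl

/-- Multiplication of pulled back forms by eigenfunctions. -/
theorem exists_S (Θ : P ⟶ (Scheme.Modules.pushforward π).obj Q)
    (E : M ⟶ (Scheme.Modules.pushforward π).obj (Coh.structureModule Y)) :
    ∃ S : CohB1.tensorMod P M ⟶ (Scheme.Modules.pushforward π).obj Q,
    ∀ (U : X.Opens) (p : Sec P U) (m : Sec M U),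
      un π (appS S U (tau P M U (p ⊗ₜ[Γ(X, U)] m))) = K926.EigMap.toY (appS E U m) • un π (appS Θ U p) := by
  have hB : Opens.IsBasis (Set.range (fun U : X.Opens => U)) := by
    rw [Set.range_id']
    exact Opens.isBasis_iff_nbhd.mpr (fun {U x} hx => ⟨U, trivial, hx, le_rfl⟩)
  obtain ⟨S, hS⟩ := exists_tensor_hom hB P M ((Scheme.Modules.pushforward π).obj Q)
    (fun U => TensorProduct.lift (LinearMap.mk₂ Γ(X, U)
      (fun p m => mk' π (K926.EigMap.toY (appS E U m) • un π (appS Θ U p)))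
      (by
        intro p p' m
        rw [map_add, un_add, smul_add]
        rfl)
      (by
        intro a p m
        rw [map_smul, un_smul, smul_comm]
        rfl)
      (by
        intro p m m'
        rw [map_add, K926.EigMap.toY_add, add_smul]
        rfl)
      (by
        intro a p m
        rw [map_smul, K926.EigMap.toY_smul, mul_smul]
        rfl))) (by
      intro U V h p m
      simp only [TensorProduct.lift.tmul, LinearMap.mk₂_apply]
      rw [appS_res, appS_res, K926.EigMap.toY_res, un_res, ← res_smul]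
      rfl)
  refine ⟨S, fun U p m => ?_⟩
  rw [hS U, TensorProduct.lift.tmul, LinearMap.mk₂_apply]
  rfl

end K926.Wedge
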